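import Cfsg.Agent.BaseTwo.Affine

/-!
A solvable permutation group of order prime to `p` has a colouring of the points by `p` colours
whose stabiliser is trivial.
-/

set_option autoImplicit false
set_option maxHeartbeats 1000000

namespace Cfsg.Agent.BaseTwo

open MulAction
open scoped Pointwise

universe u v

theorem small_distinct {r : ℕ} [Fact r.Prime] (hr : 5 ≤ r) :
    ∀ n : ℕ, 1 ≤ n → n ≤ 4 → (n : ZMod r) ≠ 0 := fun n h1 h2 => by
  exact_mod_cast natCast_zmod_ne (p := r) (a := n) (b := 0) (by omega) (by omega) (by omega)

/-- The affine case. -/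
theorem colour_affine {r m p : ℕ} [Fact r.Prime] [Fact p.Prime] {G : Type v} [Group G] [Finite G]
    [Group.IsSolvable G] [MulAction G (Fin m → ZMod r)] [FaithfulSMul G (Fin m → ZMod r)]
    (hA : IsAffine r m G) (htr : ∀ v, ∃ g : G, ∀ x : Fin m → ZMod r, g • x = x + v)
    (hprim : IsPreprimitive G (Fin m → ZMod r)) (hm : 1 ≤ m) (hcop : (Nat.card G).Coprime p) :
    HasColour p G (Fin m → ZMod r) := by
  classical
  have hrp : r ≠ p := by
    intro e
    subst e
    obtain ⟨g, hg⟩ := htr (Pi.single ⟨0, hm⟩ 1)
    have hpow : ∀ n : ℕ, ∀ x : Fin m → ZMod r,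
        (g ^ n) • x = x + (n : ℕ) • (Pi.single ⟨0, hm⟩ 1 : Fin m → ZMod r) := by
      intro n
      induction n with
      | zero => simp
      | succ n ih => intro x; rw [pow_succ', mul_smul, ih, hg, succ_nsmul, add_assoc]
    have h1 := hpow (Nat.card G) 0
    rw [pow_card_eq_one', one_smul, zero_add] at h1
    have h2 := congrFun h1 ⟨0, hm⟩
    simp only [Pi.zero_apply, Pi.smul_apply, Pi.single_eq_same, nsmul_one] at h2
    have hd := (ZMod.natCast_eq_zero_iff _ _).1 h2.symm
    exact (Fact.out : r.Prime).one_lt.ne' (Nat.dvd_one.1 (hcop ▸ Nat.dvd_gcd hd dvd_rfl))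
  rcases Nat.lt_or_ge p 3 with hp3 | hp3
  · have hp : p = 2 := by have := (Fact.out : p.Prime).two_le; omega
    have hodd : Odd (Nat.card G) := by
      rw [← Nat.coprime_two_right]; exact hp ▸ hcop
    rcases Nat.lt_or_ge m 2 with h | h
    · exact colour_odd_one hA hp (by omega) hodd
    · exact colour_odd hA hp (hp ▸ hrp) h hodd
  by_cases hs : m + 1 < p
  · exact colour_small hA hs
  by_cases hm4 : 4 ≤ m
  · exact colour_triples hA hp3 hm4
  have hp : p = 3 := by
    rcases Nat.lt_or_ge p 5 with h | h
    · have := (Fact.out : p.Prime)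
      interval_cases p <;> first | rfl | exact absurd this (by norm_num) | omega
    · omega
  subst hp
  by_cases hr2 : r = 2
  · subst hr2
    -- the stabiliser of a point has an element of order seven
    let H := stabilizer G (0 : Fin m → ZMod 2)
    letI : DistribMulAction H (Fin m → ZMod 2) :=
      { smul_zero := fun g => g.2
        smul_add := fun g x y => by
          obtain ⟨f, hf⟩ := hA g.1
          have h0 : g.1 • (0 : Fin m → ZMod 2) = 0 := g.2
          show g.1 • (x + y) = g.1 • x + g.1 • y
          rw [hf, hf x, hf y, h0, add_zero, add_zero, add_zero, map_add] }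
    have hE : ∀ v : Fin m → ZMod 2, v + v = 0 := fun v => by
      funext i; simp [CharTwo.add_self_eq_zero]
    have hn2 : ¬ IsPGroup 2 H := by
      intro h2
      -- a fixed nonzero vector gives a block
      haveI : Fact (Nat.Prime 2) := ⟨Nat.prime_two⟩
      have hc : 2 ∣ Nat.card (Fin m → ZMod 2) := by
        rw [Nat.card_fun, Nat.card_zmod, Nat.card_eq_fintype_card, Fintype.card_fin]
        exact dvd_pow_self 2 (by omega)
      have h0 : (0 : Fin m → ZMod 2) ∈ fixedPoints H (Fin m → ZMod 2) := fun g => g.2
      obtain ⟨w, hw, hne⟩ := h2.exists_fixed_point_of_prime_dvd_card_of_fixed_point _ hc h0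
      let K := stabilizer G ({0, w} : Set (Fin m → ZMod 2))
      have hHK : stabilizer G (0 : Fin m → ZMod 2) ≤ K := by
        intro g hg
        rw [mem_stabilizer_iff, Set.smul_set_insert, Set.smul_set_singleton, mem_stabilizer_iff.1 hg,
          show g • w = w from hw ⟨g, hg⟩]
      obtain ⟨t, ht⟩ := htr w
      haveI := hprim
      haveI : Nontrivial (Fin m → ZMod 2) := ⟨w, 0, hne.symm⟩
      rcases (IsPreprimitive.isCoatom_stabilizer_of_isPreprimitive G (0 : Fin m → ZMod 2)).le_iff.1 hHK
        with e | e
      · -- `K = ⊤` moves nothing outside `{0, w}`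
        have hall : ∀ x : Fin m → ZMod 2, x = 0 ∨ x = w := by
          intro x
          obtain ⟨g, hg⟩ := htr x
          have hgK : g ∈ K := e ▸ Subgroup.mem_top g
          have : g • (0 : Fin m → ZMod 2) ∈ ({0, w} : Set (Fin m → ZMod 2)) := by
            rw [← mem_stabilizer_iff.1 hgK]
            exact Set.smul_mem_smul_set (Set.mem_insert _ _)
          rwa [hg, zero_add, Set.mem_insert_iff, Set.mem_singleton_iff] at this
        let i0 : Fin m := ⟨0, by omega⟩
        let i1 : Fin m := ⟨1, by omega⟩
        have a0 := hall (Pi.single i0 1)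
        have a1 := hall (Pi.single i1 1)
        have n0 : (Pi.single i0 (1 : ZMod 2) : Fin m → ZMod 2) ≠ 0 := by simp
        have n1 : (Pi.single i1 (1 : ZMod 2) : Fin m → ZMod 2) ≠ 0 := by simp
        have := congrFun ((a0.resolve_left n0).trans (a1.resolve_left n1).symm) i0
        simp [i0, i1, Pi.single_apply] at this
      · have htK : t ∈ K := by
          rw [mem_stabilizer_iff, Set.smul_set_insert, Set.smul_set_singleton, ht, ht, zero_add, hE,
            Set.pair_comm]
        rw [e, mem_stabilizer_iff, ht, zero_add] at htK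
        exact hne htK.symm
    haveI : Group.IsSolvable H := inferInstance
    have hH3 : (Nat.card H).Coprime 3 := Nat.Coprime.coprime_dvd_left (Subgroup.card_subgroup_dvd_card H) hcop
    -- prime divisors of the order
    have hprimes : ∀ (q : ℕ), q.Prime → q ∣ Nat.card H → q = 2 ∨ (q = 7 ∧ m = 3) := by
      intro q hq hd
      haveI := Fact.mk hq
      obtain ⟨z, hz⟩ := exists_prime_orderOf_dvd_card' (G := H) q hd
      have hq3 : q ≠ 3 := fun e => by
        subst e
        have := Nat.dvd_gcd hd (dvd_refl 3)
        rw [hH3] at this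
        norm_num at this
      let σ : Equiv.Perm (Fin m → ZMod 2) := MulAction.toPermHom H _ z
      have hσ : orderOf σ = q := by
        rw [← hz]
        exact orderOf_injective _ MulAction.toPerm_injective z
      have hle : q ≤ Fintype.card (Fin m → ZMod 2) := by
        obtain ⟨n, hn⟩ := Equiv.Perm.cycleType_prime_order (σ := σ) (by rw [hσ]; exact hq)
        have h2 := σ.sum_cycleType
        rw [hn, hσ, Multiset.sum_replicate, smul_eq_mul] at h2
        refine le_trans ?_ (Finset.card_le_univ σ.support)
        rw [← h2]
        exact Nat.le_mul_of_pos_left _ (Nat.succ_pos n)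
      have hfixclosed : ∀ a b, σ a = a → σ b = b → σ (a + b) = a + b := by
        intro a b ha hb
        show z • (a + b) = a + b
        rw [smul_add]
        exact congrArg₂ (· + ·) ha hb
      rw [Fintype.card_fun, ZMod.card, Fintype.card_fin] at hle
      rcases (by omega : m = 2 ∨ m = 3) with rfl | rfl
      · norm_num at hle
        interval_cases q <;> first | exact Or.inl rfl | omega | (norm_num at hq; done)
      · norm_num at hle
        interval_cases q <;> first | exact Or.inl rfl | exact Or.inr ⟨rfl, rfl⟩ | omega | (norm_num at hq; done) | skip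
        -- an element of order five would fix a subgroup of order four
        exfalso
        have h0 : σ 0 = 0 := smul_zero z
        have hsum : σ.cycleType = {5} := by
          obtain ⟨n, hn⟩ := Equiv.Perm.cycleType_prime_order (σ := σ) (by rw [hσ]; exact hq)
          rw [hσ] at hn
          have h8 := σ.sum_cycleType
          rw [hn, Multiset.sum_replicate, smul_eq_mul] at h8
          have := Finset.card_le_univ σ.support
          rw [← h8, Fintype.card_fun, ZMod.card, Fintype.card_fin] at this
          rw [hn, show n = 0 by omega]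
          rfl
        have hcard : σ.support.card = 5 := by rw [← σ.sum_cycleType, hsum]; rfl
        let Fx : AddSubgroup (Fin 3 → ZMod 2) :=
          { carrier := {a | σ a = a}
            add_mem' := fun {a b} ha hb => hfixclosed a b ha hb
            zero_mem' := h0
            neg_mem' := fun {a} ha => by
              show σ (-a) = -a
              rw [neg_eq_of_add_eq_zero_left (hE a)]
              exact ha }
        have hFx : Nat.card Fx = 3 := by
          show Nat.card {a // σ a = a} = 3
          rw [Nat.card_eq_fintype_card, Fintype.card_subtype]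
          rw [show (Finset.univ.filter fun a => σ a = a) = σ.supportᶜ by ext a; simp]
          rw [Finset.card_compl, hcard]
          rfl
        have := Fx.card_addSubgroup_dvd_card
        rw [hFx, Nat.card_eq_fintype_card, Fintype.card_fun, ZMod.card, Fintype.card_fin] at this
        norm_num at this
    by_cases h7 : 7 ∣ Nat.card H
    · have hm3 : m = 3 := by
        rcases hprimes 7 (by norm_num) h7 with h | h
        · norm_num at h
        · exact h.2
      subst hm3
      haveI : Fact (Nat.Prime 7) := ⟨by norm_num⟩
      obtain ⟨z, hz⟩ := exists_prime_orderOf_dvd_card' (G := H) 7 h7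
      have hz' : ∃ h : H, (∃ x : Fin 3 → ZMod 2, h • x ≠ x) ∧ ∀ x : Fin 3 → ZMod 2, (h ^ 7) • x = x := by
        refine ⟨z, ?_, fun x => by rw [← hz, pow_orderOf_eq_one, one_smul]⟩
        by_contra hall
        push_neg at hall
        have : z = 1 := Subtype.ext (eq_of_smul_eq_smul (α := Fin 3 → ZMod 2) fun x => by
          rw [OneMemClass.coe_one, one_smul]; exact hall x)
        rw [this, orderOf_one] at hz
        norm_num at hz
      refine ⟨fun x => if x = 0 then 1 else if x = pt 2 3 1 then 2 else 0, fun g hg x => ?_⟩
      have e1 : (pt 2 3 1 : Fin 3 → ZMod 2) ≠ 0 := fun e => by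
        have := congrFun e 0
        rw [show (1 : Fin (3 + 1)) = Fin.succ 0 from rfl] at this
        simp [pt] at this
      have z12 : (1 : ZMod 3) ≠ 2 := by
        exact_mod_cast natCast_zmod_ne (p := 3) (a := 1) (b := 2) (by norm_num) (by norm_num) (by norm_num)
      have z20 : (2 : ZMod 3) ≠ 0 := by
        exact_mod_cast natCast_zmod_ne (p := 3) (a := 2) (b := 0) (by norm_num) (by norm_num) (by norm_num)
      have g0 : g • (0 : Fin 3 → ZMod 2) = 0 := by
        have := hg 0
        simp only [if_true] at this
        by_contra hne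
        rw [if_neg hne] at this
        split_ifs at this <;>
          first | exact z12 this | exact z12 this.symm | exact z20 this | exact z20 this.symm | exact zero_ne_one this | exact one_ne_zero this
      have g1 : g • pt 2 3 1 = pt 2 3 1 := by
        have := hg (pt 2 3 1)
        simp only [if_neg e1, if_true] at this
        by_contra hne
        rw [if_neg hne] at this
        split_ifs at this <;>
          first | exact z12 this | exact z12 this.symm | exact z20 this | exact z20 this.symm | exact zero_ne_one this | exact one_ne_zero this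
      exact gl3_semiregular hE (by simp [Nat.card_fun]) hH3 hz' e1 ⟨g, g0⟩ g1 x
    · exfalso
      apply hn2
      haveI : Fact (Nat.Prime 2) := ⟨Nat.prime_two⟩
      refine IsPGroup.of_card (n := (Nat.card H).primeFactorsList.length) ?_
      exact Nat.eq_prime_pow_of_unique_prime_dvd Nat.card_pos.ne' fun {d} hd hdd => by
        rcases hprimes d hd hdd with h | ⟨rfl, -⟩
        · exact h
        · exact absurd hdd h7
  have hr5 : 5 ≤ r := by
    have h := (Fact.out : r.Prime)
    have := h.two_le
    by_contra hlt
    interval_cases r <;> first | omega | exact absurd h (by norm_num)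
  have hne : ∀ n : ℕ, 1 ≤ n → n ≤ 4 → (n : ZMod r) ≠ 0 := small_distinct hr5
  have n1 := hne 1 le_rfl (by norm_num)
  have n2 := hne 2 (by norm_num) (by norm_num)
  have n3 := hne 3 (by norm_num) (by norm_num)
  have n4 := hne 4 (by norm_num) le_rfl
  push_cast at n1 n2 n3 n4
  rcases (by omega : m = 2 ∨ m = 3) with rfl | rfl
  · refine colour_distinct hA le_rfl ![0, 2, -1] ?_ ?_ ?_
    · rw [Fin.sum_univ_three]; simp; norm_num
    · intro i j h
      fin_cases i <;> fin_cases j <;> simp at h ⊢ <;>
        first
        | exact n2 h | exact n2 h.symm | exact n3 (by linear_combination h)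
        | exact n3 (by linear_combination -h) | exact n1 (by linear_combination h)
        | exact n1 (by linear_combination -h)
    · intro i e
      have e2 := congrFun e 1
      fin_cases i <;> simp at e2 <;>
        first
        | exact n2 e2 | exact n1 (by linear_combination e2)
  · refine colour_distinct hA le_rfl ![0, 1, 2, -2] ?_ ?_ ?_
    · rw [Fin.sum_univ_four]; simp
    · intro i j h
      fin_cases i <;> fin_cases j <;> simp at h ⊢ <;>
        first
        | exact n2 h | exact n2 h.symm | exact n1 (by linear_combination h)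
        | exact n1 (by linear_combination -h) | exact n2 (by linear_combination h)
        | exact n2 (by linear_combination -h) | exact n3 (by linear_combination h)
        | exact n3 (by linear_combination -h) | exact n4 (by linear_combination h)
        | exact n4 (by linear_combination -h)
    · intro i e
      have e2 := congrFun e 2
      fin_cases i <;> simp at e2 <;>
        first
        | exact n2 e2 | exact n1 (by linear_combination e2)

theorem exists_coord_module {r : ℕ} [Fact r.Prime] {M : Type*} [AddCommGroup M] [Finite M]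
    [Module (ZMod r) M] : ∃ m, Nonempty ((Fin m → ZMod r) ≃+ M) :=
  ⟨_, ⟨(Module.finBasis (ZMod r) M).equivFun.symm.toAddEquiv⟩⟩

/-- Coordinates on an elementary abelian group. -/
theorem exists_coord {r : ℕ} [Fact r.Prime] {M : Type*} [AddCommGroup M] [Finite M]
    (h : ∀ x : M, r • x = 0) : ∃ m, Nonempty ((Fin m → ZMod r) ≃+ M) :=
  @exists_coord_module r _ M _ _ (AddCommGroup.zmodModule h)

/-- The primitive case. -/
theorem colour_primitive {p : ℕ} [Fact p.Prime] {Ω : Type u} [Finite Ω] [Nontrivial Ω] {G : Type v}
    [Group G] [Finite G] [Group.IsSolvable G] [MulAction G Ω] [FaithfulSMul G Ω]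
    (hprim : IsPreprimitive G Ω) (hcop : (Nat.card G).Coprime p) : HasColour p G Ω := by
  classical
  haveI := hprim
  haveI : Nontrivial G := by
    obtain ⟨a, b, hab⟩ := exists_pair_ne Ω
    obtain ⟨g, hg⟩ := exists_smul_eq G a b
    exact ⟨g, 1, fun e => hab (by rw [← hg, e, one_smul])⟩
  obtain ⟨N, hN⟩ := Core.exists_isMinNormal (G := G)
  haveI := hN.normal
  haveI : IsMulCommutative N := hN.isMulCommutative
  obtain ⟨r, hr, hrN⟩ := hN.exists_prime_pow_eq_one
  haveI := Fact.mk hr
  letI : CommGroup N := { (inferInstance : Group N) with mul_comm := mul_comm' }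
  obtain ⟨m, ⟨co⟩⟩ := exists_coord (r := r) (M := Additive N) fun x => by
    have := hrN x.toMul.1 x.toMul.2
    exact Additive.toMul.injective (Subtype.ext this)
  have hst := PrimReduce.stabilizer_eq_bot_of_abelian hprim hN.ne_bot
  haveI := PrimReduce.isPretransitive_of_normal hprim hN.ne_bot
  obtain ⟨a⟩ : Nonempty Ω := inferInstance
  let pr : (Fin m → ZMod r) → Ω := fun x => (co x).toMul • a
  have hbij : Function.Bijective pr := by
    refine ⟨fun x y h => ?_, fun b => ?_⟩
    · have h' : (co y).toMul⁻¹ * (co x).toMul ∈ stabilizer N a := by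
        rw [mem_stabilizer_iff, mul_smul, inv_smul_eq_iff]
        exact h
      rw [hst, Subgroup.mem_bot, inv_mul_eq_one] at h'
      exact co.injective (Additive.toMul.injective h'.symm)
    · obtain ⟨n, hn⟩ := exists_smul_eq N a b
      exact ⟨co.symm (Additive.ofMul n), by simp [pr, hn]⟩
  let e := Equiv.ofBijective pr hbij
  letI : MulAction G (Fin m → ZMod r) :=
    { smul := fun g x => e.symm (g • e x)
      one_smul := fun x => show e.symm ((1 : G) • e x) = x by rw [one_smul, Equiv.symm_apply_apply]
      mul_smul := fun g h x => show e.symm ((g * h) • e x) = e.symm (g • e (e.symm (h • e x))) by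
        rw [Equiv.apply_symm_apply, mul_smul] }
  have hsm : ∀ (g : G) (x : Fin m → ZMod r), e (g • x) = g • e x := fun g x => e.apply_symm_apply _
  haveI : FaithfulSMul G (Fin m → ZMod r) := ⟨fun {g h} hgh => eq_of_smul_eq_smul fun b : Ω => by
    have := congrArg e (hgh (e.symm b))
    rwa [hsm, hsm, Equiv.apply_symm_apply] at this⟩
  haveI hprim' : IsPreprimitive G (Fin m → ZMod r) := by
    let f : (Fin m → ZMod r) →ₑ[(id : G → G)] Ω := { toFun := e, map_smul' := hsm }
    exact (isPreprimitive_congr Function.surjective_id (f := f) e.bijective).2 hprim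
  have hsum : ∀ x y : Fin m → ZMod r, e (x + y) = ((co x).toMul : G) • e y := fun x y => by
    show (co (x + y)).toMul • a = (co x).toMul • (co y).toMul • a
    rw [map_add, toMul_add, mul_smul]
  have hA : IsAffine r m G := by
    intro g
    let cj : Additive N →+ Additive N := AddMonoidHom.mk'
      (fun n => Additive.ofMul ⟨g * n.toMul * g⁻¹, hN.normal.conj_mem _ n.toMul.2 g⟩) fun x y => by
        apply Additive.toMul.injective
        apply Subtype.ext
        show g * ((x.toMul : G) * y.toMul) * g⁻¹ = g * x.toMul * g⁻¹ * (g * y.toMul * g⁻¹)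
        group
    refine ⟨(co.symm.toAddMonoidHom.comp cj).comp co.toAddMonoidHom, fun x => e.injective ?_⟩
    show e (g • x) = e (co.symm (cj (co x)) + g • 0)
    rw [hsum, hsm, hsm, AddEquiv.apply_symm_apply]
    show g • e x = (g * (co x).toMul * g⁻¹) • g • e 0
    rw [← mul_smul, inv_mul_cancel_right, mul_smul]
    congr 1
    rw [← hsum, add_zero]
  have htr : ∀ v, ∃ g : G, ∀ x : Fin m → ZMod r, g • x = x + v := fun v =>
    ⟨(co v).toMul, fun x => e.injective (by rw [hsm, add_comm, hsum])⟩
  have hm : 1 ≤ m := by
    by_contra hm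
    have hm0 : m = 0 := by omega
    obtain ⟨x, y, hxy⟩ := exists_pair_ne Ω
    apply hxy
    rw [← e.apply_symm_apply x, ← e.apply_symm_apply y]
    congr 1
    funext i
    exact absurd i.2 (by omega)
  obtain ⟨f, hf⟩ := colour_affine hA htr hprim' hm hcop
  refine ⟨f ∘ e.symm, fun g hg b => ?_⟩
  have := hf g (fun x => by
    have := hg (e x)
    simp only [Function.comp_apply, ← hsm, Equiv.symm_apply_apply] at this
    exact this) (e.symm b)
  have h2 := congrArg e this
  rwa [hsm, Equiv.apply_symm_apply] at h2

/-- A colouring with trivial stabiliser exists. -/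
theorem exists_colour_action (p : ℕ) [Fact p.Prime] : ∀ (n : ℕ) (Ω : Type u) [Finite Ω] (G : Type v)
    [Group G] [Finite G] [Group.IsSolvable G] [MulAction G Ω],
    Nat.card Ω = n → (Nat.card G).Coprime p → HasColour p G Ω := by
  intro n
  induction n using Nat.strong_induction_on with
  | _ n ih =>
    intro Ω _ G _ _ _ _ hn hcop
    classical
    rcases subsingleton_or_nontrivial Ω with hs | hnt
    · exact ⟨fun _ => 0, fun g _ x => Subsingleton.elim _ _⟩
    have hcopH : ∀ H : Subgroup G, (Nat.card H).Coprime p := fun H =>
      Nat.Coprime.coprime_dvd_left (Subgroup.card_subgroup_dvd_card H) hcop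
    by_cases htr : IsPretransitive G Ω
    swap
    · have : ∃ a b : Ω, b ∉ orbit G a := by
        by_contra h
        push_neg at h
        exact htr ⟨fun a b => mem_orbit_iff.1 (h a b)⟩
      obtain ⟨a, b, hab⟩ := this
      let O : SubMulAction G Ω :=
        { carrier := orbit G a
          smul_mem' := fun g x hx => mem_orbit_of_mem_orbit g hx }
      let O' : SubMulAction G Ω :=
        { carrier := (orbit G a)ᶜ
          smul_mem' := fun g x hx hgx => hx (by
            have := mem_orbit_of_mem_orbit g⁻¹ hgx
            rwa [inv_smul_smul] at this) }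
      have hlt : ∀ (P : SubMulAction G Ω) (c : Ω), c ∉ P → Nat.card P < n := by
        intro P c hc
        rw [← hn]
        exact Finite.card_subtype_lt hc
      obtain ⟨f₁, h₁⟩ := ih _ (hlt O b hab) O G rfl hcop
      obtain ⟨f₂, h₂⟩ := ih _ (hlt O' a fun h => h (mem_orbit_self a)) O' G rfl hcop
      refine ⟨fun x => if h : x ∈ orbit G a then f₁ ⟨x, h⟩ else f₂ ⟨x, h⟩, fun g hg x => ?_⟩
      by_cases hx : x ∈ orbit G a
      · refine congrArg Subtype.val (h₁ g (fun y => ?_) ⟨x, hx⟩)
        have := hg y.1
        simp only at this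
        rw [dif_pos (show g • y.1 ∈ orbit G a from O.smul_mem g y.2),
          dif_pos (show y.1 ∈ orbit G a from y.2)] at this
        exact this
      · refine congrArg Subtype.val (h₂ g (fun y => ?_) ⟨x, hx⟩)
        have := hg y.1
        simp only at this
        rw [dif_neg (show g • y.1 ∉ orbit G a from O'.smul_mem g y.2),
          dif_neg (show y.1 ∉ orbit G a from y.2)] at this
        exact this
    by_cases hprim : IsPreprimitive G Ω
    · let R := (toPermHom G Ω).range
      haveI : Group.IsSolvable R := Group.isSolvable_of_surjective (toPermHom G Ω).rangeRestrict_surjective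
      have hR : IsPreprimitive R Ω := by
        haveI := hprim
        exact IsPreprimitive.of_surjective (φ := (toPermHom G Ω).rangeRestrict)
          (f := { toFun := id, map_smul' := fun g x => rfl }) Function.surjective_id
      obtain ⟨f, hf⟩ := colour_primitive (G := R) hR
        (Nat.Coprime.coprime_dvd_left (Subgroup.card_range_dvd _) hcop)
      exact ⟨f, fun g hg x => hf ((toPermHom G Ω).rangeRestrict g) hg x⟩
    -- a system of blocks
    have hB : ∃ B : Set Ω, IsBlock G B ∧ B.Nontrivial ∧ B ≠ Set.univ := by
      by_contra h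
      push_neg at h
      refine hprim ⟨fun {B} hB => ?_⟩
      by_cases hs : B.Subsingleton
      · exact Or.inl hs
      · exact Or.inr (h B hB (Set.not_subsingleton_iff.1 hs))
    obtain ⟨B, hB, hBnt, hBu⟩ := hB
    obtain ⟨a, ha⟩ := hBnt.nonempty
    obtain ⟨c, hc⟩ := (Set.ne_univ_iff_exists_notMem _).1 hBu
    let Q : SubMulAction G (Set Ω) :=
      { carrier := orbit G B
        smul_mem' := fun g x hx => mem_orbit_of_mem_orbit g hx }
    choose rep hrep using fun q : Q => mem_orbit_iff.1 q.2
    let π : Ω → Q := fun x => ⟨(exists_smul_eq G a x).choose • B, mem_orbit _ _⟩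
    have hπmem : ∀ x, x ∈ (π x).1 := fun x => by
      rw [← (exists_smul_eq G a x).choose_spec]
      have := Set.smul_mem_smul_set (a := (exists_smul_eq G a x).choose) ha
      show _ ∈ (exists_smul_eq G a ((exists_smul_eq G a x).choose • a)).choose • B
      rwa [(exists_smul_eq G a x).choose_spec] at this ⊢
    have hπuniq : ∀ (x : Ω) (q : Q), x ∈ q.1 → π x = q := by
      intro x q hx
      by_contra hne
      have hd : Disjoint (π x).1 q.1 := by
        have h2 := hB (g₁ := rep (π x)) (g₂ := rep q)
          (fun e => hne (Subtype.ext ((hrep (π x)).symm.trans (e.trans (hrep q)))))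
        change Disjoint (rep (π x) • B) (rep q • B) at h2
        rwa [hrep, hrep] at h2
      exact Set.disjoint_left.1 hd (hπmem x) hx
    have hQlt : Nat.card Q < n := by
      have hsurj : Function.Surjective π := fun q => by
        refine ⟨rep q • a, hπuniq _ q ?_⟩
        rw [← hrep q]
        exact Set.smul_mem_smul_set ha
      rw [← hn]
      refine lt_of_le_of_ne (Nat.card_le_card_of_surjective π hsurj) fun e => ?_
      obtain ⟨b, hb, hba⟩ := hBnt.exists_ne a
      exact hba (((Nat.bijective_iff_surjective_and_card π).2 ⟨hsurj, e.symm⟩).1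
        ((hπuniq b ⟨B, mem_orbit_self B⟩ hb).trans (hπuniq a ⟨B, mem_orbit_self B⟩ ha).symm))
    obtain ⟨c', hc'⟩ := ih _ hQlt Q G rfl hcop
    let H := stabilizer G B
    let BB : SubMulAction H Ω :=
      { carrier := B
        smul_mem' := fun h x hx => by
          have e : (h : G) • B = B := h.2
          rw [← e]
          exact Set.smul_mem_smul_set hx }
    obtain ⟨f₀, hf₀⟩ := ih _ (by rw [← hn]; exact Finite.card_subtype_lt hc) BB H rfl (hcopH H)
    have hback : ∀ x, (rep (π x))⁻¹ • x ∈ B := fun x => by
      have := hπmem x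
      rw [← hrep (π x), Set.mem_smul_set_iff_inv_smul_mem] at this
      exact this
    refine ⟨fun x => f₀ ⟨_, hback x⟩ + c' (π x), fun g hg => ?_⟩
    have hh : ∀ q : Q, (rep (g • q))⁻¹ * g * rep q ∈ H := fun q => by
      rw [mem_stabilizer_iff, mul_smul, mul_smul, hrep, inv_smul_eq_iff, hrep]
      rfl
    have hshift : ∀ (q : Q) (y : BB), f₀ ((⟨_, hh q⟩ : H) • y) = f₀ y + (c' q - c' (g • q)) := by
      intro q y
      have h1 : π (rep q • y.1) = q := hπuniq _ q (by rw [← hrep q]; exact Set.smul_mem_smul_set y.2)
      have h2 : π (g • rep q • y.1) = g • q := hπuniq _ _ (by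
        show g • rep q • y.1 ∈ g • q.1
        rw [← hrep q]
        exact Set.smul_mem_smul_set (Set.smul_mem_smul_set y.2))
      have h3 := hg (rep q • y.1)
      change f₀ ⟨_, hback (g • rep q • y.1)⟩ + c' (π (g • rep q • y.1)) =
        f₀ ⟨_, hback (rep q • y.1)⟩ + c' (π (rep q • y.1)) at h3
      have e1 : (⟨_, hback (rep q • y.1)⟩ : BB) = y := Subtype.ext (by
        show (rep (π (rep q • y.1)))⁻¹ • rep q • y.1 = y.1
        rw [h1, inv_smul_smul])
      have e2 : (⟨_, hback (g • rep q • y.1)⟩ : BB) = (⟨_, hh q⟩ : H) • y := Subtype.ext (by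
        show (rep (π (g • rep q • y.1)))⁻¹ • g • rep q • y.1 = ((rep (g • q))⁻¹ * g * rep q) • y.1
        rw [h2, mul_smul, mul_smul])
      rw [e1, e2, h1, h2] at h3
      linear_combination h3
    have hd0 : ∀ q : Q, c' q - c' (g • q) = 0 := by
      intro q
      have hit : ∀ k : ℕ, f₀ (((⟨_, hh q⟩ : H) ^ k) • ⟨a, ha⟩) = f₀ ⟨a, ha⟩ + k • (c' q - c' (g • q)) := by
        intro k
        induction k with
        | zero => simp
        | succ k ihk => rw [pow_succ', mul_smul, hshift, ihk, succ_nsmul, add_assoc]
      have := hit (Nat.card H)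
      rw [pow_card_eq_one', one_smul, left_eq_add, nsmul_eq_mul] at this
      refine (mul_eq_zero.1 this).resolve_left ?_
      intro h
      rw [ZMod.natCast_eq_zero_iff] at h
      exact (Fact.out : p.Prime).one_lt.ne' (Nat.dvd_one.1 (hcopH H ▸ Nat.dvd_gcd h dvd_rfl))
    have hQfix : ∀ q : Q, g • q = q := hc' g fun q => (sub_eq_zero.1 (hd0 q)).symm
    intro x
    have hfix := hf₀ ⟨_, hh (π x)⟩ (fun y => by rw [hshift, hd0, add_zero]) ⟨_, hback x⟩
    have := congrArg Subtype.val hfix
    change ((rep (g • π x))⁻¹ * g * rep (π x)) • (rep (π x))⁻¹ • x = (rep (π x))⁻¹ • x at this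
    rw [hQfix, mul_smul, mul_smul, smul_inv_smul] at this
    exact MulAction.injective (rep (π x))⁻¹ this

end Cfsg.Agent.BaseTwo
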