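import Cfsg.Agent.BaseTwo.Primitive
import Cfsg.Agent.BaseTwo.Colour
import Cfsg.Agent.SelfDual.Decomp

/-!
Reduction to groups with a scalar maximal abelian normal subgroup.
-/

set_option autoImplicit false
set_option maxHeartbeats 1000000

universe u v

namespace Cfsg.Agent.BaseTwo.Reduce

variable {V : Type v} [AddCommGroup V] {G : Type u} [Group G] [DistribMulAction G V]

/-- The action as a homomorphism. -/
def ρ (V : Type v) [AddCommGroup V] (G : Type u) [Group G] [DistribMulAction G V] : G →* AddMonoid.End V :=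
  DistribMulAction.toAddMonoidEnd G V

theorem ρ_apply (g : G) (v : V) : ρ V G g v = g • v := rfl

theorem ρ_cancel (g : G) : ρ V G g⁻¹ * ρ V G g = 1 := by rw [← map_mul, inv_mul_cancel, map_one]

/-- The ring generated by a subgroup. -/
abbrev ringOf (V : Type v) [AddCommGroup V] [DistribMulAction G V] (B : Subgroup G) : Subring (AddMonoid.End V) :=
  Subring.closure ((fun b => ρ V G b) '' (B : Set G))

theorem ringOf_comm {B : Subgroup G} (hB : ∀ a ∈ B, ∀ b ∈ B, a * b = b * a) :
    ∀ x ∈ ringOf V B, ∀ y ∈ ringOf V B, x * y = y * x := by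
  have h1 : ∀ y ∈ ringOf V B, ∀ b ∈ B, ρ V G b * y = y * ρ V G b := by
    intro y hy b hb
    induction hy using Subring.closure_induction with
    | mem z hz => obtain ⟨c, hc, rfl⟩ := hz; rw [← map_mul, ← map_mul, hB b hb c hc]
    | zero => rw [mul_zero, zero_mul]
    | one => rw [mul_one, one_mul]
    | add s t _ _ hs ht => rw [mul_add, add_mul, hs, ht]
    | neg s _ hs => rw [mul_neg, neg_mul, hs]
    | mul s t _ _ hs ht => rw [← mul_assoc, hs, mul_assoc, ht, mul_assoc]
  intro x hx y hy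
  induction hx using Subring.closure_induction with
  | mem z hz => obtain ⟨c, hc, rfl⟩ := hz; exact h1 y hy c hc
  | zero => rw [mul_zero, zero_mul]
  | one => rw [mul_one, one_mul]
  | add s t _ _ hs ht => rw [mul_add, add_mul, hs, ht]
  | neg s _ hs => rw [mul_neg, neg_mul, hs]
  | mul s t _ _ hs ht => rw [mul_assoc, ht, ← mul_assoc, hs, mul_assoc]

theorem ringOf_conj {B : Subgroup G} (hB : B.Normal) (g : G) {x : AddMonoid.End V} (hx : x ∈ ringOf V B) :
    ρ V G g * x * ρ V G g⁻¹ ∈ ringOf V B := by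
  induction hx using Subring.closure_induction with
  | mem z hz =>
    obtain ⟨c, hc, rfl⟩ := hz
    rw [← map_mul, ← map_mul]
    exact Subring.subset_closure ⟨_, hB.conj_mem c hc g, rfl⟩
  | zero => rw [mul_zero, zero_mul]; exact zero_mem _
  | one => rw [mul_one, ← map_mul, mul_inv_cancel, map_one]; exact one_mem _
  | add s t _ _ hs ht => rw [mul_add, add_mul]; exact add_mem hs ht
  | neg s _ hs => rw [mul_neg, neg_mul]; exact neg_mem hs
  | mul s t _ _ hs ht =>
    have h := mul_mem hs ht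
    rw [show ρ V G g * s * ρ V G g⁻¹ * (ρ V G g * t * ρ V G g⁻¹) = ρ V G g * (s * t) * ρ V G g⁻¹ by
      simp only [mul_assoc]; rw [← mul_assoc (ρ V G g⁻¹), ρ_cancel, one_mul]] at h
    exact h

/-- The commutative ring structure. -/
@[reducible] def ringOfComm {B : Subgroup G} (hB : ∀ a ∈ B, ∀ b ∈ B, a * b = b * a) : CommRing (ringOf V B) :=
  { (inferInstance : Ring (ringOf V B)) with
    mul_comm := fun x y => Subtype.ext (ringOf_comm hB x.1 x.2 y.1 y.2) }

/-- Conjugation on the ring. -/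
def conj {B : Subgroup G} (hB : B.Normal) (g : G) : ringOf V B ≃+* ringOf V B where
  toFun x := ⟨_, ringOf_conj hB g x.2⟩
  invFun x := ⟨_, ringOf_conj hB g⁻¹ x.2⟩
  left_inv x := Subtype.ext (by
    show ρ V G g⁻¹ * (ρ V G g * x.1 * ρ V G g⁻¹) * ρ V G g⁻¹⁻¹ = x.1
    rw [inv_inv, mul_assoc, mul_assoc, mul_assoc, ρ_cancel, mul_one, ← mul_assoc, ρ_cancel, one_mul])
  right_inv x := Subtype.ext (by
    show ρ V G g * (ρ V G g⁻¹ * x.1 * ρ V G g⁻¹⁻¹) * ρ V G g⁻¹ = x.1
    have h : ρ V G g * ρ V G g⁻¹ = 1 := by rw [← map_mul, mul_inv_cancel, map_one]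
    rw [inv_inv, mul_assoc, mul_assoc, mul_assoc, h, mul_one, ← mul_assoc, h, one_mul])
  map_add' x y := Subtype.ext (by
    show ρ V G g * (x.1 + y.1) * ρ V G g⁻¹ = ρ V G g * x.1 * ρ V G g⁻¹ + ρ V G g * y.1 * ρ V G g⁻¹
    rw [mul_add, add_mul])
  map_mul' x y := Subtype.ext (by
    show ρ V G g * (x.1 * y.1) * ρ V G g⁻¹ = ρ V G g * x.1 * ρ V G g⁻¹ * (ρ V G g * y.1 * ρ V G g⁻¹)
    simp only [mul_assoc]; rw [← mul_assoc (ρ V G g⁻¹), ρ_cancel, one_mul])

theorem conj_smul {B : Subgroup G} (hB : B.Normal) (g : G) (x : ringOf V B) (v : V) :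
    g • x.1 v = (conj hB g x).1 (g • v) := by
  show g • x.1 v = ρ V G g (x.1 (ρ V G g⁻¹ (g • v)))
  rw [ρ_apply, ρ_apply, inv_smul_smul]

theorem conj_mul {B : Subgroup G} (hB : B.Normal) (g h : G) (x : ringOf V B) :
    conj hB (g * h) x = conj hB g (conj hB h x) := Subtype.ext (by
  show ρ V G (g * h) * x.1 * ρ V G (g * h)⁻¹ = ρ V G g * (ρ V G h * x.1 * ρ V G h⁻¹) * ρ V G g⁻¹
  rw [mul_inv_rev, map_mul, map_mul]; simp only [mul_assoc])

theorem conj_one {B : Subgroup G} (hB : B.Normal) (x : ringOf V B) : conj hB 1 x = x := Subtype.ext (by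
  show ρ V G 1 * x.1 * ρ V G (1 : G)⁻¹ = x.1
  rw [inv_one, map_one, one_mul, mul_one])

theorem eq_zero_of_coprime {p N : ℕ} (hcop : N.Coprime p) {v : V} (hv : p • v = 0) (h : N • v = 0) : v = 0 :=
  AddMonoid.addOrderOf_eq_one_iff.1 (Nat.eq_one_of_dvd_coprimes hcop (addOrderOf_dvd_of_nsmul_eq_zero h)
    (addOrderOf_dvd_of_nsmul_eq_zero hv))

variable [Finite V] [Finite G]

/-- The primitive case. -/
theorem primitive [Group.IsSolvable G] [Nontrivial V] {p : ℕ} (hp : ∀ v : V, p • v = 0)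
    (hcop : (Nat.card G).Coprime p) (hf : ∀ g : G, (∀ v : V, g • v = v) → g = 1)
    (hfield : ∀ B : Subgroup G, B.Normal → (∀ a ∈ B, ∀ b ∈ B, a * b = b * a) → IsField (ringOf V B)) :
    ∃ x y : V, ∀ g : G, g • x = x → g • y = y → g = 1 := by
  obtain ⟨B, ⟨hBn, hBc⟩, hmax⟩ := Set.Finite.exists_maximal
    (Set.toFinite {B : Subgroup G | B.Normal ∧ ∀ a ∈ B, ∀ b ∈ B, a * b = b * a})
    ⟨⊥, inferInstance, fun a ha b hb => by rw [Subgroup.mem_bot.1 ha, Subgroup.mem_bot.1 hb]⟩
  letI : Field (ringOf V B) := (hfield B hBn hBc).toField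
  haveI : Finite (AddMonoid.End V) := Finite.of_injective _ DFunLike.coe_injective
  let T : Setting (ringOf V B) V G :=
    { σ := conj hBn
      semi := fun g c z => conj_smul hBn g c z
      B := B
      normal := hBn
      comm := hBc
      maxi := fun N hN hc hle => le_antisymm (hmax ⟨hN, hc⟩ hle) hle
      scalar := fun b hb => ⟨⟨_, Subring.subset_closure ⟨b, hb, rfl⟩⟩, fun v => rfl⟩
      refl_of_cent := fun g hg => RingEquiv.ext fun x => Subtype.ext (by
        show ρ V G g * x.1 * ρ V G g⁻¹ = x.1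
        have h : ρ V G g * x.1 = x.1 * ρ V G g := by
          obtain ⟨x, hx⟩ := x
          induction hx using Subring.closure_induction with
          | mem z hz => obtain ⟨c, hc, rfl⟩ := hz; show ρ V G g * ρ V G c = ρ V G c * ρ V G g; rw [← map_mul, ← map_mul, hg c hc]
          | zero => rw [mul_zero, zero_mul]
          | one => rw [mul_one, one_mul]
          | add s t _ _ hs ht => simp only at hs ht ⊢; rw [mul_add, add_mul, hs, ht]
          | neg s _ hs => simp only at hs ⊢; rw [mul_neg, neg_mul, hs]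
          | mul s t _ _ hs ht => simp only at hs ht ⊢; rw [← mul_assoc, hs, mul_assoc, ht, mul_assoc]
        rw [h, mul_assoc, ← map_mul, mul_inv_cancel, map_one, mul_one])
      faithful := hf }
  refine T.exists_base fun h => ?_
  obtain ⟨v, hv⟩ := exists_ne (0 : V)
  refine hv (eq_zero_of_coprime hcop (hp v) ?_)
  rw [← Nat.cast_smul_eq_nsmul (ringOf V B), h, zero_smul]

/-- A decomposition permuted by the group. -/
theorem exists_idempotents [Nontrivial V]
    (hirr : ∀ U : AddSubgroup V, (∀ g : G, ∀ u ∈ U, g • u ∈ U) → U = ⊥ ∨ U = ⊤)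
    (B : Subgroup G) (hBn : B.Normal) (hBc : ∀ a ∈ B, ∀ b ∈ B, a * b = b * a)
    (hnf : ¬ IsField (ringOf V B)) :
    ∃ (ι : Type v) (_ : Fintype ι) (_ : MulAction G ι) (E : ι → AddMonoid.End V) (i0 : ι),
      (∀ i v, E i (E i v) = E i v) ∧ (∀ i j, i ≠ j → ∀ v, E i (E j v) = 0) ∧ (∀ v, ∑ i, E i v = v) ∧
      (∀ (g : G) i v, g • E i v = E (g • i) (g • v)) ∧ (∀ i, ∃ g : G, g • i0 = i) ∧ (∀ i, E i ≠ 0) ∧
      ∃ j, j ≠ i0 := by
  classical
  letI := ringOfComm (V := V) hBc
  haveI : Finite (AddMonoid.End V) := Finite.of_injective _ DFunLike.coe_injective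
  haveI := Fintype.ofFinite (ringOf V B)
  -- no nilpotents
  have hred : ∀ a : ringOf V B, IsNilpotent a → a = 0 := by
    let W : AddSubgroup V :=
      { carrier := {v | ∀ a : ringOf V B, IsNilpotent a → a.1 v = 0}
        add_mem' := fun {x y} hx hy a ha => by rw [map_add, hx a ha, hy a ha, add_zero]
        zero_mem' := fun a _ => map_zero a.1
        neg_mem' := fun {x} hx a ha => by rw [map_neg, hx a ha, neg_zero] }
    have hW : ∀ g : G, ∀ u ∈ W, g • u ∈ W := fun g u hu a ha => by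
      have h := conj_smul hBn g ((conj hBn g).symm a) u
      rw [RingEquiv.apply_symm_apply, hu _ (ha.map (conj hBn g).symm), smul_zero] at h
      exact h.symm
    rcases hirr W hW with h | h
    · exfalso
      obtain ⟨v, hv, hmin⟩ := Set.Finite.exists_minimalFor
        (fun v : V => Nat.card (Set.range fun a : ringOf V B => a.1 v)) {v : V | v ≠ 0} (Set.toFinite _)
        (exists_ne 0)
      refine hv ((AddSubgroup.eq_bot_iff_forall W).1 h v fun n hn => by_contra fun hne => ?_)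
      have hsub : Set.range (fun a : ringOf V B => a.1 (n.1 v)) ⊆ Set.range fun a : ringOf V B => a.1 v := by
        rintro _ ⟨a, rfl⟩; exact ⟨a * n, rfl⟩
      have hge := hmin (show n.1 v ∈ {v : V | v ≠ 0} from hne) (Nat.card_le_card_of_injective _ (Set.inclusion_injective hsub))
      have heq := Set.eq_of_subset_of_ncard_le hsub (by rw [← Nat.card_coe_set_eq, ← Nat.card_coe_set_eq]; exact hge)
      obtain ⟨a, ha⟩ : v ∈ Set.range (fun a : ringOf V B => a.1 (n.1 v)) := heq ▸ ⟨1, rfl⟩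
      have hnil : IsNilpotent (a * n) := (Commute.all a n).isNilpotent_mul_left hn
      obtain ⟨k, hk⟩ := hnil
      have hpow : ∀ k : ℕ, ((a * n) ^ k).1 v = v := by
        intro k
        induction k with
        | zero => rfl
        | succ k ih => rw [pow_succ]; show ((a * n) ^ k).1 ((a * n).1 v) = v; rw [show (a * n).1 v = v from ha, ih]
      exact hv ((hpow k).symm.trans (by rw [hk]; rfl))
    · intro a ha
      refine Subtype.ext (DFunLike.ext _ _ fun v => ?_)
      exact (h ▸ AddSubgroup.mem_top v : v ∈ W) a ha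
  have hnt : Nontrivial (ringOf V B) := by
    obtain ⟨v, hv⟩ := exists_ne (0 : V)
    exact ⟨1, 0, fun e => hv (DFunLike.congr_fun (congrArg Subtype.val e) v)⟩
  -- a nontrivial idempotent
  obtain ⟨a, ha0, hau⟩ : ∃ a : ringOf V B, a ≠ 0 ∧ ¬ IsUnit a := by
    by_contra h
    push_neg at h
    refine hnf ⟨⟨1, 0, one_ne_zero⟩, mul_comm, fun {x} hx => ?_⟩
    obtain ⟨u, rfl⟩ := h x hx
    exact ⟨_, u.mul_inv⟩
  obtain ⟨i, j, hij, heq⟩ : ∃ i j, i < j ∧ a ^ i = a ^ j := by
    obtain ⟨i, j, hne, e⟩ := Finite.exists_ne_map_eq_of_infinite fun k : ℕ => a ^ k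
    rcases lt_or_gt_of_ne hne with h | h
    exacts [⟨i, j, h, e⟩, ⟨j, i, h, e.symm⟩]
  set e := a ^ ((j - i) * (i + 1)) with he
  have hper : ∀ t k, i ≤ k → a ^ (k + t * (j - i)) = a ^ k := by
    intro t
    induction t with
    | zero => intro k _; rw [zero_mul, add_zero]
    | succ t ih =>
      intro k hk
      rw [show k + (t + 1) * (j - i) = (k - i) + (j + t * (j - i)) by
        rw [Nat.succ_mul]; omega, pow_add, pow_add a j, ← heq, ← pow_add, ih i le_rfl, ← pow_add]
      congr 1; omega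
  have hidem : e * e = e := by
    rw [he, ← pow_add]
    exact (congrArg (a ^ ·) (by rw [mul_comm (j - i)])).trans
      (hper (i + 1) _ (le_trans (Nat.le_succ i) (Nat.le_mul_of_pos_left _ (by omega))))
  have he0 : e ≠ 0 := fun h => ha0 (hred a ⟨_, h⟩)
  have he1 : e ≠ 1 := fun h => hau (IsUnit.of_pow_eq_one h (Nat.mul_ne_zero (by omega) (Nat.succ_ne_zero i)))
  -- atoms
  let Atom : ringOf V B → Prop := fun f => f * f = f ∧ f ≠ 0 ∧ ∀ d, d * d = d → f * d = d → d = 0 ∨ d = f
  have hbelow : ∀ f : ringOf V B, f * f = f → f ≠ 0 → ∃ d, Atom d ∧ f * d = d := by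
    intro f hf hf0
    obtain ⟨d, ⟨hd, hd0, hfd⟩, hmin⟩ := Set.Finite.exists_minimalFor
      (fun d : ringOf V B => Nat.card (Set.range (d * ·))) {d | d * d = d ∧ d ≠ 0 ∧ f * d = d}
      (Set.toFinite _) ⟨f, hf, hf0, hf⟩
    refine ⟨d, ⟨hd, hd0, fun c hc hdc => ?_⟩, hfd⟩
    by_contra hno
    rw [not_or] at hno
    have hsub : Set.range (c * ·) ⊆ Set.range (d * ·) := by
      rintro _ ⟨x, rfl⟩; exact ⟨c * x, by show d * (c * x) = c * x; rw [← mul_assoc, hdc]⟩
    have hge := hmin (show c ∈ {d | d * d = d ∧ d ≠ 0 ∧ f * d = d} from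
      ⟨hc, hno.1, by rw [← hdc, ← mul_assoc, hfd]⟩) (Nat.card_le_card_of_injective _ (Set.inclusion_injective hsub))
    have hset := Set.eq_of_subset_of_ncard_le hsub (by rw [← Nat.card_coe_set_eq, ← Nat.card_coe_set_eq]; exact hge)
    obtain ⟨x, hx⟩ : d ∈ Set.range (c * ·) := hset ▸ ⟨1, mul_one d⟩
    have : c * d = d := by rw [← hx]; show c * (c * x) = c * x; rw [← mul_assoc, hc]
    exact hno.2 (by rw [← this, mul_comm, hdc])
  have horth : ∀ f d : ringOf V B, Atom f → Atom d → f ≠ d → f * d = 0 := by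
    intro f d hf hd hne
    have hid : f * d * (f * d) = f * d := by rw [mul_mul_mul_comm, hf.1, hd.1]
    rcases hf.2.2 (f * d) hid (by rw [← mul_assoc, hf.1]) with h | h
    · exact h
    rcases hd.2.2 (f * d) hid (by rw [mul_comm d, mul_assoc, hd.1]) with h' | h'
    · exact h'
    · exact absurd (h.symm.trans h') hne
  have hsum : ∑ f : {f // Atom f}, f.1 = 1 := by
    by_contra hne
    set s := ∑ f : {f // Atom f}, f.1 with hs
    have hfs : ∀ f : {f // Atom f}, f.1 * s = f.1 := fun f => by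
      rw [hs, Finset.mul_sum, Finset.sum_eq_single f (fun g _ hg => horth _ _ f.2 g.2 fun h => hg (Subtype.ext h.symm))
        (fun h => absurd (Finset.mem_univ f) h), f.2.1]
    have hss : s * s = s := by
      conv_lhs => arg 1; rw [hs]
      rw [Finset.sum_mul, Finset.sum_congr rfl fun f _ => hfs f]
    obtain ⟨d, hd, hsd⟩ := hbelow (1 - s) (by rw [sub_mul, one_mul, mul_sub, mul_one, hss, sub_self, sub_zero])
      (sub_ne_zero.2 (Ne.symm hne))
    have := hfs ⟨d, hd⟩
    rw [sub_mul, one_mul, mul_comm, this, sub_self] at hsd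
    exact hd.2.1 hsd.symm
  have hatom : ∀ g f, Atom f → Atom (conj hBn g f) := fun g f hf =>
    ⟨by rw [← map_mul, hf.1], fun h => hf.2.1 ((conj hBn g).injective (h.trans (map_zero _).symm)), fun d hd hfd => by
      obtain ⟨d, rfl⟩ := (conj hBn g).surjective d
      rw [← map_mul] at hd hfd
      rcases hf.2.2 d ((conj hBn g).injective hd) ((conj hBn g).injective hfd) with h | h
      · exact Or.inl (by rw [h, map_zero])
      · exact Or.inr (by rw [h])⟩
  letI act : MulAction G {f // Atom f} :=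
    { smul := fun g f => ⟨conj hBn g f.1, hatom g f.1 f.2⟩
      one_smul := fun f => Subtype.ext (conj_one hBn f.1)
      mul_smul := fun g h f => Subtype.ext (conj_mul hBn g h f.1) }
  obtain ⟨f0, hf0, -⟩ := hbelow e hidem he0
  have hval : ∀ (f : {f // Atom f}), f.1.1 ≠ 0 := fun f h => f.2.2.1 (Subtype.ext h)
  have hsplit : ∀ v, ∑ f : {f // Atom f}, f.1.1 v = v := fun v => by
    let φ : ringOf V B →+ V := AddMonoidHom.mk' (fun x => x.1 v) fun x y => rfl
    calc ∑ f : {f // Atom f}, f.1.1 v = φ (∑ f : {f // Atom f}, f.1) := (map_sum φ _ _).symm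
      _ = v := by rw [hsum]; rfl
  refine ⟨{f // Atom f}, inferInstance, act, fun f => f.1.1, ⟨f0, hf0⟩, fun f v => ?_, fun f d hne v => ?_,
    hsplit, fun g f v => conj_smul hBn g f.1 v, fun d => ?_, hval, ?_⟩
  · exact DFunLike.congr_fun (congrArg Subtype.val f.2.1) v
  · exact DFunLike.congr_fun (congrArg Subtype.val (horth _ _ f.2 d.2 fun h => hne (Subtype.ext h))) v
  · -- transitivity
    by_contra hno
    push_neg at hno
    let U : AddSubgroup V :=
      { carrier := {v | ∀ c : {f // Atom f}, (∀ g : G, g • (⟨f0, hf0⟩ : {f // Atom f}) ≠ c) → c.1.1 v = 0}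
        add_mem' := fun {x y} hx hy c hc => by rw [map_add, hx c hc, hy c hc, add_zero]
        zero_mem' := fun c _ => map_zero c.1.1
        neg_mem' := fun {x} hx c hc => by rw [map_neg, hx c hc, neg_zero] }
    have hU : ∀ g : G, ∀ u ∈ U, g • u ∈ U := fun g u hu c hc => by
      have h := conj_smul hBn g (g⁻¹ • c).1 u
      rw [hu (g⁻¹ • c) (fun k hk => hc (g * k) (by rw [mul_smul, hk, smul_inv_smul])), smul_zero] at h
      exact (h.trans (congrArg (fun c : {f // Atom f} => c.1.1 (g • u)) (smul_inv_smul g c))).symm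
    rcases hirr U hU with h | h
    · apply hval ⟨f0, hf0⟩
      refine DFunLike.ext _ _ fun v => (AddSubgroup.eq_bot_iff_forall U).1 h _ fun c hc => ?_
      exact DFunLike.congr_fun (congrArg Subtype.val (horth _ _ c.2 hf0 fun h => hc 1 (by rw [one_smul]; exact Subtype.ext h.symm))) v
    · exact hval d (DFunLike.ext _ _ fun v => (h ▸ AddSubgroup.mem_top v : v ∈ U) d hno)
  · by_contra hno
    push_neg at hno
    apply he1
    have h1 : f0 = 1 := by
      rw [← hsum, Finset.sum_eq_single (⟨f0, hf0⟩ : {f // Atom f}) (fun d _ hd => absurd (hno d) hd)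
        (fun h => absurd (Finset.mem_univ _) h)]
    rcases hf0.2.2 e hidem (by rw [h1, one_mul]) with h | h
    · exact absurd h he0
    · rw [h, h1]

theorem exists_complement (p : ℕ) [Fact p.Prime] (hp : ∀ v : V, p • v = 0) (hcop : (Nat.card G).Coprime p)
    (U : AddSubgroup V) (hU : ∀ g : G, ∀ u ∈ U, g • u ∈ U) :
    ∃ W : AddSubgroup V, (∀ g : G, ∀ u ∈ W, g • u ∈ W) ∧ (∀ u ∈ U, u ∈ W → u = 0) ∧
      ∀ v : V, ∃ a ∈ U, ∃ b ∈ W, a + b = v := by
  suffices h : ∀ [Module (ZMod p) V], ∃ W : AddSubgroup V, (∀ g : G, ∀ u ∈ W, g • u ∈ W) ∧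
      (∀ u ∈ U, u ∈ W → u = 0) ∧ ∀ v : V, ∃ a ∈ U, ∃ b ∈ W, a + b = v by
    exact @h (AddCommGroup.zmodModule hp)
  intro _
  haveI : SMulCommClass G (ZMod p) V :=
    ⟨fun g c v => ZMod.map_smul (DistribMulAction.toAddMonoidHom V g) c v⟩
  have hG : (Nat.card G : ZMod p) ≠ 0 := fun h =>
    ((Fact.out : p.Prime).coprime_iff_not_dvd.1 hcop.symm) ((ZMod.natCast_eq_zero_iff _ _).1 h)
  obtain ⟨W, hW, hc⟩ := SelfDual.exists_inv_isCompl hG (Representation.ofDistribMulAction (ZMod p) G V)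
    (U := AddSubgroup.toZModSubmodule p U) fun g u hu => hU g u hu
  refine ⟨W.toAddSubgroup, fun g u hu => hW g u hu, fun u hu hu' => ?_, fun v => ?_⟩
  · exact Submodule.disjoint_def.1 hc.disjoint u hu hu'
  · obtain ⟨a, ha, b, hb, e⟩ := Submodule.mem_sup.1
      (show v ∈ AddSubgroup.toZModSubmodule p U ⊔ W by rw [hc.sup_eq_top]; exact Submodule.mem_top)
    exact ⟨a, ha, b, hb, e⟩

theorem smul_nat {A M : Type*} [Group A] [AddCommGroup M] [DistribMulAction A M] (g : A) (k : ℕ) (v : M) :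
    g • (k • v) = k • (g • v) :=
  map_nsmul (DistribMulAction.toAddMonoidHom M g) k v

/-- Two vectors whose common stabiliser acts trivially. -/
theorem exists_two_same (p : ℕ) [Fact p.Prime] : ∀ (n : ℕ) (V : Type v) [AddCommGroup V] [Finite V] (G : Type v)
    [Group G] [Finite G] [Group.IsSolvable G] [DistribMulAction G V], (∀ v : V, p • v = 0) →
    (Nat.card G).Coprime p → Nat.card V = n → ∃ x y : V, ∀ g : G, g • x = x → g • y = y → ∀ v : V, g • v = v := by
  intro n
  induction n using Nat.strong_induction_on with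
  | _ n ih =>
  intro V _ _ G _ _ _ _ hp hcop hn
  classical
  rcases subsingleton_or_nontrivial V with hV | hV
  · exact ⟨0, 0, fun g _ _ v => Subsingleton.elim _ _⟩
  by_cases hirr : ∀ U : AddSubgroup V, (∀ g : G, ∀ u ∈ U, g • u ∈ U) → U = ⊥ ∨ U = ⊤
  swap
  · push_neg at hirr
    obtain ⟨U, hU, hU0, hU1⟩ := hirr
    obtain ⟨W, hW, hdisj, hsup⟩ := exists_complement p hp hcop U hU
    have hW0 : W ≠ ⊤ := fun h => hU0 ((AddSubgroup.eq_bot_iff_forall U).2 fun u hu =>
      hdisj u hu (h ▸ AddSubgroup.mem_top u))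
    have key : ∀ S : AddSubgroup V, (∀ g : G, ∀ u ∈ S, g • u ∈ S) → S ≠ ⊤ →
        ∃ x ∈ S, ∃ y ∈ S, ∀ g : G, g • x = x → g • y = y → ∀ v ∈ S, g • v = v := by
      intro S hS hne
      letI : DistribMulAction G S :=
        { smul := fun g s => ⟨g • s.1, hS g s.1 s.2⟩
          one_smul := fun s => Subtype.ext (one_smul G s.1)
          mul_smul := fun g h s => Subtype.ext (mul_smul g h s.1)
          smul_zero := fun g => Subtype.ext (smul_zero g)
          smul_add := fun g s t => Subtype.ext (smul_add g s.1 t.1) }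
      have hlt : Nat.card S < n := by
        rw [← hn]
        refine lt_of_le_of_ne (Nat.card_le_card_of_injective _ Subtype.val_injective) fun e => hne ?_
        exact AddSubgroup.eq_top_of_card_eq S e
      obtain ⟨x, y, h⟩ := ih _ hlt S G (fun s => Subtype.ext (by rw [AddSubgroup.coe_nsmul]; exact hp s.1)) hcop rfl
      exact ⟨x.1, x.2, y.1, y.2, fun g hx hy v hv => congrArg Subtype.val (h g (Subtype.ext hx) (Subtype.ext hy) ⟨v, hv⟩)⟩
    obtain ⟨x1, hx1, y1, hy1, h1⟩ := key U hU hU1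
    obtain ⟨x2, hx2, y2, hy2, h2⟩ := key W hW hW0
    refine ⟨x1 + x2, y1 + y2, fun g hx hy v => ?_⟩
    have huniq : ∀ a ∈ U, ∀ b ∈ W, g • (a + b) = a + b → g • a = a ∧ g • b = b := by
      intro a ha b hb e
      have hd : g • a - a = b - g • b := by rw [smul_add] at e; linear_combination (norm := abel) e
      have hm : g • a - a = 0 :=
        hdisj _ (U.sub_mem (hU g a ha) ha) (hd ▸ W.sub_mem hb (hW g b hb))
      exact ⟨sub_eq_zero.1 hm, (sub_eq_zero.1 (hd.symm.trans hm)).symm⟩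
    obtain ⟨a1, a2⟩ := huniq x1 hx1 x2 hx2 hx
    obtain ⟨b1, b2⟩ := huniq y1 hy1 y2 hy2 hy
    obtain ⟨a, ha, b, hb, rfl⟩ := hsup v
    rw [smul_add, h1 g a1 b1 a ha, h2 g a2 b2 b hb]
  -- pass to the image
  let H := (MulAction.toPermHom G V).range
  letI : DistribMulAction H V := imgAction (A := G) (Ω := V)
  haveI : Group.IsSolvable H := img_solvable (A := G) (Ω := V)
  have hcopH : (Nat.card H).Coprime p := Nat.Coprime.coprime_dvd_left (Subgroup.card_range_dvd _) hcop
  have hirrH : ∀ U : AddSubgroup V, (∀ g : H, ∀ u ∈ U, g • u ∈ U) → U = ⊥ ∨ U = ⊤ :=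
    fun U hU => hirr U fun g u hu => hU ⟨_, g, rfl⟩ u hu
  suffices hH : ∃ x y : V, ∀ h : H, h • x = x → h • y = y → ∀ v : V, h • v = v by
    obtain ⟨x, y, h⟩ := hH
    exact ⟨x, y, fun g hx hy v => h ⟨_, g, rfl⟩ hx hy v⟩
  by_cases hfield : ∀ B : Subgroup H, B.Normal → (∀ a ∈ B, ∀ b ∈ B, a * b = b * a) → IsField (ringOf V B)
  · obtain ⟨x, y, h⟩ := primitive (V := V) (G := H) hp hcopH (fun h hh => Subtype.ext (Equiv.ext hh)) hfield
    exact ⟨x, y, fun g hx hy v => by rw [h g hx hy, one_smul]⟩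
  push_neg at hfield
  obtain ⟨B, hB, hBc, hnf⟩ := hfield
  obtain ⟨ι, hι, act, E, i0, hidem, horth, hsum, heq, htr, hne, j, hj⟩ := exists_idempotents hirrH B hB hBc hnf
  let V0 : AddSubgroup V := (E i0).range
  let S := MulAction.stabilizer H i0
  have hV0 : ∀ z ∈ V0, E i0 z = z := by rintro _ ⟨w, rfl⟩; exact hidem i0 w
  have hS : ∀ h ∈ S, ∀ z ∈ V0, h • z ∈ V0 := fun h hh z hz => ⟨h • z, by
    have := heq h i0 z
    rw [show h • i0 = i0 from hh, hV0 z hz] at this
    exact this.symm⟩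
  letI : DistribMulAction S V0 :=
    { smul := fun h z => ⟨h.1 • z.1, hS h.1 h.2 z.1 z.2⟩
      one_smul := fun z => Subtype.ext (one_smul H z.1)
      mul_smul := fun h k z => Subtype.ext (mul_smul h.1 k.1 z.1)
      smul_zero := fun h => Subtype.ext (smul_zero h.1)
      smul_add := fun h z w => Subtype.ext (smul_add h.1 z.1 w.1) }
  have hlt : Nat.card V0 < n := by
    rw [← hn]
    refine lt_of_le_of_ne (Nat.card_le_card_of_injective _ Subtype.val_injective) fun e => ?_
    apply hne j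
    refine DFunLike.ext _ _ fun v => ?_
    obtain ⟨w, hw⟩ : E j v ∈ V0 := AddSubgroup.eq_top_of_card_eq V0 e ▸ AddSubgroup.mem_top _
    show E j v = 0
    rw [← hidem, ← hw]
    exact horth j i0 hj w
  obtain ⟨x0, y0, hxy, hx0⟩ : ∃ x0 y0 : V0,
      (∀ h : S, h • x0 = x0 → h • y0 = y0 → ∀ z : V0, h • z = z) ∧ x0.1 ≠ 0 := by
    obtain ⟨a, b, hab⟩ := ih _ hlt V0 S (fun z => Subtype.ext (by rw [AddSubgroup.coe_nsmul]; exact hp z.1))
      (Nat.Coprime.coprime_dvd_left (Subgroup.card_subgroup_dvd_card S) hcopH) rfl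
    by_cases ha : a.1 = 0
    · obtain ⟨v, hv⟩ : ∃ v, E i0 v ≠ 0 := by
        by_contra h
        push_neg at h
        exact hne i0 (DFunLike.ext _ _ h)
      exact ⟨⟨E i0 v, v, rfl⟩, b, fun h _ hy => hab h (by rw [show a = 0 from Subtype.ext ha, smul_zero]) hy, hv⟩
    · exact ⟨a, b, hab, ha⟩
  choose t ht using htr
  obtain ⟨c, hc⟩ := exists_colour_action p _ ι H rfl hcopH
  have hcomp : ∀ (z : ι → V), (∀ i, z i ∈ V0) → ∀ g : H, g • (∑ i, t i • z i) = ∑ i, t i • z i →
      ∀ i, g • t i • z i = t (g • i) • z (g • i) := by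
    intro z hz g hg i
    have hin : ∀ k, E k (t k • z k) = t k • z k := fun k => by
      rw [show E k = E (t k • i0) by rw [ht], ← heq, hV0 _ (hz k)]
    have hproj : ∀ k, E k (∑ l, t l • z l) = t k • z k := fun k => by
      rw [map_sum, Finset.sum_eq_single k (fun l _ hl => by rw [← hin l, horth k l (Ne.symm hl)])
        (fun h => absurd (Finset.mem_univ k) h), hin]
    have := heq g i (∑ l, t l • z l)
    rwa [hg, hproj, hproj] at this
  refine ⟨∑ i, t i • x0.1, ∑ i, t i • (y0.1 + (c i).val • x0.1), fun g hgx hgy => ?_⟩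
  have hkey : ∀ i, ∃ h : S, h.1 = (t (g • i))⁻¹ * g * t i ∧ h • x0 = x0 ∧ h • y0 = y0 ∧ c (g • i) = c i := by
    intro i
    set h : H := (t (g • i))⁻¹ * g * t i with hh
    have hmem : h ∈ S := by
      show h • i0 = i0
      rw [hh, mul_smul, mul_smul, ht, inv_smul_eq_iff, ht]
    have e1 : h • x0.1 = x0.1 := by
      rw [hh, mul_smul, mul_smul, inv_smul_eq_iff]
      exact hcomp (fun _ => x0.1) (fun _ => x0.2) g hgx i
    have e2 : h • (y0.1 + (c i).val • x0.1) = y0.1 + (c (g • i)).val • x0.1 := by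
      rw [hh, mul_smul, mul_smul, inv_smul_eq_iff]
      exact hcomp (fun i => y0.1 + (c i).val • x0.1) (fun i => V0.add_mem y0.2 (V0.nsmul_mem x0.2 _)) g hgy i
    rw [smul_add, smul_nat, e1] at e2
    set Dv := h • y0.1 - y0.1 with hDv
    have hD : Dv = (c (g • i)).val • x0.1 - (c i).val • x0.1 := by
      rw [hDv]; linear_combination (norm := abel) e2
    have hfix : h • Dv = Dv := by rw [hD, smul_sub, smul_nat, smul_nat, e1]
    have hiter : ∀ k : ℕ, h ^ k • y0.1 = y0.1 + k • Dv := by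
      intro k
      induction k with
      | zero => rw [pow_zero, one_smul, zero_smul, add_zero]
      | succ k ihk =>
        rw [pow_succ', mul_smul, ihk, smul_add, smul_nat, hfix, succ_nsmul]
        rw [hDv]; abel
    have hN := hiter (Nat.card H)
    rw [pow_card_eq_one', one_smul, left_eq_add] at hN
    have hD0 : Dv = 0 := eq_zero_of_coprime hcopH (hp Dv) hN
    refine ⟨⟨h, hmem⟩, rfl, Subtype.ext e1, Subtype.ext (sub_eq_zero.1 hD0), ?_⟩
    rw [hD, sub_eq_zero] at hD0
    have ho : addOrderOf x0.1 = p := addOrderOf_eq_prime (hp x0.1) hx0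
    have hmod := nsmul_eq_nsmul_iff_modEq.1 hD0
    rw [ho, ← ZMod.natCast_eq_natCast_iff, ZMod.natCast_zmod_val, ZMod.natCast_zmod_val] at hmod
    exact hmod
  choose hh hval hhx hhy hcc using hkey
  have hid : ∀ i : ι, g • i = i := hc g hcc
  intro v
  have hone : ∀ i, g • E i v = E i v := by
    intro i
    have hw : (t i)⁻¹ • E i v ∈ V0 := ⟨(t i)⁻¹ • v, by
      rw [heq, show (t i)⁻¹ • i = i0 by rw [inv_smul_eq_iff, ht]]; rfl⟩
    have h1 : (hh i).1 • ((t i)⁻¹ • E i v) = (t i)⁻¹ • E i v :=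
      congrArg Subtype.val (hxy (hh i) (hhx i) (hhy i) ⟨_, hw⟩)
    rw [hval, hid, mul_smul, mul_smul, smul_inv_smul] at h1
    exact MulAction.injective (t i)⁻¹ h1
  rw [← hsum v, Finset.smul_sum]
  exact Finset.sum_congr rfl fun i _ => hone i

/-- Two vectors, for groups in any universe. -/
theorem exists_two (p : ℕ) [Fact p.Prime] (V : Type v) [AddCommGroup V] [Finite V] (G : Type u) [Group G]
    [Finite G] [Group.IsSolvable G] [DistribMulAction G V] (hp : ∀ v : V, p • v = 0)
    (hcop : (Nat.card G).Coprime p) : ∃ x y : V, ∀ g : G, g • x = x → g • y = y → ∀ v : V, g • v = v := by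
  letI : DistribMulAction (MulAction.toPermHom G V).range V := imgAction (A := G) (Ω := V)
  haveI : Group.IsSolvable (MulAction.toPermHom G V).range := img_solvable (A := G) (Ω := V)
  obtain ⟨x, y, h⟩ := exists_two_same p _ V (MulAction.toPermHom G V).range hp
    (Nat.Coprime.coprime_dvd_left (Subgroup.card_range_dvd _) hcop) rfl
  exact ⟨x, y, fun g hx hy v => h ⟨_, g, rfl⟩ hx hy v⟩

end Cfsg.Agent.BaseTwo.Reduce
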