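import Cfsg.Agent.BaseTwo.System

/-!
Two vectors with trivial common stabiliser for a group with a scalar maximal abelian normal subgroup.
-/

set_option autoImplicit false
set_option maxHeartbeats 1000000

universe u

namespace Cfsg.Agent.BaseTwo.Setting

variable {K V : Type*} {G : Type u} [Field K] [AddCommGroup V] [Module K V] [Group G] [DistribMulAction G V]
  [Finite G] [Group.IsSolvable G] [Finite K] [Nontrivial V] {T : Setting K V G} {D : Subgroup G}

/-- Every chief factor has a local solution. -/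
theorem Chief.exists_local (hD : T.Chief D) (hA : (Nat.card G : K) ≠ 0) : T.Local D := by
  obtain ⟨r, hrp, hr⟩ := Chief.exists_prime hD
  have := Fact.mk hrp
  have hdvd := Chief.prime_dvd hD hrp hr
  by_cases hr2 : r = 2
  swap
  · have hN : ∀ q : K, q ^ r = 1 → q ^ (r * (r - 1) / 2) = 1 := fun q hq => by
      obtain ⟨o, ho⟩ := hrp.odd_of_ne_two hr2
      rw [show r * (r - 1) / 2 = r * o by
        rw [show r - 1 = 2 * o by omega, mul_left_comm, Nat.mul_div_cancel_left _ two_pos], pow_mul, hq, one_pow]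
    refine Chief.local_of hD hrp.ne_zero hr (fun ε => ε = 1) rfl (fun d hd => ?_) ?_
      (fun g ε h => by rw [h, map_one]) fun S hexp hop _ => PS.solvable_odd hr2 S hexp (fun v => ?_) hA
    · obtain ⟨k, hk, e⟩ := Chief.exists_normal hD hrp hr (fun q hq => ⟨1, by rw [hN q hq, one_pow]⟩) d hd
      exact ⟨k, 1, hk, rfl, by rw [e, one_smul]⟩
    · rintro c q _ _ _ - hq rfl rfl rfl h
      rw [hN q hq, mul_one, mul_one, mul_one] at h
      exact h
    · obtain ⟨ε, rfl, e⟩ := hop v
      rw [e, one_smul]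
  subst hr2
  have hsq2 : (2 : K) ≠ 0 := by exact_mod_cast cast_ne_of_dvd Nat.prime_two hdvd
  haveI := Fintype.ofFinite K
  have hodd : Nat.card K % 2 = 1 := by
    have := Nat.card_pos (α := K)
    omega
  by_cases h4 : 4 ∣ Nat.card K - 1
  · obtain ⟨i, hi⟩ : IsSquare (-1 : K) := FiniteField.isSquare_neg_one_iff.2 (by
      rw [← Nat.card_eq_fintype_card]; omega)
    refine Chief.local_of hD (n := 4) four_ne_zero hr (fun ε => ε = 1) rfl (fun d hd => ?_) ?_
      (fun g ε h => by rw [h, map_one]) fun S hexp hop _ => PS.solvable_four S hexp (fun v => ?_) h4 hA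
    · obtain ⟨k, hk, e⟩ := Chief.exists_normal hD hrp hr (fun q hq => by
        rcases sq_eq_one_iff.1 hq with rfl | rfl
        · exact ⟨1, by simp⟩
        · exact ⟨i, by rw [show 2 * (2 - 1) / 2 = 1 from rfl, pow_one, pow_two, hi]⟩) d hd
      exact ⟨k, 1, hk, rfl, by rw [e, one_smul]⟩
    · rintro c q _ _ _ - hq rfl rfl rfl h
      rw [show 2 * (2 - 1) / 2 = 1 from rfl, pow_one, mul_one, mul_one, mul_one] at h
      rw [show c ^ 4 = (c ^ 2) ^ 2 by ring, h, hq]
    · obtain ⟨ε, rfl, e⟩ := hop v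
      rw [e, one_smul]
  have h3 : Nat.card K % 4 = 3 := by omega
  have hnsq : ∀ k : K, k * k ≠ -1 := fun k h => FiniteField.isSquare_neg_one_iff.1 ⟨k, h.symm⟩
    (by rw [← Nat.card_eq_fintype_card]; exact h3)
  have hchar : ringChar K ≠ 2 := fun h => by
    have := FiniteField.even_card_iff_char_two.1 h
    rw [← Nat.card_eq_fintype_card] at this
    omega
  refine Chief.local_of hD (n := 2) two_ne_zero hr (fun ε => ε = 1 ∨ ε = -1) (Or.inl rfl) (fun d hd => ?_) ?_
    (fun g ε h => by rcases h with rfl | rfl <;> simp) fun S hexp hop hirr =>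
      PS.solvable_sign S hexp (fun v => ?_) hnsq (by omega) hA hirr
  · obtain ⟨k0, hk0, ek⟩ := T.L_scalar (d ^ 2) (hr d.1 hd)
    rw [T.L_pow] at ek
    obtain ⟨j, ε, hε, hj⟩ : ∃ j ε : K, (ε = 1 ∨ ε = -1) ∧ j * j * k0 = ε := by
      rcases FiniteField.pow_dichotomy hchar hk0 with h | h
      · obtain ⟨s, hs⟩ := (FiniteField.isSquare_iff hchar hk0).2 h
        have hs0 : s ≠ 0 := fun e => hk0 (by rw [hs, e, mul_zero])
        exact ⟨s⁻¹, 1, Or.inl rfl, by rw [hs]; field_simp⟩
      · obtain ⟨s, hs⟩ := (FiniteField.isSquare_iff hchar (neg_ne_zero.2 hk0)).2 (by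
          rw [neg_pow, h]
          have h1 : (-1 : K) ^ (Fintype.card K / 2) = -1 := by
            refine Odd.neg_one_pow ?_
            rw [← Nat.card_eq_fintype_card, Nat.odd_iff]
            omega
          rw [h1]; ring)
        have hs0 : s ≠ 0 := fun e => hk0 (neg_eq_zero.1 (by rw [hs, e, mul_zero]))
        refine ⟨s⁻¹, -1, Or.inr rfl, ?_⟩
        rw [show k0 = -(s * s) by rw [← hs, neg_neg]]
        field_simp
    refine ⟨j, ε, fun e => ?_, hε, by rw [smul_pow, ek, smul_smul, pow_two, hj]⟩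
    rw [e, zero_mul, zero_mul] at hj
    rcases hε with rfl | rfl
    · exact zero_ne_one hj
    · exact one_ne_zero (neg_eq_zero.1 hj.symm)
  · intro c q ε ε' ε'' _ hq he he' he'' h
    rw [show 2 * (2 - 1) / 2 = 1 from rfl, pow_one] at h
    rcases sq_eq_one_iff.1 hq with rfl | rfl <;> rcases he with rfl | rfl <;> rcases he' with rfl | rfl <;>
      rcases he'' with rfl | rfl <;> simp only [mul_one, one_mul, neg_mul, mul_neg, neg_neg] at h <;>
      first
        | exact h
        | exact neg_inj.1 h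
        | exact absurd ((pow_two c).symm.trans h) (hnsq c)
        | exact absurd ((pow_two c).symm.trans (neg_eq_iff_eq_neg.1 h)) (hnsq c)
  · obtain ⟨ε, hε, e⟩ := hop v
    rcases hε with rfl | rfl
    · exact Or.inl (by rw [e, one_smul])
    · exact Or.inr (by rw [e, neg_one_smul])

theorem alg_mem {e : Module.End K V} (he : e ∈ T.algOf D) (hD : D.Normal) {g : G} {x : V} (hg : g • x = x) :
    ∃ e' ∈ T.algOf D, g • e x = e' x := by
  induction he using Submodule.span_induction with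
  | mem y hy =>
    obtain ⟨d, hd, rfl⟩ := hy
    haveI := T.C_normal
    refine ⟨T.L ⟨g * d.1 * g⁻¹, T.C_normal.conj_mem _ d.2 g⟩, Submodule.subset_span ⟨_, hD.conj_mem _ hd g, rfl⟩, ?_⟩
    show g • d.1 • x = (g * d.1 * g⁻¹) • x
    rw [mul_smul, mul_smul, show g⁻¹ • x = x by rw [inv_smul_eq_iff, hg]]
  | zero => exact ⟨0, zero_mem _, by simp⟩
  | add a b _ _ ha hb =>
    obtain ⟨a', ha', ea⟩ := ha
    obtain ⟨b', hb', eb⟩ := hb
    exact ⟨a' + b', add_mem ha' hb', by rw [LinearMap.add_apply, smul_add, ea, eb, LinearMap.add_apply]⟩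
  | smul k a _ ha =>
    obtain ⟨a', ha', ea⟩ := ha
    exact ⟨T.σ g k • a', Submodule.smul_mem _ _ ha', by rw [LinearMap.smul_apply, T.semi, ea, LinearMap.smul_apply]⟩

/-- Commuting subgroups have commuting operators. -/
theorem alg_comm {D' : Subgroup G} (h : ∀ a ∈ D, ∀ b ∈ D', a * b = b * a) {e : Module.End K V}
    (he : e ∈ T.algOf D) {d : G} (hd : d ∈ D') (hdC : d ∈ T.C) (z : V) : e (d • z) = d • e z := by
  induction he using Submodule.span_induction with
  | mem y hy =>
    obtain ⟨a, ha, rfl⟩ := hy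
    show a.1 • d • z = d • a.1 • z
    rw [← mul_smul, ← mul_smul, h a.1 ha d hd]
  | zero => simp
  | add a b _ _ ha hb => simp only [LinearMap.add_apply, smul_add, ha, hb]
  | smul k a _ ha => rw [LinearMap.smul_apply, LinearMap.smul_apply, ha, T.lin hdC]

variable (T)

include T in
/-- The global solution. -/
theorem exists_base_of_local (hl : ∀ D, T.Chief D → T.Local D) :
    ∃ x y : V, ∀ g : G, g • x = x → g • y = y → g = 1 := by
  classical
  haveI := T.normal
  haveI := T.C_normal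
  -- a maximal family of commuting chief factors
  obtain ⟨s, ⟨hch, hpw⟩, hmax⟩ := Set.Finite.exists_maximal
    (Set.toFinite {s : Set (Subgroup G) | (∀ D ∈ s, T.Chief D) ∧
      ∀ D ∈ s, ∀ D' ∈ s, D ≠ D' → ∀ a ∈ D, ∀ b ∈ D', a * b = b * a}) ⟨∅, by simp, by simp⟩
  have hloc : ∀ D : s, T.Local D.1 := fun D => hl D.1 (hch D.1 D.2)
  choose Es hEs hU hsolve using hloc
  haveI : Fintype s := Fintype.ofFinite s
  -- a joint vector
  obtain ⟨x, hx, hfix⟩ : ∃ x : V, x ≠ 0 ∧ ∀ D : s, ∀ e ∈ Es D, e x = x := by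
    suffices h : ∀ t : Finset s, ∃ x : V, x ≠ 0 ∧ ∀ D ∈ t, ∀ e ∈ Es D, e x = x by
      obtain ⟨x, hx, h⟩ := h Finset.univ
      exact ⟨x, hx, fun D => h D (Finset.mem_univ D)⟩
    intro t
    induction t using Finset.induction with
    | empty =>
      obtain ⟨x, hx⟩ := exists_ne (0 : V)
      exact ⟨x, hx, by simp⟩
    | insert D t hDt ih =>
      let U : Submodule K V :=
        { carrier := {z | ∀ D' ∈ t, ∀ e ∈ Es D', e z = z}
          add_mem' := fun {a b} ha hb D' hD' e he => by rw [map_add, ha D' hD' e he, hb D' hD' e he]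
          zero_mem' := fun D' _ e _ => map_zero e
          smul_mem' := fun k a ha D' hD' e he => by rw [map_smul, ha D' hD' e he] }
      have hUD : ∀ d ∈ D.1, ∀ u ∈ U, d • u ∈ U := fun d hd u hu D' hD' e he => by
        have hne : D'.1 ≠ D.1 := fun h => hDt (Subtype.ext h ▸ hD')
        rw [alg_comm (hpw D'.1 D'.2 D.1 D.2 hne) (hEs D' he) hd ((hch D.1 D.2).le hd), hu D' hD' e he]
      obtain ⟨x0, hx0, h0⟩ := ih
      obtain ⟨x, hxU, hx, hxe⟩ := hU D U hUD fun h => hx0 ((Submodule.eq_bot_iff U).1 h x0 h0)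
      exact ⟨x, hx, fun D' hD' => by
        rcases Finset.mem_insert.1 hD' with rfl | h
        · exact hxe
        · exact hxU D' h⟩
  have hs := fun D => hsolve D x hx (hfix D)
  choose P hP f hf hPx hPd hg using hs
  have hPf : ∀ D D' : s, D ≠ D' → ∀ d ∈ D'.1, P D (d • x) = d • x := fun D D' hne d hd => by
    rw [alg_comm (hpw D.1 D.2 D'.1 D'.2 fun h => hne (Subtype.ext h)) (hP D) hd ((hch D'.1 D'.2).le hd), hPx]
  -- projections
  have hQ : ∀ t : Finset s, ∃ Q : Module.End K V, Q x = x ∧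
      ∀ D : s, ∀ d ∈ D.1, (D ∉ t → Q (d • x) = d • x) ∧ (D ∈ t → ∃ k : K, Q (d • x) = k • x) := by
    intro t
    induction t using Finset.induction with
    | empty => exact ⟨1, rfl, fun D d _ => ⟨fun _ => rfl, fun h => absurd h (Finset.notMem_empty D)⟩⟩
    | insert D t hDt ih =>
      obtain ⟨Q, hQx, hQd⟩ := ih
      refine ⟨Q * P D, by rw [Module.End.mul_apply, hPx, hQx], fun D' d hd => ⟨fun h => ?_, fun h => ?_⟩⟩
      · rw [Finset.mem_insert, not_or] at h
        rw [Module.End.mul_apply, hPf D D' (Ne.symm h.1) d hd, (hQd D' d hd).1 h.2]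
      · rcases eq_or_ne D' D with rfl | hne
        · obtain ⟨k, hk⟩ := hPd D' d hd
          exact ⟨k, by rw [Module.End.mul_apply, hk, map_smul, hQx]⟩
        · obtain ⟨k, hk⟩ := (hQd D' d hd).2 ((Finset.mem_insert.1 h).resolve_left hne)
          exact ⟨k, by rw [Module.End.mul_apply, hPf D D' (Ne.symm hne) d hd, hk]⟩
  obtain ⟨θ, hθ⟩ := IsCyclic.exists_generator (α := Kˣ)
  refine ⟨x, θ.1 • x + ∑ D, f D x, fun g hgx hgy => ?_⟩
  rw [smul_add, T.semi, hgx, Finset.smul_sum] at hgy
  have hsum : (T.σ g θ.1 - θ.1) • x + ∑ D, (g • f D x - f D x) = 0 := by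
    rw [Finset.sum_sub_distrib, sub_smul, ← sub_eq_zero.2 hgy]
    abel
  have hzero : ∀ D : s, g • f D x - f D x = 0 ∧ (T.σ g = RingEquiv.refl K → ∀ d ∈ D.1, g * d = d * g) := by
    intro D0
    obtain ⟨Q, hQx, hQd⟩ := hQ (Finset.univ.erase D0)
    have hout : ∀ D, ∀ e ∈ T.algOf D.1, (D = D0 → Q (e x) = e x) ∧ (D ≠ D0 → ∃ k : K, Q (e x) = k • x) := by
      intro D e he
      induction he using Submodule.span_induction with
      | mem y hy =>
        obtain ⟨d, hd, rfl⟩ := hy
        exact ⟨fun h => (hQd D d.1 hd).1 (by simp [h]), fun h => (hQd D d.1 hd).2 (by simp [h])⟩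
      | zero => exact ⟨fun _ => by simp, fun _ => ⟨0, by simp⟩⟩
      | add a b _ _ ha hb =>
        refine ⟨fun h => by rw [LinearMap.add_apply, map_add, ha.1 h, hb.1 h], fun h => ?_⟩
        obtain ⟨k, hk⟩ := ha.2 h
        obtain ⟨l, hl⟩ := hb.2 h
        exact ⟨k + l, by rw [LinearMap.add_apply, map_add, hk, hl, add_smul]⟩
      | smul c a _ ha =>
        refine ⟨fun h => by rw [LinearMap.smul_apply, map_smul, ha.1 h], fun h => ?_⟩
        obtain ⟨k, hk⟩ := ha.2 h
        exact ⟨c * k, by rw [LinearMap.smul_apply, map_smul, hk, mul_smul]⟩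
    have hterm : ∀ D, ∃ e ∈ T.algOf D.1, g • f D x - f D x = e x := fun D => by
      obtain ⟨e, he, h⟩ := alg_mem (hf D) (hch D.1 D.2).normal hgx
      exact ⟨e - f D, sub_mem he (hf D), by rw [h, LinearMap.sub_apply]⟩
    choose e he hee using hterm
    have hk : ∀ D, D ≠ D0 → ∃ k : K, Q (e D x) = k • x := fun D h => (hout D _ (he D)).2 h
    choose! k hk using hk
    have h := congrArg Q hsum
    simp only [hee, map_add, map_smul, map_sum, map_zero, hQx] at h
    rw [← Finset.add_sum_erase _ _ (Finset.mem_univ D0), (hout D0 _ (he D0)).1 rfl,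
      Finset.sum_congr rfl (fun D hD => hk D (Finset.ne_of_mem_erase hD)), ← Finset.sum_smul] at h
    obtain ⟨hs0, hc⟩ := hg D0 g hgx (-(T.σ g θ.1 - θ.1 + ∑ D ∈ Finset.univ.erase D0, k D)) (by
      rw [hee, neg_smul, eq_neg_iff_add_eq_zero, ← h, add_smul]; abel)
    refine ⟨?_, hc⟩
    rw [hee, ← add_eq_left (a := (T.σ g θ.1 - θ.1 + ∑ D ∈ Finset.univ.erase D0, k D) • x),
      neg_eq_zero.1 hs0, zero_smul, zero_add]
    have := neg_eq_zero.1 hs0
    rw [← h]
    have h2 : (T.σ g θ.1 - θ.1) • x + (∑ D ∈ Finset.univ.erase D0, k D) • x = 0 := by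
      rw [← add_smul, this, zero_smul]
    rw [add_left_comm, h2, add_zero]
  have hσθ : T.σ g θ.1 = θ.1 := by
    rw [Finset.sum_eq_zero (fun D _ => (hzero D).1), add_zero] at hsum
    exact sub_eq_zero.1 ((smul_eq_zero.1 hsum).resolve_right hx)
  have hσ : T.σ g = RingEquiv.refl K := RingEquiv.ext fun k => by
    rcases eq_or_ne k 0 with rfl | hk
    · simp
    obtain ⟨i, hi⟩ := mem_powers_iff_mem_zpowers.2 (hθ (Units.mk0 k hk))
    rw [show k = θ.1 ^ i from (congrArg Units.val hi).symm, map_pow, hσθ, RingEquiv.refl_apply]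
  -- the common centraliser consists of scalars
  let E : Subgroup G := T.C ⊓ ⨅ D : s, Subgroup.centralizer (D.1 : Set G)
  have hgE : g ∈ E := ⟨T.mem_C.2 fun b hb => T.cent_of_refl hσ hb,
    Subgroup.mem_iInf.2 fun D d hd => ((hzero D).2 hσ d hd).symm⟩
  have hEn : E.Normal := ⟨fun a ha b => ⟨T.C_normal.conj_mem a ha.1 b, Subgroup.mem_iInf.2 fun D d hd => by
    have h := (Subgroup.mem_iInf.1 ha.2 D) (b⁻¹ * d * b) (by simpa using (hch D.1 D.2).normal.conj_mem d hd b⁻¹)
    have := congrArg (fun z => b * z * b⁻¹) h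
    simpa [mul_assoc] using this⟩⟩
  have hBE : T.B ≤ E := fun b hb => ⟨T.B_le_C hb, Subgroup.mem_iInf.2 fun D d hd =>
    T.mem_C.1 ((hch D.1 D.2).le hd) b hb⟩
  have hEB : E = T.B := by
    by_contra hne
    obtain ⟨D1, hD1, hD1E⟩ := T.exists_chief E hEn inf_le_left (lt_of_le_of_ne hBE (Ne.symm hne))
    have hcom : ∀ D ∈ s, ∀ a ∈ D, ∀ b ∈ D1, a * b = b * a := fun D hD a ha b hb =>
      (Subgroup.mem_iInf.1 (hD1E hb).2 ⟨D, hD⟩) a ha
    have hins : insert D1 s ≤ s := hmax ⟨fun D hD => hD.elim (fun e => e ▸ hD1) (hch D), by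
      rintro D (rfl | hD) D' (rfl | hD') hne a ha b hb
      · exact absurd rfl hne
      · exact (hcom D' hD' b hb a ha).symm
      · exact hcom D hD a ha b hb
      · exact hpw D hD D' hD' hne a ha b hb⟩ (Set.subset_insert _ _)
    exact Chief.not_comm hD1 fun a ha b hb => hcom D1 (hins (Set.mem_insert _ _)) a ha b hb
  obtain ⟨k, hk⟩ := T.scalar g (hEB ▸ hgE)
  have hk1 : k = 1 := PS.smul_inj hx ((hk x).symm.trans (hgx.trans (one_smul K x).symm))
  exact T.faithful g fun v => by rw [hk, hk1, one_smul]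

include T in
/-- The global solution in coprime characteristic. -/
theorem exists_base (hA : (Nat.card G : K) ≠ 0) :
    ∃ x y : V, ∀ g : G, g • x = x → g • y = y → g = 1 :=
  T.exists_base_of_local fun _ hD => Chief.exists_local hD hA

end Cfsg.Agent.BaseTwo.Setting
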