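import Cfsg.Agent.BaseTwo.Small

/-!
A solvable affine group of order prime to `p` has a colouring of the points by `p` colours
with trivial stabiliser.
-/

set_option autoImplicit false
set_option maxHeartbeats 1000000

namespace Cfsg.Agent.BaseTwo

open Finset

variable {r m : ℕ} [Fact r.Prime]

/-- The affine frame. -/
def pt (r m : ℕ) : Fin (m + 1) → (Fin m → ZMod r) := Fin.cons 0 fun i => Pi.single i 1

theorem pt_eq (i : Fin (m + 1)) :
    pt r m i = Fin.tail (Pi.single i (1 : ZMod r) : Fin (m + 1) → ZMod r) := by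
  funext j
  refine Fin.cases ?_ (fun i => ?_) i
  · simp [pt, Fin.tail, Pi.single_apply, Fin.succ_ne_zero]
  · simp [pt, Fin.tail, Pi.single_apply]

theorem sum_pt (c : Fin (m + 1) → ZMod r) : ∑ i, c i • pt r m i = Fin.tail c := by
  funext j
  rw [Finset.sum_apply]
  simp [pt_eq, Fin.tail, Pi.single_apply]

/-- Barycentric coordinates are unique. -/
theorem tail_inj {a b : Fin (m + 1) → ZMod r} (ha : ∑ i, a i = 1) (hb : ∑ i, b i = 1)
    (h : Fin.tail a = Fin.tail b) : a = b := by
  rw [Fin.sum_univ_succ] at ha hb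
  funext i
  refine Fin.cases ?_ (fun i => congrFun h i) i
  have : ∑ i : Fin m, a i.succ = ∑ i : Fin m, b i.succ :=
    Finset.sum_congr rfl fun i _ => congrFun h i
  rw [this] at ha
  exact add_right_cancel (ha.trans hb.symm)

theorem pt_inj : Function.Injective (pt r m) := by
  intro i j h
  rw [pt_eq, pt_eq] at h
  have := congrFun (tail_inj (by simp) (by simp) h) i
  by_contra hne
  simp [Pi.single_apply, hne] at this

variable {G : Type*} [Group G] [MulAction G (Fin m → ZMod r)]

/-- Affine maps respect barycentric combinations. -/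
def IsAffine (r m : ℕ) (G : Type*) [Group G] [MulAction G (Fin m → ZMod r)] : Prop :=
  ∀ g : G, ∃ h : (Fin m → ZMod r) →+ (Fin m → ZMod r), ∀ x, g • x = h x + g • 0

theorem smul_tail (hA : IsAffine r m G) (g : G) (c : Fin (m + 1) → ZMod r) (hc : ∑ i, c i = 1) :
    g • Fin.tail c = ∑ i, c i • (g • pt r m i) := by
  obtain ⟨h, hh⟩ := hA g
  simp only [fun i => hh (pt r m i), smul_add, Finset.sum_add_distrib, ← Finset.sum_smul, hc, one_smul]
  rw [hh, ← sum_pt c, map_sum]
  congr 1
  exact Finset.sum_congr rfl fun i _ => map_smul (AddMonoidHom.toZModLinearMap r h) _ _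

theorem smul_tail_perm (hA : IsAffine r m G) (g : G) (π : Equiv.Perm (Fin (m + 1)))
    (hπ : ∀ i, g • pt r m i = pt r m (π i)) (c : Fin (m + 1) → ZMod r) (hc : ∑ i, c i = 1) :
    g • Fin.tail c = Fin.tail (fun i => c (π.symm i)) := by
  rw [smul_tail hA g c hc, ← sum_pt]
  exact Fintype.sum_equiv π _ _ fun i => by rw [hπ, Equiv.symm_apply_apply]

theorem eq_one_of_fix [FaithfulSMul G (Fin m → ZMod r)] (hA : IsAffine r m G) (g : G)
    (h : ∀ i, g • pt r m i = pt r m i) : g = 1 := by
  refine eq_of_smul_eq_smul fun x : Fin m → ZMod r => ?_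
  rw [one_smul]
  have hx : Fin.tail (Fin.cons (1 - ∑ i, x i) x : Fin (m + 1) → ZMod r) = x := Fin.tail_cons _ _
  conv_lhs => rw [← hx]
  rw [smul_tail_perm hA g 1 (by simpa using h) _ (by rw [Fin.sum_univ_succ]; simp)]
  exact hx

/-- If the frame is preserved there is a permutation of its indices. -/
theorem exists_perm (g : G) (h : ∀ i, g • pt r m i ∈ Set.range (pt r m)) :
    ∃ π : Equiv.Perm (Fin (m + 1)), ∀ i, g • pt r m i = pt r m (π i) := by
  choose f hf using h
  refine ⟨Equiv.ofBijective f (Finite.injective_iff_bijective.1 fun i j e => pt_inj (r := r) ?_),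
    fun i => (hf i).symm⟩
  have := (hf i).symm.trans ((congrArg (pt r m) e).trans (hf j))
  exact MulAction.injective g this

theorem natCast_zmod_ne {p a b : ℕ} (ha : a < p) (hb : b < p) (h : a ≠ b) :
    (a : ZMod p) ≠ b := by
  rw [Ne, ZMod.natCast_eq_natCast_iff', Nat.mod_eq_of_lt ha, Nat.mod_eq_of_lt hb]
  exact h

/-- A colouring exists with trivial stabiliser. -/
def HasColour (p : ℕ) (G Ω : Type*) [Group G] [MulAction G Ω] : Prop :=
  ∃ f : Ω → ZMod p, ∀ g : G, (∀ x, f (g • x) = f x) → ∀ x : Ω, g • x = x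

variable [FaithfulSMul G (Fin m → ZMod r)] {p : ℕ} [Fact p.Prime]

theorem colour_small (hA : IsAffine r m G) (hp : m + 1 < p) : HasColour p G (Fin m → ZMod r) := by
  classical
  refine ⟨fun x => if h : ∃ i, pt r m i = x then ((h.choose.1 + 1 : ℕ) : ZMod p) else 0,
    fun g hg x => ?_⟩
  suffices g = 1 by rw [this, one_smul]
  refine eq_one_of_fix hA g fun i => ?_
  have h1 := hg (pt r m i)
  have e : ∃ j, pt r m j = pt r m i := ⟨i, rfl⟩
  simp only [dif_pos e, pt_inj e.choose_spec] at h1
  by_cases h : ∃ j, pt r m j = g • pt r m i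
  · rw [dif_pos h] at h1
    have hj := h.choose_spec
    have : h.choose = i := by
      by_contra hne
      exact natCast_zmod_ne (by omega) (by omega)
        (fun e => hne (Fin.ext (by omega))) h1
    rw [this] at hj
    exact hj.symm
  · rw [dif_neg h] at h1
    exact absurd h1.symm (by exact_mod_cast natCast_zmod_ne (b := 0) (by omega) (by omega) (Nat.succ_ne_zero i.1))

open scoped Classical in
/-- The colouring by the frame and a further set. -/
noncomputable def frameCol (p r m : ℕ) (E : Set (Fin m → ZMod r)) (x : Fin m → ZMod r) : ZMod p :=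
  if x ∈ Set.range (pt r m) then 1 else if x ∈ E then 2 else 0

omit [FaithfulSMul G (Fin m → ZMod r)] in
theorem frameCol_stab (hp : 3 ≤ p) {E : Set (Fin m → ZMod r)}
    (hE : ∀ x ∈ E, x ∉ Set.range (pt r m)) (g : G)
    (hg : ∀ x, frameCol p r m E (g • x) = frameCol p r m E x) :
    ∃ π : Equiv.Perm (Fin (m + 1)), (∀ i, g • pt r m i = pt r m (π i)) ∧ ∀ x ∈ E, g • x ∈ E := by
  classical
  have h12 : (1 : ZMod p) ≠ 2 := by exact_mod_cast natCast_zmod_ne (p := p) (a := 1) (b := 2) (by omega) (by omega) (by omega)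
  have h20 : (2 : ZMod p) ≠ 0 := by exact_mod_cast natCast_zmod_ne (p := p) (a := 2) (b := 0) (by omega) (by omega) (by omega)
  have h10 : (1 : ZMod p) ≠ 0 := one_ne_zero
  obtain ⟨π, hπ⟩ := exists_perm g fun i => by
    by_contra h
    have := hg (pt r m i)
    simp only [frameCol] at this
    rw [if_neg h, if_pos (show pt r m i ∈ Set.range (pt r m) from ⟨i, rfl⟩)] at this
    split_ifs at this with h'
    · exact h12 this.symm
    · exact h10 this.symm
  refine ⟨π, hπ, fun x hx => ?_⟩
  have := hg x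
  simp only [frameCol] at this
  rw [if_neg (hE x hx), if_pos hx] at this
  split_ifs at this with h' h''
  · exact absurd this h12
  · exact h''
  · exact absurd this.symm h20

theorem colour_distinct (hA : IsAffine r m G) (hp : 3 ≤ p) (c : Fin (m + 1) → ZMod r)
    (hc : ∑ i, c i = 1) (hinj : Function.Injective c) (hne : ∀ i, c ≠ Pi.single i 1) :
    HasColour p G (Fin m → ZMod r) := by
  classical
  have hE : ∀ x ∈ ({Fin.tail c} : Set (Fin m → ZMod r)), x ∉ Set.range (pt r m) := by
    rintro x rfl ⟨i, hi⟩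
    rw [pt_eq] at hi
    exact hne i (tail_inj (by simp) hc hi).symm
  refine ⟨frameCol p r m {Fin.tail c}, fun g hg x => ?_⟩
  obtain ⟨π, hπ, hEg⟩ := frameCol_stab hp hE g hg
  have h := hEg _ (Set.mem_singleton _)
  rw [Set.mem_singleton_iff, smul_tail_perm hA g π hπ c hc] at h
  have he := tail_inj ((Equiv.sum_comp π.symm c).trans hc) hc h
  suffices g = 1 by rw [this, one_smul]
  refine eq_one_of_fix hA g fun i => ?_
  have : π.symm (π i) = π i := hinj (congrFun he (π i))
  rw [Equiv.symm_apply_apply] at this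
  rw [hπ, ← this]

theorem colour_triples [Group.IsSolvable G] (hA : IsAffine r m G) (hp : 3 ≤ p) (hm : 4 ≤ m) :
    HasColour p G (Fin m → ZMod r) := by
  classical
  let W : Subgroup (G × Equiv.Perm (Fin (m + 1))) :=
    { carrier := {q | ∀ i, q.1 • pt r m i = pt r m (q.2 i)}
      mul_mem' := fun {a b} ha hb i => by
        simp [Prod.fst_mul, Prod.snd_mul, mul_smul, hb i, ha (b.2 i)]
      one_mem' := fun i => by simp
      inv_mem' := fun {a} ha i => by
        rw [Prod.fst_inv, Prod.snd_inv, inv_smul_eq_iff, ha]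
        simp }
  haveI : Group.IsSolvable W := Group.isSolvable_of_isSolvable_injective
    (f := (MonoidHom.fst _ _).comp W.subtype) fun a b h => Subtype.ext (Prod.ext h (Equiv.ext fun i =>
      pt_inj (r := r) (by rw [← a.2 i, ← b.2 i]; exact congrArg (· • pt r m i) h)))
  let f : W →* Equiv.Perm (Fin (m + 1)) := (MonoidHom.snd _ _).comp W.subtype
  haveI : Group.IsSolvable f.range := Group.isSolvable_of_surjective f.rangeRestrict_surjective
  have hrev : (Fin.revPerm : Equiv.Perm (Fin (m + 1))) ≠ 1 := fun e => by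
    have := congrArg (fun s : Equiv.Perm (Fin (m + 1)) => (s 0).1) e
    simp at this
    omega
  obtain ⟨σ, hσ⟩ := exists_conj_notMem (by rw [Nat.card_eq_fintype_card, Fintype.card_fin]; omega) f.range hrev
  let sgn : Fin (m + 1) → ℕ → ZMod r := fun j i => if j.1 = i + 1 then -1 else 1
  let c : ℕ → Fin (m + 1) → ZMod r := fun i j =>
    if σ.symm j ∈ triple (m + 1) i then sgn (σ.symm j) i else 0
  have hc : ∀ i, i + 2 < m + 1 → ∑ j, c i j = 1 := by
    intro i hi
    rw [show ∑ j, c i j = ∑ j ∈ triple (m + 1) i, sgn j i by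
      rw [← Equiv.sum_comp σ (c i)]
      simp only [c, Equiv.symm_apply_apply, Finset.sum_ite_mem, Finset.univ_inter]]
    rw [show triple (m + 1) i = ({⟨i, by omega⟩, ⟨i + 1, by omega⟩, ⟨i + 2, by omega⟩} : Finset (Fin (m + 1))) by
      ext j
      simp only [mem_triple, Finset.mem_insert, Finset.mem_singleton, Fin.ext_iff]
      omega]
    rw [Finset.sum_insert (by simp), Finset.sum_insert (by simp), Finset.sum_singleton]
    simp [sgn]
  have hcne : ∀ i j, c i j ≠ 0 ↔ σ.symm j ∈ triple (m + 1) i := by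
    intro i j
    by_cases h : σ.symm j ∈ triple (m + 1) i
    · simp only [c, h, if_true, iff_true, sgn]
      split_ifs <;> simp
    · simp [c, h]
  let E : Set (Fin m → ZMod r) := {x | ∃ i, i + 2 < m + 1 ∧ Fin.tail (c i) = x}
  have hE : ∀ x ∈ E, x ∉ Set.range (pt r m) := by
    rintro _ ⟨i, hi, rfl⟩ ⟨j, hj⟩
    rw [pt_eq] at hj
    have he := tail_inj (by simp) (hc i hi) hj
    have h1 : ∀ a : Fin (m + 1), σ.symm a ∈ triple (m + 1) i → a = j := fun a ha => by
      by_contra hne
      exact (hcne i a).2 ha (by rw [← congrFun he a]; simp [hne])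
    have e1 := h1 (σ ⟨i, by omega⟩) (by simp [mem_triple])
    have e2 := h1 (σ ⟨i + 1, by omega⟩) (by simp [mem_triple])
    have := congrArg Fin.val (σ.injective (e1.trans e2.symm))
    simp at this
  refine ⟨frameCol p r m E, fun g hg x => ?_⟩
  obtain ⟨π, hπ, hEg⟩ := frameCol_stab hp hE g hg
  suffices hres : σ⁻¹ * π * σ = 1 by
    have : π = 1 := by
      calc π = σ * (σ⁻¹ * π * σ) * σ⁻¹ := by group
        _ = 1 := by rw [hres]; group
    rw [eq_one_of_fix hA g fun i => by rw [hπ, this]; rfl, one_smul]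
  rcases intervals_rigid (by omega) (σ⁻¹ * π * σ) (fun i hi => by
    obtain ⟨i', hi', he⟩ := hEg _ ⟨i, hi, rfl⟩
    rw [smul_tail_perm hA g π hπ _ (hc i hi)] at he
    have he' := tail_inj (hc i' hi') ((Equiv.sum_comp π.symm (c i)).trans (hc i hi)) he
    refine ⟨i', hi', ?_⟩
    ext a
    rw [Finset.mem_map_equiv, ← σ.symm_apply_apply a]
    rw [← hcne i' (σ a), congrFun he' (σ a), hcne i, Equiv.symm_apply_apply]
    rfl) with h | h
  · exact h
  · exact absurd ⟨⟨(g, π), hπ⟩, show π = σ * Fin.revPerm * σ⁻¹ by rw [← h]; group⟩ hσ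

/-- The weight of the `a`-th point of the broken line at the `i`-th point of the frame. -/
def wt (a i : ℕ) : ℕ := 2 - (a - 2 * i) - (2 * i - a)

theorem path_rigid {L : ℕ} (φ : Fin L → Fin L) (hφ : Function.Injective φ)
    (hadj : ∀ i j : Fin L, i.1 + 1 = j.1 → (φ i).1 + 1 = (φ j).1 ∨ (φ j).1 + 1 = (φ i).1) :
    ∀ i, φ (φ i) = i := by
  rcases Nat.lt_or_ge L 2 with h | h
  · intro i; exact Fin.ext (by omega)
  have key : ∀ n (hn : n + 1 < L), ((φ ⟨n + 1, hn⟩).1 : ℤ) - (φ ⟨n, by omega⟩).1 =
      ((φ ⟨1, by omega⟩).1 : ℤ) - (φ ⟨0, by omega⟩).1 := by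
    intro n
    induction n with
    | zero => intro hn; rfl
    | succ n ih =>
      intro hn
      have := ih (by omega)
      have h1 := hadj ⟨n, by omega⟩ ⟨n + 1, by omega⟩ rfl
      have h2 := hadj ⟨n + 1, by omega⟩ ⟨n + 1 + 1, hn⟩ rfl
      have h3 : (φ ⟨n + 1 + 1, hn⟩).1 ≠ (φ ⟨n, by omega⟩).1 := fun e => by
        have := congrArg Fin.val (hφ (Fin.ext e))
        simp at this
        all_goals omega
      omega
  have lin : ∀ n (hn : n < L), ((φ ⟨n, hn⟩).1 : ℤ) = (φ ⟨0, by omega⟩).1 +
      n * (((φ ⟨1, by omega⟩).1 : ℤ) - (φ ⟨0, by omega⟩).1) := by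
    intro n
    induction n with
    | zero => intro hn; simp
    | succ n ih =>
      intro hn
      have := key n hn
      rw [ih (by omega)] at this
      push_cast
      linarith
  have h01 := hadj ⟨0, by omega⟩ ⟨1, by omega⟩ rfl
  have hlast := lin (L - 1) (by omega)
  intro i
  apply Fin.ext
  have e1 := lin i.1 i.2
  have e2 := lin (φ i).1 (φ i).2
  have := (φ ⟨L - 1, by omega⟩).2
  have := (φ ⟨0, by omega⟩).2
  simp only [Fin.eta] at e1 e2
  rcases h01 with h01 | h01
  · rw [show ((φ ⟨1, by omega⟩).1 : ℤ) - (φ ⟨0, by omega⟩).1 = 1 by omega] at e1 e2 hlast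
    omega
  · rw [show ((φ ⟨1, by omega⟩).1 : ℤ) - (φ ⟨0, by omega⟩).1 = -1 by omega] at e1 e2 hlast
    omega

theorem wt_even (α i : ℕ) : wt (2 * α) i = if i = α then 2 else 0 := by
  unfold wt; split_ifs <;> omega
theorem wt_odd (α i : ℕ) : wt (2 * α + 1) i = if i = α ∨ i = α + 1 then 1 else 0 := by
  unfold wt; split_ifs <;> omega
/-- Three points of the broken line, one the midpoint of the others, form a segment. -/
theorem wt_rel {r m a b c : ℕ} (hr : 3 ≤ r) (hodd : r % 2 = 1) (ha : a ≤ 2 * m) (hb : b ≤ 2 * m)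
    (hc : c ≤ 2 * m) (hab : a ≠ b)
    (h : ∀ i ≤ m, (2 * wt c i) % r = (wt a i + wt b i) % r) :
    ∃ l < m, (2 * l ≤ a ∧ a ≤ 2 * l + 2) ∧ (2 * l ≤ b ∧ b ≤ 2 * l + 2) ∧ (2 * l ≤ c ∧ c ≤ 2 * l + 2) := by
  suffices key : a ≤ c + 2 ∧ c ≤ a + 2 ∧ b ≤ c + 2 ∧ c ≤ b + 2 ∧ a ≤ b + 2 ∧ b ≤ a + 2 ∧
      (c % 2 = 0 → (a + 1 = c ∨ c + 1 = a ∨ b + 1 = c ∨ c + 1 = b)) ∧
      (c % 2 = 1 → a % 2 = 0 ∧ b % 2 = 0) ∧ a ≠ c ∧ b ≠ c ∧ (a % 2 = 1 → b % 2 = 0) by
    refine ⟨min (min a b) c / 2, ?_, ⟨?_, ?_⟩, ⟨?_, ?_⟩, ⟨?_, ?_⟩⟩ <;> omega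
  have h0 : ∀ i, (r = 3 ∧ i ≤ m → 2 * wt c i = wt a i + wt b i ∨ 2 * wt c i + 3 = wt a i + wt b i ∨
        2 * wt c i = wt a i + wt b i + 3) ∧
      (r ≠ 3 ∧ i ≤ m → 2 * wt c i = wt a i + wt b i) := by
    intro i
    have b1 : wt a i ≤ 2 := by unfold wt; omega
    have b2 : wt b i ≤ 2 := by unfold wt; omega
    have b3 : wt c i ≤ 2 := by unfold wt; omega
    refine ⟨fun hi => by obtain ⟨rfl, hi⟩ := hi; have := h i hi; omega, fun hi => ?_⟩
    have := h i hi.2
    rwa [Nat.mod_eq_of_lt (by omega), Nat.mod_eq_of_lt (by omega)] at this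
  rcases Nat.even_or_odd' a with ⟨A, rfl | rfl⟩ <;> rcases Nat.even_or_odd' b with ⟨B, rfl | rfl⟩ <;>
    rcases Nat.even_or_odd' c with ⟨C, rfl | rfl⟩ <;>
    simp only [wt_even, wt_odd] at h0 <;> by_cases h3 : r = 3 <;>
    · have hA : A ≤ m := by omega
      have hB : B ≤ m := by omega
      have hC : C ≤ m := by omega
      have e1 := h0 A
      have e2 := h0 (A + 1)
      have e3 := h0 B
      have e4 := h0 (B + 1)
      have e5 := h0 C
      have e6 := h0 (C + 1)
      simp only [h3, ne_eq, not_true_eq_false, not_false_eq_true, false_and, true_and, IsEmpty.forall_iff, and_true, true_implies, forall_const, hA, hB, hC, if_true, ite_true, Nat.add_right_cancel_iff, or_true, true_or, Nat.succ_ne_self, Nat.add_eq_left, one_ne_zero, if_false, false_or, or_false] at e1 e2 e3 e4 e5 e6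
      clear h0 h
      grind (splits := 60)

theorem colour_odd_one (hA : IsAffine r m G) (hp : p = 2) (hm : m = 1) (hodd : Odd (Nat.card G)) :
    HasColour p G (Fin m → ZMod r) := by
  classical
  subst hp hm
  refine ⟨fun x => if x ∈ Set.range (pt r 1) then 1 else 0, fun g hg x => ?_⟩
  obtain ⟨π, hπ⟩ := exists_perm g fun i => by
    by_contra h
    have := hg (pt r 1 i)
    simp only at this
    rw [if_neg h, if_pos (show pt r 1 i ∈ Set.range (pt r 1) from ⟨i, rfl⟩)] at this
    exact zero_ne_one this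
  suffices g = 1 by rw [this, one_smul]
  have hn : ∀ n, ∀ i, (g ^ n) • pt r 1 i = pt r 1 ((π ^ n) i) := by
    intro n
    induction n with
    | zero => simp
    | succ n ih => intro i; rw [pow_succ', mul_smul, ih, hπ, pow_succ', Equiv.Perm.mul_apply]
  have hπ2 : π ^ 2 = 1 := (by decide : ∀ σ : Equiv.Perm (Fin (1 + 1)), σ ^ 2 = 1) π
  obtain ⟨k, hk⟩ := hodd
  have hg2 : g ^ 2 = 1 := eq_one_of_fix hA _ fun i => by rw [hn, hπ2, Equiv.Perm.one_apply]
  have : g ^ Nat.card G = 1 := pow_card_eq_one'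
  rwa [hk, pow_succ, pow_mul, hg2, one_pow, one_mul] at this

theorem colour_odd (hA : IsAffine r m G) (hp : p = 2) (hr : r ≠ 2) (hm : 2 ≤ m)
    [Finite G] (hodd : Odd (Nat.card G)) : HasColour p G (Fin m → ZMod r) := by
  classical
  subst hp
  have hr3 : 3 ≤ r := by have := (Fact.out : r.Prime).two_le; omega
  have hrodd : r % 2 = 1 := ((Fact.out : r.Prime).eq_two_or_odd).resolve_left hr
  have h2 : (2 : ZMod r) ≠ 0 := by
    exact_mod_cast natCast_zmod_ne (p := r) (a := 2) (b := 0) (by omega) (by omega) (by omega)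
  let c : Fin (2 * m + 1) → Fin (m + 1) → ZMod r := fun a i => (wt a.1 i.1 : ZMod r) / 2
  have hc : ∀ a, ∑ i, c a i = 1 := by
    intro a
    simp only [c, ← Finset.sum_div]
    rw [div_eq_one_iff_eq h2, ← Nat.cast_sum]
    have : ∀ n, n ≤ 2 * m → ∑ i : Fin (m + 1), wt n i.1 = 2 := by
      intro n hn
      rcases Nat.even_or_odd' n with ⟨l, rfl | rfl⟩
      · rw [Finset.sum_eq_single (⟨l, by omega⟩ : Fin (m + 1))]
        · simp [wt]
        · intro i _ hi
          have := Fin.val_ne_of_ne hi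
          simp only at this
          unfold wt
          omega
        · simp
      · rw [Finset.sum_eq_add (⟨l, by omega⟩ : Fin (m + 1)) ⟨l + 1, by omega⟩ (by simp)]
        · unfold wt
          simp only
          omega
        · intro i _ hi
          have h1 := Fin.val_ne_of_ne hi.1
          have h2 := Fin.val_ne_of_ne hi.2
          simp only at h1 h2
          unfold wt
          omega
        · simp
        · simp
    rw [this a.1 (by omega)]
    norm_num
  have hcpt : ∀ i : Fin (m + 1), Fin.tail (c ⟨2 * i.1, by omega⟩) = pt r m i := by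
    intro i
    rw [pt_eq]
    congr 1
    funext j
    by_cases h : j = i
    · subst h; simp [c, wt, h2]
    · have := Fin.val_ne_of_ne h
      have : wt (2 * i.1) j.1 = 0 := by unfold wt; omega
      simp [c, this, h]
  let d : Fin (2 * m + 1) → (Fin m → ZMod r) := fun a => Fin.tail (c a)
  have hd : Function.Injective d := fun a b h => by
    have he := tail_inj (hc a) (hc b) h
    have hval : ∀ i ≤ m, wt a.1 i % r = wt b.1 i % r := by
      intro i hi
      have := congrFun he ⟨i, by omega⟩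
      simp only [c] at this
      rw [div_left_inj' h2, ZMod.natCast_eq_natCast_iff'] at this
      exact this
    have e1 := hval (a.1 / 2) (by omega)
    have e2 := hval ((a.1 + 1) / 2) (by omega)
    have e3 := hval (b.1 / 2) (by omega)
    have e4 := hval ((b.1 + 1) / 2) (by omega)
    have bd : ∀ x i, wt x i < r := fun x i => by unfold wt; omega
    simp only [Nat.mod_eq_of_lt (bd _ _)] at e1 e2 e3 e4
    unfold wt at e1 e2 e3 e4
    exact Fin.ext (by omega)
  refine ⟨fun x => if x ∈ Set.range d then 1 else 0, fun g hg x => ?_⟩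
  suffices g = 1 by rw [this, one_smul]
  have hmem : ∀ a, ∃ b, d b = g • d a := fun a => by
    by_contra h
    simpa [show g • d a ∉ Set.range d from h] using hg (d a)
  choose π hπ using hmem
  have hπi : Function.Injective π := fun a b e => hd (MulAction.injective g (show g • d a = g • d b by rw [← hπ, ← hπ, e]))
  have hline : ∀ l : Fin m, ∃ l' : Fin m, ∀ k : ℕ, k ≤ 2 →
      ∀ hk : 2 * l.1 + k < 2 * m + 1, 2 * l'.1 ≤ (π ⟨2 * l.1 + k, hk⟩).1 ∧
        (π ⟨2 * l.1 + k, hk⟩).1 ≤ 2 * l'.1 + 2 := by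
    intro l
    let a : Fin (2 * m + 1) := ⟨2 * l.1, by omega⟩
    let b : Fin (2 * m + 1) := ⟨2 * l.1 + 2, by omega⟩
    let z : Fin (2 * m + 1) := ⟨2 * l.1 + 1, by omega⟩
    have hrel : (2 : ZMod r) • d z = d a + d b := by
      funext i
      simp only [d, Fin.tail, c, a, b, z, Pi.smul_apply, Pi.add_apply, smul_eq_mul, ← add_div]
      rw [mul_div_assoc', div_left_inj' h2]
      norm_cast
      congr 1
      unfold wt
      omega
    have hrel' : (2 : ZMod r) • d (π z) = d (π a) + d (π b) := by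
      obtain ⟨h, hh⟩ := hA g
      rw [hπ, hπ, hπ, hh, hh (d a), hh (d b)]
      have := congrArg (AddMonoidHom.toZModLinearMap r h) hrel
      rw [map_smul, map_add] at this
      rw [smul_add, show (2 : ZMod r) • (g • (0 : Fin m → ZMod r)) = g • 0 + g • 0 from two_smul _ _]
      exact (congrArg (· + (g • (0 : Fin m → ZMod r) + g • 0)) this).trans (add_add_add_comm _ _ _ _)
    have hsum : ∑ i, ((2 : ZMod r) * c (π z) i - c (π b) i) = 1 := by
      rw [Finset.sum_sub_distrib, ← Finset.mul_sum, hc, hc]; norm_num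
    have he := tail_inj hsum (hc (π a)) (by
      funext i
      have := congrFun hrel' i
      simp only [d, Pi.smul_apply, Pi.add_apply, smul_eq_mul] at this
      simp only [Fin.tail] at this ⊢
      rw [this, add_sub_cancel_right])
    obtain ⟨l', hl', h1, h2', h3⟩ := wt_rel hr3 hrodd (Nat.le_of_lt_succ (π a).2)
      (Nat.le_of_lt_succ (π b).2) (Nat.le_of_lt_succ (π z).2)
      (fun e => by
        have := congrArg Fin.val (hπi (Fin.ext e))
        simp [a, b] at this)
      (fun i hi => by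
        have := congrFun he ⟨i, by omega⟩
        simp only [c] at this
        rw [mul_div_assoc', ← sub_div, div_left_inj' h2, sub_eq_iff_eq_add] at this
        rw [← ZMod.natCast_eq_natCast_iff']
        push_cast
        exact this)
    refine ⟨⟨l', hl'⟩, fun k hk hk' => ?_⟩
    rcases (by omega : k = 0 ∨ k = 1 ∨ k = 2) with rfl | rfl | rfl
    · exact h1
    · exact h3
    · exact h2'
  choose φ hφ using hline
  have hφa : ∀ (l : Fin m) (a : Fin (2 * m + 1)), 2 * l.1 ≤ a.1 → a.1 ≤ 2 * l.1 + 2 →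
      2 * (φ l).1 ≤ (π a).1 ∧ (π a).1 ≤ 2 * (φ l).1 + 2 := by
    intro l a h1 h2
    have := hφ l (a.1 - 2 * l.1) (by omega) (by omega)
    rwa [show (⟨2 * l.1 + (a.1 - 2 * l.1), by omega⟩ : Fin (2 * m + 1)) = a from Fin.ext (by simp only; omega)] at this
  have hφi : Function.Injective φ := by
    intro l l' e
    by_contra hne
    -- five points of two lines would lie in one line
    have hne' := Fin.val_ne_of_ne hne
    let a0 : Fin (2 * m + 1) := ⟨2 * l.1, by omega⟩
    let a1 : Fin (2 * m + 1) := ⟨2 * l.1 + 1, by omega⟩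
    let a2 : Fin (2 * m + 1) := ⟨2 * l.1 + 2, by omega⟩
    let a3 : Fin (2 * m + 1) := ⟨2 * l'.1 + 1, by omega⟩
    have b0 := hφa l a0 (by simp [a0]) (by simp [a0])
    have b1 := hφa l a1 (by simp [a1]) (by simp [a1])
    have b2 := hφa l a2 (by simp [a2]) (by simp [a2])
    have b3 := hφa l' a3 (by simp [a3]) (by simp [a3])
    rw [e] at b0 b1 b2
    have n01 : (π a0).1 ≠ (π a1).1 := fun h => by have := congrArg Fin.val (hπi (Fin.ext h)); simp [a0, a1] at this
    have n02 : (π a0).1 ≠ (π a2).1 := fun h => by have := congrArg Fin.val (hπi (Fin.ext h)); simp [a0, a2] at this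
    have n12 : (π a1).1 ≠ (π a2).1 := fun h => by have := congrArg Fin.val (hπi (Fin.ext h)); simp [a1, a2] at this
    have n03 : (π a0).1 ≠ (π a3).1 := fun h => by have := congrArg Fin.val (hπi (Fin.ext h)); simp [a0, a3] at this; omega
    have n13 : (π a1).1 ≠ (π a3).1 := fun h => by have := congrArg Fin.val (hπi (Fin.ext h)); simp [a1, a3] at this; omega
    have n23 : (π a2).1 ≠ (π a3).1 := fun h => by have := congrArg Fin.val (hπi (Fin.ext h)); simp [a2, a3] at this; omega
    omega
  have hadj : ∀ i j : Fin m, i.1 + 1 = j.1 → (φ i).1 + 1 = (φ j).1 ∨ (φ j).1 + 1 = (φ i).1 := by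
    intro i j hij
    let a : Fin (2 * m + 1) := ⟨2 * j.1, by omega⟩
    have b1 := hφa i a (by simp [a]; omega) (by simp [a]; omega)
    have b2 := hφa j a (by simp [a]) (by simp [a])
    have := Fin.val_ne_of_ne (fun e => (by omega : i.1 ≠ j.1) (congrArg Fin.val (hφi e)))
    omega
  have hpath := path_rigid φ hφi hadj
  have hsq : ∀ (l : Fin m) (a : Fin (2 * m + 1)), 2 * l.1 ≤ a.1 → a.1 ≤ 2 * l.1 + 2 →
      2 * l.1 ≤ (π (π a)).1 ∧ (π (π a)).1 ≤ 2 * l.1 + 2 := by
    intro l a h1 h2
    obtain ⟨c1, c2⟩ := hφa l a h1 h2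
    have := hφa (φ l) (π a) c1 c2
    rwa [hpath] at this
  have hint : ∀ a : Fin (2 * m + 1), a.1 % 2 = 0 → 0 < a.1 → a.1 < 2 * m → π (π a) = a := by
    intro a h0 h1 h2
    have d1 := hsq ⟨a.1 / 2 - 1, by omega⟩ a (by simp only; omega) (by simp only; omega)
    have d2 := hsq ⟨a.1 / 2, by omega⟩ a (by simp only; omega) (by simp only; omega)
    simp only at d1 d2
    exact Fin.ext (by omega)
  have hmid : ∀ a : Fin (2 * m + 1), 2 ≤ a.1 → a.1 + 2 ≤ 2 * m → π (π a) = a := by
    intro a h1 h2
    rcases Nat.mod_two_eq_zero_or_one a.1 with h | h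
    · exact hint a h (by omega) (by omega)
    · have d1 := hsq ⟨a.1 / 2, by omega⟩ a (by simp only; omega) (by simp only; omega)
      simp only at d1
      have f1 := hint ⟨a.1 - 1, by omega⟩ (by simp only; omega) (by simp only; omega) (by simp only; omega)
      have f2 := hint ⟨a.1 + 1, by omega⟩ (by simp only; omega) (by simp only; omega) (by simp only; omega)
      have n1 : (π (π a)).1 ≠ a.1 - 1 := fun e => by
        have := congrArg Fin.val (hπi (hπi ((Fin.ext e : π (π a) = ⟨a.1 - 1, by omega⟩).trans f1.symm)))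
        simp at this
        omega
      have n2 : (π (π a)).1 ≠ a.1 + 1 := fun e => by
        have := congrArg Fin.val (hπi (hπi ((Fin.ext e : π (π a) = ⟨a.1 + 1, by omega⟩).trans f2.symm)))
        simp at this
      exact Fin.ext (by omega)
  have hfour : ∀ a, π (π (π (π a))) = a := by
    intro a
    by_cases h1 : 2 ≤ a.1
    · by_cases h2 : a.1 + 2 ≤ 2 * m
      · rw [hmid a h1 h2, hmid a h1 h2]
      · -- the last two points
        let b : Fin (2 * m + 1) := ⟨2 * m - 2, by omega⟩
        have fb := hint b (by simp [b]; omega) (by simp [b]; omega) (by simp [b]; omega)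
        have key : ∀ z : Fin (2 * m + 1), 2 * m - 1 ≤ z.1 → 2 * m - 1 ≤ (π (π z)).1 := by
          intro z hz
          have d1 := hsq ⟨m - 1, by omega⟩ z (by simp only; omega) (by simp only; omega)
          simp only at d1
          have : (π (π z)).1 ≠ 2 * m - 2 := fun e => by
            have := congrArg Fin.val (hπi (hπi ((Fin.ext e : π (π z) = b).trans fb.symm)))
            simp [b] at this
            omega
          omega
        have k1 := key a (by omega)
        have k2 := key (π (π a)) k1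
        by_cases he : (π (π a)).1 = a.1
        · rw [Fin.ext he, Fin.ext he]
        · have := a.2
          have := (π (π a)).2
          have := (π (π (π (π a)))).2
          have : (π (π (π (π a)))).1 ≠ (π (π a)).1 := fun e =>
            he (congrArg Fin.val (hπi (hπi (Fin.ext e))))
          exact Fin.ext (by omega)
    · let b : Fin (2 * m + 1) := ⟨2, by omega⟩
      have fb := hint b (by simp [b]) (by simp [b]) (by simp [b]; omega)
      have key : ∀ z : Fin (2 * m + 1), z.1 ≤ 1 → (π (π z)).1 ≤ 1 := by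
        intro z hz
        have d1 := hsq ⟨0, by omega⟩ z (by simp) (by simp; omega)
        simp only at d1
        have : (π (π z)).1 ≠ 2 := fun e => by
          have := congrArg Fin.val (hπi (hπi ((Fin.ext e : π (π z) = b).trans fb.symm)))
          simp [b] at this
          omega
        omega
      have k1 := key a (by omega)
      have k2 := key (π (π a)) k1
      by_cases he : (π (π a)).1 = a.1
      · rw [Fin.ext he, Fin.ext he]
      · have : (π (π (π (π a)))).1 ≠ (π (π a)).1 := fun e =>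
          he (congrArg Fin.val (hπi (hπi (Fin.ext e))))
        exact Fin.ext (by omega)
  have hg4 : g ^ 4 = 1 := eq_one_of_fix hA _ fun i => by
    rw [← hcpt, show g ^ 4 = g * (g * (g * g)) by simp [pow_succ, mul_assoc], mul_smul, mul_smul,
      mul_smul]
    show g • g • g • g • d _ = d _
    rw [← hπ, ← hπ, ← hπ, ← hπ, hfour]
  have hcop : Nat.Coprime (Nat.card G) 4 := by
    rw [show (4 : ℕ) = 2 ^ 2 by norm_num]
    exact Nat.Coprime.pow_right 2 ((Nat.coprime_two_right).2 hodd)
  exact orderOf_eq_one_iff.1 (Nat.dvd_one.1 (hcop ▸ Nat.dvd_gcd (orderOf_dvd_natCard g) (orderOf_dvd_of_pow_eq_one hg4)))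

end Cfsg.Agent.BaseTwo
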