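import Cfsg.Agent.BaseTwo.Frame
import Mathlib.RingTheory.RootsOfUnity.PrimitiveRoots

/-!
Hyperbolic bases of a symplectic system.
-/

set_option autoImplicit false
set_option maxHeartbeats 1000000

namespace Cfsg.Agent.BaseTwo

variable {r n : ℕ} [Fact r.Prime] {K V A Ω : Type*} [Field K] [AddCommGroup V] [Module K V] [Group A]
  [DistribMulAction A V] [AddCommGroup Ω] [DistribMulAction A Ω] [Nontrivial V]

namespace PS

variable (S : PS r n K V A Ω)

theorem pair_self (v : Ω) : S.pair v v = 1 := by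
  obtain ⟨z, hz⟩ := exists_ne (0 : V)
  exact smul_inj (S.op_ne (S.op_ne hz)) ((S.op_comm v v z).symm.trans (one_smul K _).symm)

theorem pair_zero_right (v : Ω) : S.pair v 0 = 1 := by
  have h := S.pair_swap (Fact.out : r.Prime).ne_zero 0 v
  rwa [S.pair_zero_left (Fact.out : r.Prime).ne_zero, one_mul] at h

theorem pair_nsmul_left (k : ℕ) (v w : Ω) : S.pair (k • v) w = S.pair v w ^ k := by
  induction k with
  | zero => rw [zero_smul, pow_zero, S.pair_zero_left (Fact.out : r.Prime).ne_zero]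
  | succ k ih => rw [succ_nsmul, S.pair_add_left (Fact.out : r.Prime).ne_zero, ih, pow_succ]

theorem pair_nsmul_right (k : ℕ) (v w : Ω) : S.pair v (k • w) = S.pair v w ^ k := by
  induction k with
  | zero => rw [zero_smul, pow_zero, S.pair_zero_right]
  | succ k ih => rw [succ_nsmul, S.pair_add_right (Fact.out : r.Prime).ne_zero, ih, pow_succ]

theorem pair_comm_one {v w : Ω} (h : S.pair v w = 1) : S.pair w v = 1 := by
  have := S.pair_swap (Fact.out : r.Prime).ne_zero v w
  rwa [h, one_mul] at this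

theorem pair_sum_right {ι : Type*} (s : Finset ι) (v : Ω) (f : ι → Ω) :
    S.pair v (∑ i ∈ s, f i) = ∏ i ∈ s, S.pair v (f i) := by
  classical
  induction s using Finset.induction with
  | empty => simpa using S.pair_zero_right v
  | insert i s hi ih => rw [Finset.sum_insert hi, Finset.prod_insert hi, S.pair_add_right (Fact.out : r.Prime).ne_zero, ih]

/-- The combination of a family of vectors. -/
def lin (hexp : ∀ v : Ω, r • v = 0) {m : ℕ} (t : Fin m → Ω) : (Fin m → ZMod r) →+ Ω :=
  AddMonoidHom.mk' (fun a => ∑ i, (a i).val • t i) fun a b => by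
    rw [← Finset.sum_add_distrib]
    refine Finset.sum_congr rfl fun i _ => ?_
    rw [← add_smul, Pi.add_apply, ZMod.val_add]
    conv_rhs => rw [← Nat.mod_add_div ((a i).val + (b i).val) r, add_smul, mul_comm r, mul_smul, hexp, smul_zero, add_zero]

theorem lin_single (hexp : ∀ v : Ω, r • v = 0) {m : ℕ} (t : Fin m → Ω) (i : Fin m) :
    lin (r := r) hexp t (Pi.single i 1) = t i := by
  show (∑ j, ((Pi.single i (1 : ZMod r) : Fin m → ZMod r) j).val • t j) = t i
  haveI : Fact (1 < r) := ⟨(Fact.out : r.Prime).one_lt⟩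
  rw [Finset.sum_eq_single i (fun j _ hj => by simp [hj]) (fun h => absurd (Finset.mem_univ i) h)]
  simp [ZMod.val_one]

variable {S}

/-- A hyperbolic family inside a subgroup, with an anisotropic rest. -/
structure HypBasis (S : PS r n K V A Ω) (ω : K) (sing : Ω → Prop) (W : AddSubgroup Ω) where
  m : ℕ
  t : Fin m → Ω
  l : Fin m → Ω
  R : AddSubgroup Ω
  R_le : R ≤ W
  t_mem : ∀ i, t i ∈ W
  l_mem : ∀ i, l i ∈ W
  t_sing : ∀ i, sing (t i)
  l_sing : ∀ i, sing (l i)
  lt : ∀ i j, S.pair (l i) (t j) = if i = j then ω else 1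
  ll : ∀ i j, S.pair (l i) (l j) = 1
  tt : ∀ i j, S.pair (t i) (t j) = 1
  lR : ∀ i, ∀ v ∈ R, S.pair (l i) v = 1
  tR : ∀ i, ∀ v ∈ R, S.pair (t i) v = 1
  aniso : ∀ v ∈ R, v ≠ 0 → ¬ sing v
  decomp : ∀ v ∈ W, ∃ a b : Fin m → ℕ, ∃ x ∈ R, v = ∑ i, a i • t i + ∑ i, b i • l i + x

variable (S)

theorem exists_hyp [Finite Ω] {ω : K} (hω : ω ^ r = 1) (hω1 : ω ≠ 1) (sing : Ω → Prop)
    (hfix : ∀ v w, sing v → S.pair v w = ω → ∃ k : ℕ, sing (w + k • v)) (W : AddSubgroup Ω)
    (hW : ∀ v ∈ W, (∀ w ∈ W, S.pair v w = 1) → v = 0) : Nonempty (HypBasis S ω sing W) := by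
  classical
  have hr : r ≠ 0 := (Fact.out : r.Prime).ne_zero
  generalize hc : Nat.card W = c
  induction c using Nat.strong_induction_on generalizing W with
  | _ c ih =>
  by_cases hex : ∃ v ∈ W, v ≠ 0 ∧ sing v
  swap
  · push_neg at hex
    exact ⟨⟨0, Fin.elim0, Fin.elim0, W, le_rfl, fun i => i.elim0, fun i => i.elim0, fun i => i.elim0,
      fun i => i.elim0, fun i => i.elim0, fun i => i.elim0, fun i => i.elim0, fun i => i.elim0, fun i => i.elim0,
      hex, fun v hv => ⟨Fin.elim0, Fin.elim0, v, hv, by simp⟩⟩⟩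
  obtain ⟨v, hvW, hv, hvs⟩ := hex
  have hprim : IsPrimitiveRoot ω r := (IsPrimitiveRoot.iff_orderOf).2 (orderOf_eq_prime hω hω1)
  haveI : NeZero r := ⟨hr⟩
  obtain ⟨w1, hw1W, hw1⟩ : ∃ w ∈ W, S.pair v w = ω := by
    obtain ⟨u, hu, hu1⟩ : ∃ u ∈ W, S.pair v u ≠ 1 := by
      by_contra hno
      push_neg at hno
      exact hv (hW v hvW hno)
    have hpu : IsPrimitiveRoot (S.pair v u) r :=
      (IsPrimitiveRoot.iff_orderOf).2 (orderOf_eq_prime (S.pair_pow v u) hu1)
    obtain ⟨k, -, hk⟩ := hpu.eq_pow_of_pow_eq_one hω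
    exact ⟨k • u, W.nsmul_mem hu k, by rw [S.pair_nsmul_right, hk]⟩
  obtain ⟨k, hws⟩ := hfix v w1 hvs hw1
  set w := w1 + k • v with hw
  have hvw : S.pair v w = ω := by
    rw [hw, S.pair_add_right hr, hw1, S.pair_nsmul_right, S.pair_self, one_pow, mul_one]
  have hwW : w ∈ W := W.add_mem hw1W (W.nsmul_mem hvW k)
  let W' : AddSubgroup Ω :=
    { carrier := {z | z ∈ W ∧ S.pair v z = 1 ∧ S.pair w z = 1}
      add_mem' := fun {a b} ha hb => ⟨W.add_mem ha.1 hb.1, by rw [S.pair_add_right hr, ha.2.1, hb.2.1, one_mul],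
        by rw [S.pair_add_right hr, ha.2.2, hb.2.2, one_mul]⟩
      zero_mem' := ⟨W.zero_mem, S.pair_zero_right v, S.pair_zero_right w⟩
      neg_mem' := fun {a} ha => ⟨W.neg_mem ha.1, by
          have := S.pair_add_right hr v a (-a)
          rw [add_neg_cancel, S.pair_zero_right, ha.2.1, one_mul] at this
          exact this.symm, by
          have := S.pair_add_right hr w a (-a)
          rw [add_neg_cancel, S.pair_zero_right, ha.2.2, one_mul] at this
          exact this.symm⟩ }
  have hsplit : ∀ z ∈ W, ∃ a b : ℕ, ∃ z' ∈ W', z = a • w + b • v + z' := by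
    intro z hz
    obtain ⟨a, -, ha⟩ := hprim.eq_pow_of_pow_eq_one (S.pair_pow v z)
    have hwv : IsPrimitiveRoot (S.pair w v) r := by
      refine (IsPrimitiveRoot.iff_orderOf).2 (orderOf_eq_prime (S.pair_pow w v) fun e => ?_)
      have h1 := S.pair_swap hr v w
      rw [e, mul_one, hvw] at h1
      exact hω1 h1
    obtain ⟨b, -, hb⟩ := hwv.eq_pow_of_pow_eq_one (S.pair_pow w z)
    refine ⟨a, b, z - (a • w + b • v), ⟨W.sub_mem hz (W.add_mem (W.nsmul_mem hwW a) (W.nsmul_mem hvW b)), ?_, ?_⟩, by abel⟩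
    · have h1 := S.pair_add_right hr v (z - (a • w + b • v)) (a • w + b • v)
      rw [sub_add_cancel, S.pair_add_right hr, S.pair_nsmul_right, S.pair_nsmul_right, hvw, S.pair_self,
        one_pow, mul_one, ha] at h1
      exact mul_right_cancel₀ (S.pair_ne hr v z) (h1.symm.trans (one_mul _).symm)
    · have h1 := S.pair_add_right hr w (z - (a • w + b • v)) (a • w + b • v)
      rw [sub_add_cancel, S.pair_add_right hr, S.pair_nsmul_right, S.pair_nsmul_right, S.pair_self,
        one_pow, one_mul, hb] at h1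
      exact mul_right_cancel₀ (S.pair_ne hr w z) (h1.symm.trans (one_mul _).symm)
  have hvW' : v ∉ W' := fun h => by
    have := h.2.2
    have h1 := S.pair_swap hr v w
    rw [this, mul_one, hvw] at h1
    exact hω1 h1
  have hcard : Nat.card W' < c := by
    subst hc
    refine lt_of_le_of_ne (Nat.card_le_card_of_injective (fun z => ⟨z.1, z.2.1⟩ : W' → W)
      fun a b h => Subtype.ext (Subtype.ext_iff.1 h :)) fun he => hvW' ?_
    have := AddSubgroup.eq_of_le_of_card_ge (fun z (hz : z ∈ W') => hz.1) he.ge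
    exact this ▸ hvW
  obtain ⟨H⟩ := ih _ hcard W' (fun z hz h => hW z hz.1 fun u hu => by
    obtain ⟨a, b, u', hu', rfl⟩ := hsplit u hu
    rw [S.pair_add_right hr, S.pair_add_right hr, h u' hu', S.pair_nsmul_right, S.pair_nsmul_right,
      S.pair_comm_one hz.2.2, S.pair_comm_one hz.2.1, one_pow, one_pow, one_mul, one_mul]) rfl
  refine ⟨⟨H.m + 1, Fin.cons w H.t, Fin.cons v H.l, H.R, fun z hz => (H.R_le hz).1, ?_, ?_, ?_, ?_, ?_, ?_, ?_, ?_, ?_,
    H.aniso, ?_⟩⟩
  · intro i; induction i using Fin.cases with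
    | zero => exact hwW
    | succ j => exact (H.t_mem j).1
  · intro i; induction i using Fin.cases with
    | zero => exact hvW
    | succ j => exact (H.l_mem j).1
  · intro i; induction i using Fin.cases with
    | zero => exact hws
    | succ j => exact H.t_sing j
  · intro i; induction i using Fin.cases with
    | zero => exact hvs
    | succ j => exact H.l_sing j
  · intro i j; induction i using Fin.cases <;> induction j using Fin.cases
    · simpa using hvw
    · simpa [Ne.symm (Fin.succ_ne_zero _)] using (H.t_mem _).2.1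
    · simpa [Fin.succ_ne_zero] using S.pair_comm_one (H.l_mem _).2.2
    · simpa [Fin.succ_inj] using H.lt _ _
  · intro i j; induction i using Fin.cases <;> induction j using Fin.cases
    · exact S.pair_self v
    · exact (H.l_mem _).2.1
    · exact S.pair_comm_one (H.l_mem _).2.1
    · exact H.ll _ _
  · intro i j; induction i using Fin.cases <;> induction j using Fin.cases
    · exact S.pair_self w
    · exact (H.t_mem _).2.2
    · exact S.pair_comm_one (H.t_mem _).2.2
    · exact H.tt _ _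
  · intro i z hz; induction i using Fin.cases with
    | zero => exact (H.R_le hz).2.1
    | succ j => exact H.lR j z hz
  · intro i z hz; induction i using Fin.cases with
    | zero => exact (H.R_le hz).2.2
    | succ j => exact H.tR j z hz
  · intro z hz
    obtain ⟨a, b, z', hz', rfl⟩ := hsplit z hz
    obtain ⟨a', b', x, hx, rfl⟩ := H.decomp z' hz'
    refine ⟨Fin.cons a a', Fin.cons b b', x, hx, ?_⟩
    simp only [Fin.sum_univ_succ, Fin.cons_zero, Fin.cons_succ]
    abel

variable {S}

/-- The frame of a hyperbolic basis with coordinates on the rest. -/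
theorem frame_of_hyp {ω : K} (hω : ω ^ r = 1) (hω1 : ω ≠ 1) (hexp : ∀ v : Ω, r • v = 0)
    (H : HypBasis S ω (fun v => S.op v ^ r = 1) ⊤) {Q : Type*} [AddCommGroup Q] (q : Q →+ Ω)
    (hq : Function.Injective q) (hqR : ∀ v, v ∈ H.R ↔ v ∈ Set.range q) :
    ∃ F : Frame S H.m Q, ∀ h, F.H h = q h := by
  classical
  have hr : r ≠ 0 := (Fact.out : r.Prime).ne_zero
  let T := lin (r := r) hexp H.t
  let L := lin (r := r) hexp H.l
  let φ : ((Fin H.m → ZMod r) × (Fin H.m → ZMod r)) × Q →+ Ω := (T.coprod L).coprod q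
  have hφ : ∀ a b h, φ ((a, b), h) = T a + L b + q h := fun a b h => rfl
  have hinj : Function.Injective φ := by
    refine (injective_iff_map_eq_zero φ).2 ?_
    rintro ⟨⟨a, b⟩, h⟩ e
    rw [hφ] at e
    have hprim : IsPrimitiveRoot ω r := (IsPrimitiveRoot.iff_orderOf).2 (orderOf_eq_prime hω hω1)
    have hRq : q h ∈ H.R := (hqR _).2 ⟨h, rfl⟩
    have ha : a = 0 := funext fun i => by
      have e' := congrArg (S.pair (H.l i)) e
      rw [S.pair_add_right hr, S.pair_add_right hr, S.pair_zero_right, H.lR i _ hRq, mul_one,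
        show L b = ∑ j, (b j).val • H.l j from rfl, S.pair_sum_right,
        show T a = ∑ j, (a j).val • H.t j from rfl, S.pair_sum_right] at e'
      simp only [S.pair_nsmul_right, H.ll, H.lt, one_pow, Finset.prod_const_one, mul_one] at e'
      rw [Finset.prod_eq_single i (fun j _ hj => by rw [if_neg (Ne.symm hj), one_pow])
        (fun h => absurd (Finset.mem_univ i) h), if_pos rfl] at e'
      exact (ZMod.val_eq_zero _).1 (Nat.eq_zero_of_dvd_of_lt (hprim.dvd_of_pow_eq_one _ e') (ZMod.val_lt _))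
    subst ha
    have hb : b = 0 := funext fun i => by
      have e' := congrArg (S.pair (H.t i)) e
      rw [map_zero, zero_add, S.pair_add_right hr, S.pair_zero_right, H.tR i _ hRq, mul_one,
        show L b = ∑ j, (b j).val • H.l j from rfl, S.pair_sum_right] at e'
      have hti : ∀ j, S.pair (H.t i) (H.l j) = if j = i then ω⁻¹ else 1 := fun j => by
        have h2 := S.pair_swap hr (H.l j) (H.t i)
        rw [H.lt] at h2
        split_ifs with hji
        · rw [if_pos hji] at h2; exact (inv_eq_of_mul_eq_one_right h2).symm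
        · rwa [if_neg hji, one_mul] at h2
      simp only [S.pair_nsmul_right, hti] at e'
      rw [Finset.prod_eq_single i (fun j _ hj => by rw [if_neg hj, one_pow])
        (fun h => absurd (Finset.mem_univ i) h), if_pos rfl, inv_pow, inv_eq_one] at e'
      exact (ZMod.val_eq_zero _).1 (Nat.eq_zero_of_dvd_of_lt (hprim.dvd_of_pow_eq_one _ e') (ZMod.val_lt _))
    subst hb
    rw [map_zero, map_zero, zero_add, zero_add, ← map_zero q] at e
    rw [hq e]; rfl
  have hmod : ∀ (k : ℕ) (v : Ω), (k : ZMod r).val • v = k • v := by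
    intro k v
    rw [ZMod.val_natCast]
    conv_rhs => rw [← Nat.mod_add_div k r, add_smul, mul_comm r, mul_smul, hexp, smul_zero, add_zero]
  have hsurj : Function.Surjective φ := by
    intro v
    obtain ⟨a, b, x, hx, rfl⟩ := H.decomp v trivial
    obtain ⟨h, rfl⟩ := (hqR x).1 hx
    refine ⟨((fun i => (a i : ZMod r), fun i => (b i : ZMod r)), h), ?_⟩
    rw [hφ, show T _ = ∑ j, ((a j : ZMod r)).val • H.t j from rfl, show L _ = ∑ j, ((b j : ZMod r)).val • H.l j from rfl]
    simp only [hmod]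
  let ι := AddEquiv.ofBijective φ ⟨hinj, hsurj⟩
  have hT : ∀ i, ι ((Pi.single i 1, 0), 0) = H.t i := fun i => by
    show φ _ = _; rw [hφ, map_zero, map_zero, add_zero, add_zero]; exact lin_single hexp H.t i
  have hL : ∀ i, ι ((0, Pi.single i 1), 0) = H.l i := fun i => by
    show φ _ = _; rw [hφ, map_zero, map_zero, zero_add, add_zero]; exact lin_single hexp H.l i
  have hH : ∀ h, ι ((0, 0), h) = q h := fun h => by
    show φ _ = _; rw [hφ, map_zero, map_zero, zero_add, zero_add]
  exact ⟨⟨ι, ω, hω, hω1, fun i j => by rw [hL, hT, H.lt], fun i j => by rw [hL, hL, H.ll],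
    fun i j => by rw [hT, hT, H.tt], fun i h => by rw [hL, hH, H.lR i _ ((hqR _).2 ⟨h, rfl⟩)],
    fun i h => by rw [hT, hH, H.tR i _ ((hqR _).2 ⟨h, rfl⟩)], fun i => by rw [hT]; exact H.t_sing i,
    fun i => by rw [hL]; exact H.l_sing i⟩, hH⟩

theorem zero_range (H0 : AddSubgroup Ω) (h : H0 = ⊥) (v : Ω) :
    v ∈ H0 ↔ v ∈ Set.range (0 : PUnit →+ Ω) := by
  rw [h, AddSubgroup.mem_bot]
  exact ⟨fun e => ⟨0, e.symm⟩, fun ⟨_, e⟩ => e.symm⟩

variable (S) [Finite Ω]

/-- All operators of exponent `r`. -/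
theorem exists_frame_split {ω : K} (hω : ω ^ r = 1) (hω1 : ω ≠ 1) (hexp : ∀ v : Ω, r • v = 0)
    (hpow : ∀ v, S.op v ^ r = 1) : ∃ m, Nonempty (Frame S m PUnit) := by
  obtain ⟨H⟩ := S.exists_hyp hω hω1 (fun v => S.op v ^ r = 1) (fun v w _ _ => ⟨0, hpow _⟩) ⊤
    (fun v _ h => S.nondeg v fun w => h w trivial)
  have hR : H.R = ⊥ := (AddSubgroup.eq_bot_iff_forall _).2 fun v hv =>
    by_contra fun hne => H.aniso v hv hne (hpow v)
  obtain ⟨F, -⟩ := frame_of_hyp hω hω1 hexp H (0 : PUnit →+ Ω) (fun a b _ => Subsingleton.elim a b)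
    (zero_range _ hR)
  exact ⟨_, ⟨F⟩⟩

end PS

end Cfsg.Agent.BaseTwo
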