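import Cfsg.Agent.BaseTwo.Dispatch
import Mathlib.GroupTheory.Solvable

/-!
A maximal abelian normal subgroup acting by scalars, and the chief factors above it.
-/

set_option autoImplicit false
set_option maxHeartbeats 1000000

namespace Cfsg.Agent.BaseTwo

/-- A group of semilinear maps whose maximal abelian normal subgroup consists of scalars. -/
structure Setting (K V G : Type*) [Field K] [AddCommGroup V] [Module K V] [Group G]
    [DistribMulAction G V] where
  σ : G → (K ≃+* K)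
  semi : ∀ (g : G) (c : K) (z : V), g • (c • z) = σ g c • (g • z)
  B : Subgroup G
  normal : B.Normal
  comm : ∀ a ∈ B, ∀ b ∈ B, a * b = b * a
  maxi : ∀ N : Subgroup G, N.Normal → (∀ a ∈ N, ∀ b ∈ N, a * b = b * a) → B ≤ N → N = B
  scalar : ∀ b ∈ B, ∃ k : K, ∀ v : V, b • v = k • v
  refl_of_cent : ∀ g : G, (∀ b ∈ B, g * b = b * g) → σ g = RingEquiv.refl K
  faithful : ∀ g : G, (∀ v : V, g • v = v) → g = 1

namespace Setting

variable {K V G : Type*} [Field K] [AddCommGroup V] [Module K V] [Group G] [DistribMulAction G V]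
  (T : Setting K V G)

theorem cent_of_refl {g : G} (h : T.σ g = RingEquiv.refl K) {b : G} (hb : b ∈ T.B) : g * b = b * g := by
  obtain ⟨k, hk⟩ := T.scalar b hb
  refine inv_mul_eq_one.1 (T.faithful _ fun v => ?_)
  rw [mul_smul, mul_smul, hk, inv_smul_eq_iff]
  rw [mul_smul, hk, T.semi, h, RingEquiv.refl_apply]

/-- The centraliser of the scalars. -/
def C : Subgroup G := Subgroup.centralizer T.B

theorem mem_C {g : G} : g ∈ T.C ↔ ∀ b ∈ T.B, g * b = b * g :=
  ⟨fun h b hb => (h b hb).symm, fun h b hb => (h b hb).symm⟩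

theorem B_le_C : T.B ≤ T.C := fun b hb => T.mem_C.2 fun c hc => T.comm b hb c hc

theorem lin {d : G} (hd : d ∈ T.C) (k : K) (z : V) : d • (k • z) = k • (d • z) := by
  rw [T.semi, T.refl_of_cent d (T.mem_C.1 hd), RingEquiv.refl_apply]

/-- The linear map of an element of the centraliser. -/
def L (d : T.C) : Module.End K V where
  toFun z := d.1 • z
  map_add' := smul_add d.1
  map_smul' k z := T.lin d.2 k z

theorem C_normal : T.C.Normal := by
  haveI := T.normal
  refine ⟨fun c hc g => T.mem_C.2 fun b hb => ?_⟩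
  have h := T.mem_C.1 hc (g⁻¹ * b * g) (by simpa using T.normal.conj_mem b hb g⁻¹)
  have := congrArg (fun x => g * x * g⁻¹) h
  simpa [mul_assoc] using this

/-- The operators of a subgroup. -/
def algOf (D : Subgroup G) : Submodule K (Module.End K V) :=
  Submodule.span K {e | ∃ d : T.C, d.1 ∈ D ∧ e = T.L d}

/-- A chief factor above the scalars. -/
structure Chief (D : Subgroup G) : Prop where
  normal : D.Normal
  lt : T.B < D
  le : D ≤ T.C
  mini : ∀ N : Subgroup G, N.Normal → T.B ≤ N → N ≤ D → N = T.B ∨ N = D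

theorem exists_chief [Finite G] (E : Subgroup G) (hE : E.Normal) (hEC : E ≤ T.C) (hlt : T.B < E) :
    ∃ D, T.Chief D ∧ D ≤ E := by
  obtain ⟨D, ⟨hDn, hBD, hDE⟩, hmin⟩ := Set.Finite.exists_minimal
    (Set.toFinite {D : Subgroup G | D.Normal ∧ T.B < D ∧ D ≤ E}) ⟨E, hE, hlt, le_rfl⟩
  refine ⟨D, ⟨hDn, hBD, hDE.trans hEC, fun N hN hBN hND => ?_⟩, hDE⟩
  rcases eq_or_lt_of_le hBN with h | h
  · exact Or.inl h.symm
  · exact Or.inr (le_antisymm hND (hmin ⟨hN, h, hND.trans hDE⟩ hND))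

variable {T} {D : Subgroup G} (hD : T.Chief D)

include hD in
theorem Chief.not_comm : ¬ ∀ a ∈ D, ∀ b ∈ D, a * b = b * a := fun h =>
  hD.lt.ne (T.maxi D hD.normal h hD.lt.le).symm

include hD in
theorem Chief.center_le {d : G} (hd : d ∈ D) (h : ∀ a ∈ D, d * a = a * d) : d ∈ T.B := by
  haveI := hD.normal
  have hZ : D ⊓ Subgroup.centralizer D = T.B := T.maxi _ inferInstance
    (fun a ha b hb => (ha.2 b hb.1).symm)
    fun b hb => ⟨hD.lt.le hb, fun a ha => T.mem_C.1 (hD.le ha) b hb⟩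
  exact hZ ▸ ⟨hd, fun a ha => (h a ha).symm⟩

variable [Finite G] [Group.IsSolvable G]

omit [Finite G] in
include hD in
theorem Chief.commutator_mem {a b : G} (ha : a ∈ D) (hb : b ∈ D) : a * b * a⁻¹ * b⁻¹ ∈ T.B := by
  haveI := hD.normal
  haveI := T.normal
  have hle : ⁅D, D⁆ ⊔ T.B ≤ D := sup_le (Subgroup.commutator_le_self D) hD.lt.le
  rcases hD.mini (⁅D, D⁆ ⊔ T.B) inferInstance le_sup_right hle with h | h
  · rw [← h]
    exact Subgroup.mem_sup_left (Subgroup.commutator_mem_commutator ha hb)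
  exfalso
  let π := QuotientGroup.mk' T.B
  have hself : D.map π ≤ ⁅D.map π, D.map π⁆ := by
    conv_lhs => rw [← h, Subgroup.map_sup, Subgroup.map_commutator]
    refine sup_le le_rfl ?_
    rw [QuotientGroup.map_mk'_self]
    exact bot_le
  have hder : ∀ n, D.map π ≤ derivedSeries (G ⧸ T.B) n := by
    intro n
    induction n with
    | zero => exact le_top
    | succ n ih => exact hself.trans (Subgroup.commutator_mono ih ih)
  obtain ⟨n, hn⟩ := (Group.isSolvable_def (G ⧸ T.B)).1 (Group.isSolvable_of_surjective (QuotientGroup.mk'_surjective T.B))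
  refine hD.lt.not_ge fun d hd => ?_
  have : π d ∈ (⊥ : Subgroup (G ⧸ T.B)) := hn ▸ hder n (Subgroup.mem_map_of_mem π hd)
  exact (QuotientGroup.eq_one_iff d).1 this

omit [Finite G] in
include hD in
theorem Chief.quot_comm (a b : G) (ha : a ∈ D) (hb : b ∈ D) :
    letI := T.normal
    (QuotientGroup.mk a : G ⧸ T.B) * QuotientGroup.mk b = QuotientGroup.mk b * QuotientGroup.mk a := by
  haveI := T.normal
  refine mul_inv_eq_iff_eq_mul.1 (mul_inv_eq_one.1 ?_)
  rw [← QuotientGroup.mk_inv, ← QuotientGroup.mk_inv, ← QuotientGroup.mk_mul, ← QuotientGroup.mk_mul,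
    ← QuotientGroup.mk_mul, QuotientGroup.eq_one_iff]
  exact Chief.commutator_mem hD ha hb

include hD in
theorem Chief.exists_prime : ∃ r : ℕ, r.Prime ∧ ∀ d ∈ D, d ^ r ∈ T.B := by
  haveI := T.normal
  haveI := hD.normal
  obtain ⟨a, haD, haB⟩ : ∃ a, a ∈ D ∧ a ∉ T.B := Set.exists_of_ssubset hD.lt
  set x : G ⧸ T.B := QuotientGroup.mk a with hx
  have hx1 : x ≠ 1 := fun h => haB ((QuotientGroup.eq_one_iff a).1 h)
  have ho : orderOf x ≠ 1 := fun h => hx1 (orderOf_eq_one_iff.1 h)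
  obtain ⟨r, hr, hrd⟩ := Nat.exists_prime_and_dvd ho
  obtain ⟨e, he⟩ := hrd
  let E : Subgroup G :=
    { carrier := {d | d ∈ D ∧ d ^ r ∈ T.B}
      one_mem' := ⟨D.one_mem, by rw [one_pow]; exact T.B.one_mem⟩
      mul_mem' := fun {u v} hu hv => ⟨D.mul_mem hu.1 hv.1, by
        rw [← QuotientGroup.eq_one_iff, QuotientGroup.mk_pow, QuotientGroup.mk_mul,
          (show Commute (QuotientGroup.mk u : G ⧸ T.B) (QuotientGroup.mk v) from Chief.quot_comm hD u v hu.1 hv.1).mul_pow,
          ← QuotientGroup.mk_pow, ← QuotientGroup.mk_pow, (QuotientGroup.eq_one_iff _).2 hu.2,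
          (QuotientGroup.eq_one_iff _).2 hv.2, one_mul]⟩
      inv_mem' := fun {u} hu => ⟨D.inv_mem hu.1, by rw [inv_pow]; exact T.B.inv_mem hu.2⟩ }
  have hEn : E.Normal := ⟨fun d hd g => ⟨hD.normal.conj_mem d hd.1 g, by
    rw [conj_pow]; exact T.normal.conj_mem _ hd.2 g⟩⟩
  have hEB : T.B ≤ E := fun b hb => ⟨hD.lt.le hb, T.B.pow_mem hb r⟩
  rcases hD.mini E hEn hEB (fun d hd => hd.1) with h | h
  · exfalso
    have hmem : a ^ e ∈ E := by
      refine ⟨D.pow_mem haD e, ?_⟩
      rw [← QuotientGroup.eq_one_iff, ← pow_mul, mul_comm, ← he, QuotientGroup.mk_pow]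
      exact pow_orderOf_eq_one x
    rw [h, ← QuotientGroup.eq_one_iff, QuotientGroup.mk_pow] at hmem
    have hpos := orderOf_pos x
    have he0 : 0 < e := Nat.pos_of_ne_zero fun h0 => by rw [he, h0, mul_zero] at hpos; omega
    have := Nat.le_of_dvd he0 (orderOf_dvd_of_pow_eq_one hmem)
    rw [he] at this
    exact absurd this (not_le.2 (lt_mul_left he0 hr.one_lt))
  · exact ⟨r, hr, fun d hd => (h.symm ▸ hd : d ∈ E).2⟩

end Setting

end Cfsg.Agent.BaseTwo
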