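import Cfsg.Agent.BaseTwo.PhaseTwo

/-!
The cubic signs: dimension at least five over the field with two elements.
-/

set_option autoImplicit false
set_option maxHeartbeats 1000000

namespace Cfsg.Agent.BaseTwo

variable {K : Type*} [Field K] {m n : ℕ}

attribute [local instance] fact_two

/-- The sign of a bit. -/
def sgn (x : ZMod 2) : K := (-1) ^ x.val

theorem sgn_add (x y : ZMod 2) : sgn (K := K) (x + y) = sgn x * sgn y := by
  have h : ∀ x : ZMod 2, x = 0 ∨ x = 1 := by decide
  rcases h x with rfl | rfl <;> rcases h y with rfl | rfl <;>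
    simp [sgn, CharTwo.add_self_eq_zero, ZMod.val_one]

theorem sgn_ne_zero (x : ZMod 2) : sgn (K := K) x ≠ 0 := pow_ne_zero _ (neg_ne_zero.2 one_ne_zero)

theorem sgn_inj (hK : (-1 : K) ≠ 1) {x y : ZMod 2} (h : sgn (K := K) x = sgn y) : x = y := by
  have hh : ∀ x : ZMod 2, x = 0 ∨ x = 1 := by decide
  rcases hh x with rfl | rfl <;> rcases hh y with rfl | rfl <;>
    first
    | rfl
    | (simp [sgn, ZMod.val_one] at h; first | exact absurd h hK | exact absurd h.symm hK)

/-- The cubic form of the broken line along `σ`. -/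
def cub (σ : Equiv.Perm (Fin m)) (a : Fin m → ZMod 2) : ZMod 2 :=
  ∑ i : Fin (m - 2), a (σ ⟨i.1, by omega⟩) * a (σ ⟨i.1 + 1, by omega⟩) * a (σ ⟨i.1 + 2, by omega⟩)

theorem cub_four (σ : Equiv.Perm (Fin m)) (a b c e : Fin m → ZMod 2) :
    cub σ (a + b + c + e) + (cub σ (a + b + c) + cub σ (a + b + e) + cub σ (a + c + e) + cub σ (b + c + e))
      + (cub σ (a + b) + cub σ (a + c) + cub σ (a + e) + cub σ (b + c) + cub σ (b + e) + cub σ (c + e))
      + (cub σ a + cub σ b + cub σ c + cub σ e) = 0 := by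
  simp only [cub, ← Finset.sum_add_distrib, Pi.add_apply]
  refine Finset.sum_eq_zero fun i _ => ?_
  ring_nf
  simp [CharTwo.two_eq_zero, show (4 : ZMod 2) = 0 from rfl, show (6 : ZMod 2) = 0 from rfl,
    show (8 : ZMod 2) = 0 from rfl]

theorem cub_eq_one {σ : Equiv.Perm (Fin m)} {a : Fin m → ZMod 2} (h : cub σ a ≠ 0) :
    ∃ i : Fin (m - 2), a (σ ⟨i.1, by omega⟩) ≠ 0 ∧ a (σ ⟨i.1 + 1, by omega⟩) ≠ 0 ∧
      a (σ ⟨i.1 + 2, by omega⟩) ≠ 0 := by
  by_contra hne
  push_neg at hne
  apply h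
  refine Finset.sum_eq_zero fun i _ => ?_
  by_cases h1 : a (σ ⟨i.1, by omega⟩) = 0
  · simp [h1]
  · by_cases h2 : a (σ ⟨i.1 + 1, by omega⟩) = 0
    · simp [h2]
    · simp [hne i h1 h2]

theorem cub_few (σ : Equiv.Perm (Fin m)) (x y : Fin m) {a : Fin m → ZMod 2}
    (ha : ∀ j, a j ≠ 0 → j = x ∨ j = y) : cub σ a = 0 := by
  by_contra h
  obtain ⟨i, h0, h1, h2⟩ := cub_eq_one h
  have e0 := ha _ h0
  have e1 := ha _ h1
  have e2 := ha _ h2
  have n01 : σ ⟨i.1, by omega⟩ ≠ σ ⟨i.1 + 1, by omega⟩ := fun e => by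
    have := congrArg Fin.val (σ.injective e); simp at this
  have n02 : σ ⟨i.1, by omega⟩ ≠ σ ⟨i.1 + 2, by omega⟩ := fun e => by
    have := congrArg Fin.val (σ.injective e); simp at this
  have n12 : σ ⟨i.1 + 1, by omega⟩ ≠ σ ⟨i.1 + 2, by omega⟩ := fun e => by
    have := congrArg Fin.val (σ.injective e); simp at this
  grind

/-- The vectors on which the coefficient vanishes. -/
def special (a : Fin m → ZMod 2) : Prop := a = 0 ∨ a ∈ Set.range (sg 2)

theorem not_special {a : Fin m → ZMod 2} {i j : Fin m} (hij : i ≠ j) (hi : a i ≠ 0) (hj : a j ≠ 0) :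
    ¬ special a := by
  rintro (rfl | ⟨l, rfl⟩)
  · exact hi rfl
  · by_cases h : i = l
    · subst h; exact hj (by simp [sg, hij.symm])
    · exact hi (by simp [sg, h])

variable {G : Type*} [Group G] [DistribMulAction G (Fin m → ZMod 2)]

open scoped Classical in
/-- The signs. -/
noncomputable def cubC (σ : Equiv.Perm (Fin m)) (a : Fin m → ZMod 2) : K :=
  if special a then 0 else sgn (cub σ a)

theorem good_cubic [Finite G] [Group.IsSolvable G] (hm : 5 ≤ m) (hn : n ∣ 4) (hK : (-1 : K) ≠ 1) :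
    ∃ c : (Fin m → ZMod 2) → K, Good 2 n m G c := by
  classical
  have hn0 : n ≠ 0 := fun e => by subst e; simp at hn
  let W : Subgroup (G × Equiv.Perm (Fin m)) :=
    { carrier := {q | ∀ i, q.1 • (sg 2 i : Fin m → ZMod 2) = sg 2 (q.2 i)}
      mul_mem' := fun {a b} ha hb i => by
        simp [Prod.fst_mul, Prod.snd_mul, mul_smul, hb i, ha (b.2 i)]
      one_mem' := fun i => by simp
      inv_mem' := fun {a} ha i => by
        rw [Prod.fst_inv, Prod.snd_inv, inv_smul_eq_iff, ha]
        simp }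
  haveI : Group.IsSolvable W := Group.isSolvable_of_isSolvable_injective
    (f := (MonoidHom.fst _ _).comp W.subtype) fun a b h => Subtype.ext (Prod.ext h (Equiv.ext fun i =>
      sg_inj (r := 2) (by rw [← a.2 i, ← b.2 i]; exact congrArg (· • (sg 2 i : Fin m → ZMod 2)) h)))
  let f : W →* Equiv.Perm (Fin m) := (MonoidHom.snd _ _).comp W.subtype
  haveI : Group.IsSolvable f.range := Group.isSolvable_of_surjective f.rangeRestrict_surjective
  have hrev : (Fin.revPerm : Equiv.Perm (Fin m)) ≠ 1 := fun e => by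
    have := congrArg (fun s : Equiv.Perm (Fin m) => (s ⟨0, by omega⟩).1) e
    simp at this
    omega
  obtain ⟨σ, hσ⟩ := exists_conj_notMem (by rw [Nat.card_eq_fintype_card, Fintype.card_fin]; exact hm) f.range hrev
  have hnz : ∀ {a : Fin m → ZMod 2}, ¬ special a → cubC (K := K) σ a ≠ 0 := fun h => by
    rw [cubC, if_neg h]; exact sgn_ne_zero _
  have hpair : ∀ x y : Fin m, x ≠ y → ¬ special (sg 2 x + sg 2 y) := fun x y h =>
    not_special h (by simp [sg, h]) (by simp [sg, h.symm])
  have htrip : ∀ x y z : Fin m, x ≠ y → x ≠ z → y ≠ z → ¬ special (sg 2 x + sg 2 y + sg 2 z) :=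
    fun x y z h1 h2 h3 => not_special h1 (by simp [sg, h1, h2]) (by simp [sg, h1.symm, h3])
  have hother : ∀ x : Fin m, ∃ y z : Fin m, x ≠ y ∧ x ≠ z ∧ y ≠ z := fun x => by
    by_cases h0 : x.1 = 0
    · exact ⟨⟨1, by omega⟩, ⟨2, by omega⟩, Fin.ne_of_val_ne (by simp [h0]), Fin.ne_of_val_ne (by simp [h0]),
        Fin.ne_of_val_ne (by simp)⟩
    · by_cases h1 : x.1 = 1
      · exact ⟨⟨0, by omega⟩, ⟨2, by omega⟩, Fin.ne_of_val_ne (by simp [h1]), Fin.ne_of_val_ne (by simp [h1]),
          Fin.ne_of_val_ne (by simp)⟩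
      · exact ⟨⟨0, by omega⟩, ⟨1, by omega⟩, Fin.ne_of_val_ne h0, Fin.ne_of_val_ne h1, Fin.ne_of_val_ne (by simp)⟩
  refine ⟨cubC σ, by rw [cubC, if_pos (show special (0 : Fin m → ZMod 2) from Or.inl rfl)], ?_, fun g d hd hg => ?_⟩
  · rw [eq_top_iff, ← closure_sg (r := 2), AddSubgroup.closure_le]
    rintro _ ⟨x, rfl⟩
    obtain ⟨y, z, h1, h2, h3⟩ := hother x
    have hsum := add_mem (add_mem
      (AddSubgroup.subset_closure (show (sg 2 x + sg 2 y : Fin m → ZMod 2) ∈ {a | cubC (K := K) σ a ≠ 0} from hnz (hpair x y h1)))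
      (AddSubgroup.subset_closure (show (sg 2 x + sg 2 z : Fin m → ZMod 2) ∈ {a | cubC (K := K) σ a ≠ 0} from hnz (hpair x z h2))))
      (AddSubgroup.subset_closure (show (sg 2 x + sg 2 y + sg 2 z : Fin m → ZMod 2) ∈ {a | cubC (K := K) σ a ≠ 0} from hnz (htrip x y z h1 h2 h3)))
    have e : sg 2 x + sg 2 y + (sg 2 x + sg 2 z) + (sg 2 x + sg 2 y + sg 2 z) = sg 2 x := by
      have : sg 2 x + sg 2 y + (sg 2 x + sg 2 z) + (sg 2 x + sg 2 y + sg 2 z) =
        (sg 2 x + sg 2 x) + sg 2 x + (sg 2 y + sg 2 y) + (sg 2 z + sg 2 z) := by abel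
      rw [this, vec_add_self, vec_add_self, vec_add_self, zero_add, add_zero, add_zero]
    rwa [e] at hsum
  -- the permutation of the coordinates
  have hd0 : ∀ a, d a ≠ 0 := hd.ne_zero hn0
  have hsing : ∀ i : Fin m, ∃ j : Fin m, g • (sg 2 i : Fin m → ZMod 2) = sg 2 j := by
    intro i
    by_contra hne
    push_neg at hne
    have h0 : g • (sg 2 i : Fin m → ZMod 2) ≠ 0 := fun h => sg_ne_zero (r := 2) i
      (MulAction.injective g (by show g • _ = g • _; rw [h, smul_zero]))
    have hns : ¬ special (g • (sg 2 i : Fin m → ZMod 2)) := by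
      rintro (h | ⟨j, hj⟩)
      · exact h0 h
      · exact hne j hj.symm
    have := (nonzero_class hn0 hd hg (sg 2 i)).1 (hnz hns)
    exact this (by rw [cubC, if_pos (show special (sg 2 i) from Or.inr ⟨i, rfl⟩)])
  choose s hs using hsing
  have hsi : Function.Injective s := fun i j e => sg_inj (r := 2) (MulAction.injective g (by
    show g • _ = g • _; rw [hs, hs, e]))
  let E : (Fin m → ZMod 2) → ZMod 2 := fun a => cub σ (g • a) + cub σ a
  have hdE : ∀ a, ¬ special a → d a = sgn (E a) := by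
    intro a ha
    have hns : ¬ special (g • a) := fun h => by
      have := (nonzero_class hn0 hd hg a).2 (hnz ha)
      exact this (by rw [cubC, if_pos h])
    have h := hg a
    rw [cubC, if_neg hns, cubC, if_neg ha] at h
    rw [show E a = cub σ (g • a) + cub σ a from rfl, sgn_add, h, mul_assoc, ← sgn_add,
      CharTwo.add_self_eq_zero, show sgn (K := K) 0 = 1 by simp [sgn], mul_one]
  have hE1 : ∀ i, E (sg 2 i) = 0 := fun i => by
    show cub σ (g • sg 2 i) + cub σ (sg 2 i) = 0
    rw [hs, cub_few σ (s i) (s i) (fun j hj => Or.inl (by by_contra h; exact hj (by simp [sg, h]))),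
      cub_few σ i i (fun j hj => Or.inl (by by_contra h; exact hj (by simp [sg, h]))), add_zero]
  have hc2 : ∀ x y : Fin m, cub σ (sg 2 x + sg 2 y) = 0 := fun x y => cub_few σ x y fun j hj => by
    by_contra h
    push_neg at h
    exact hj (by simp [sg, h.1, h.2])
  have hE2 : ∀ i j, E (sg 2 i + sg 2 j) = 0 := fun i j => by
    show cub σ (g • (sg 2 i + sg 2 j)) + cub σ (sg 2 i + sg 2 j) = 0
    rw [smul_add, hs, hs, hc2, hc2, add_zero]
  have hEfour : ∀ a b c e : Fin m → ZMod 2,
      E (a + b + c + e) + (E (a + b + c) + E (a + b + e) + E (a + c + e) + E (b + c + e))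
      + (E (a + b) + E (a + c) + E (a + e) + E (b + c) + E (b + e) + E (c + e))
      + (E a + E b + E c + E e) = 0 := fun a b c e => by
    have h1 := cub_four σ (g • a) (g • b) (g • c) (g • e)
    have h2 := cub_four σ a b c e
    simp only [E, smul_add]
    linear_combination h1 + h2
  let x : Fin m → K := fun i => d (sg 2 i)
  have hpow : ∀ i, x i ^ 4 = 1 := fun i => by
    obtain ⟨k, hk⟩ := hn
    rw [hk, pow_mul, hd.2.1, one_pow]
  have hd2 : ∀ i j, i ≠ j → d (sg 2 i + sg 2 j) = 1 := fun i j h => by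
    rw [hdE _ (hpair i j h), hE2]; simp [sgn]
  have hd3 : ∀ a b c : Fin m, a ≠ b → a ≠ c → b ≠ c →
      d (sg 2 a + sg 2 b + sg 2 c) * (x a * x b * x c) = 1 := by
    intro a b c h1 h2 h3
    have := phase_three hd (sg 2 a) (sg 2 b) (sg 2 c)
    rw [hd2 a b h1, hd2 a c h2, hd2 b c h3] at this
    linear_combination this
  have hfour : ∀ a b c e : Fin m, a ≠ b → a ≠ c → a ≠ e → b ≠ c → b ≠ e → c ≠ e →
      d (sg 2 a + sg 2 b + sg 2 c + sg 2 e) = 1 ∧ x a * x b * x c * x e = 1 := by
    intro a b c e hab hac hae hbc hbe hce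
    have hns : ¬ special (sg 2 a + sg 2 b + sg 2 c + sg 2 e) :=
      not_special hab (by simp [sg, hab, hac, hae]) (by simp [sg, hab.symm, hbc, hbe])
    have hE := hEfour (sg 2 a) (sg 2 b) (sg 2 c) (sg 2 e)
    simp only [hE1, hE2, add_zero] at hE
    have hprod : d (sg 2 a + sg 2 b + sg 2 c + sg 2 e) =
        d (sg 2 a + sg 2 b + sg 2 c) * d (sg 2 a + sg 2 b + sg 2 e) * d (sg 2 a + sg 2 c + sg 2 e) *
          d (sg 2 b + sg 2 c + sg 2 e) := by
      rw [hdE _ hns, hdE _ (htrip a b c hab hac hbc), hdE _ (htrip a b e hab hae hbe),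
        hdE _ (htrip a c e hac hae hce), hdE _ (htrip b c e hbc hbe hce), ← sgn_add, ← sgn_add, ← sgn_add,
        add_eq_zero_iff_eq_neg.1 hE, CharTwo.neg_eq]
    have hph := phase_three hd (sg 2 a) (sg 2 b) (sg 2 c + sg 2 e)
    rw [hd2 c e hce, hd2 a b hab, ← add_assoc (sg 2 a + sg 2 b), ← add_assoc (sg 2 a), ← add_assoc (sg 2 b)] at hph
    have t1 := hd3 a b c hab hac hbc
    have t2 := hd3 a b e hab hae hbe
    have t3 := hd3 a c e hac hae hce
    have t4 := hd3 b c e hbc hbe hce
    generalize d (sg 2 a + sg 2 b + sg 2 c + sg 2 e) = D at hph hprod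
    generalize d (sg 2 a + sg 2 b + sg 2 c) = A at hprod t1
    generalize d (sg 2 a + sg 2 b + sg 2 e) = B at hprod t2
    generalize d (sg 2 a + sg 2 c + sg 2 e) = C at hprod hph t3
    generalize d (sg 2 b + sg 2 c + sg 2 e) = D' at hprod hph t4
    have hP : x a * x b * x c * x e = 1 := by
      have e1 : D * (x a * x b * x c * x e) ^ 3 = 1 := by
        rw [hprod]
        linear_combination (D' * B * C * (x a * x b * x e) * (x a * x c * x e) * (x b * x c * x e)) * t1 +
          (D' * C * (x a * x c * x e) * (x b * x c * x e)) * t2 + (D' * (x b * x c * x e)) * t3 + t4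
      have e2 : D * (x a * x b * x c * x e) ^ 2 = 1 := by
        linear_combination ((x a * x b) * (x c * x e) ^ 2) * hph + (D' * (x b * x c * x e)) * t3 + t4
      calc x a * x b * x c * x e = (D * (x a * x b * x c * x e) ^ 2) * (x a * x b * x c * x e) := by rw [e2, one_mul]
        _ = 1 := by rw [mul_assoc, ← pow_succ, e1]
    refine ⟨?_, hP⟩
    rw [hprod]
    linear_combination (D' * B * C * (x a * x b * x e) * (x a * x c * x e) * (x b * x c * x e)) * t1 +
      (D' * C * (x a * x c * x e) * (x b * x c * x e)) * t2 + (D' * (x b * x c * x e)) * t3 + t4 -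
      A * B * C * D' * ((x a * x b * x c * x e) ^ 2 + (x a * x b * x c * x e) + 1) * hP
  have hfive : ∀ a b c e f : Fin m, a ≠ b → a ≠ c → a ≠ e → a ≠ f → b ≠ c → b ≠ e → b ≠ f → c ≠ e →
      c ≠ f → e ≠ f → x a * x b = x c := by
    intro a b c e f hab hac hae haf hbc hbe hbf hce hcf hef
    have hns : ¬ special (sg 2 a + sg 2 b + sg 2 c + (sg 2 e + sg 2 f)) :=
      not_special hab (by simp [sg, hab, hac, hae, haf]) (by simp [sg, hab.symm, hbc, hbe, hbf])
    have hE := hEfour (sg 2 a) (sg 2 b) (sg 2 c) (sg 2 e + sg 2 f)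
    simp only [hE1, hE2, add_zero] at hE
    have hns4 : ∀ p q : Fin m, p ≠ q → p ≠ e → p ≠ f → q ≠ e → q ≠ f →
        d (sg 2 p + sg 2 q + (sg 2 e + sg 2 f)) = 1 := fun p q h1 h2 h3 h4 h5 => by
      rw [← add_assoc]; exact (hfour p q e f h1 h2 h3 h4 h5 hef).1
    have hs4 : ∀ p q : Fin m, p ≠ q → p ≠ e → p ≠ f → q ≠ e → q ≠ f →
        sgn (K := K) (E (sg 2 p + sg 2 q + (sg 2 e + sg 2 f))) = 1 := fun p q h1 h2 h3 h4 h5 => by
      rw [← hdE, hns4 p q h1 h2 h3 h4 h5]
      exact not_special h1 (by simp [sg, h1, h2, h3]) (by simp [sg, h1.symm, h4, h5])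
    have hns3 : ∀ p : Fin m, p ≠ e → p ≠ f → sgn (K := K) (E (sg 2 p + (sg 2 e + sg 2 f))) * (x p * x e * x f) = 1 :=
      fun p h1 h2 => by rw [← add_assoc, ← hdE _ (htrip p e f h1 h2 hef)]; exact hd3 p e f h1 h2 hef
    have t1 : sgn (K := K) (E (sg 2 a + sg 2 b + sg 2 c)) * (x a * x b * x c) = 1 := by
      rw [← hdE _ (htrip a b c hab hac hbc)]; exact hd3 a b c hab hac hbc
    have h5 : sgn (K := K) (E (sg 2 a + sg 2 b + sg 2 c + (sg 2 e + sg 2 f))) =
        sgn (E (sg 2 a + sg 2 b + sg 2 c)) * sgn (E (sg 2 a + (sg 2 e + sg 2 f))) *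
          sgn (E (sg 2 b + (sg 2 e + sg 2 f))) * sgn (E (sg 2 c + (sg 2 e + sg 2 f))) := by
      rw [add_assoc, add_eq_zero_iff_eq_neg, CharTwo.neg_eq] at hE
      rw [hE, sgn_add, sgn_add, sgn_add, sgn_add, hs4 a b hab hae haf hbe hbf, hs4 a c hac hae haf hce hcf,
        hs4 b c hbc hbe hbf hce hcf]
      simp only [zero_add, sgn_add, mul_one]
      ring
    have hph := phase_three hd (sg 2 a) (sg 2 b) (sg 2 c + (sg 2 e + sg 2 f))
    rw [hd2 a b hab, ← add_assoc (sg 2 a + sg 2 b), ← add_assoc (sg 2 a) (sg 2 c), ← add_assoc (sg 2 b) (sg 2 c),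
      hdE _ hns, hns4 a c hac hae haf hce hcf, hns4 b c hbc hbe hbf hce hcf, h5,
      hdE (sg 2 c + (sg 2 e + sg 2 f)) (by rw [← add_assoc]; exact htrip c e f hce hcf hef)] at hph
    have t2 := hns3 a hae haf
    have t3 := hns3 b hbe hbf
    have t4 := hns3 c hce hcf
    generalize sgn (K := K) (E (sg 2 a + sg 2 b + sg 2 c)) = P at hph t1
    generalize sgn (K := K) (E (sg 2 a + (sg 2 e + sg 2 f))) = Q at hph t2
    generalize sgn (K := K) (E (sg 2 b + (sg 2 e + sg 2 f))) = R at hph t3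
    generalize sgn (K := K) (E (sg 2 c + (sg 2 e + sg 2 f))) = S at hph t4
    simp only [one_mul] at hph
    have hh : P * Q * R * S * S * x a * x b = 1 := by linear_combination hph
    have key : x a * x b = x a ^ 2 * x b ^ 2 * x c ^ 3 * (x e * x f) ^ 4 := by
      calc x a * x b = (P * (x a * x b * x c)) * (Q * (x a * x e * x f)) * (R * (x b * x e * x f)) *
            (S * (x c * x e * x f)) * (S * (x c * x e * x f)) * (x a * x b) := by
            rw [t1, t2, t3, t4]; ring
        _ = (P * Q * R * S * S * x a * x b) * (x a ^ 2 * x b ^ 2 * x c ^ 3 * (x e * x f) ^ 4) := by ring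
        _ = _ := by rw [hh, one_mul]
    rw [mul_pow, hpow, hpow] at key
    have h1 : x a * x b * x c ^ 3 = 1 := by
      apply mul_left_cancel₀ (mul_ne_zero (hd0 (sg 2 a)) (hd0 (sg 2 b)))
      show x a * x b * _ = x a * x b * 1
      linear_combination -key
    calc x a * x b = x a * x b * x c ^ 4 := by rw [hpow, mul_one]
      _ = (x a * x b * x c ^ 3) * x c := by ring
      _ = x c := by rw [h1, one_mul]
  have hx1 : ∀ i, x i = 1 := by
    intro i
    let p : Equiv.Perm (Fin m) := Equiv.swap ⟨0, by omega⟩ i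
    let q : ℕ → Fin m := fun k => p ⟨k % m, Nat.mod_lt _ (by omega)⟩
    have hq : ∀ j k, j < 5 → k < 5 → j ≠ k → q j ≠ q k := fun j k hj hk hne e => by
      have := congrArg Fin.val (p.injective e)
      simp only [Nat.mod_eq_of_lt (by omega : j < m), Nat.mod_eq_of_lt (by omega : k < m)] at this
      exact hne this
    have hi : q 0 = i := by simp [q, p]
    have key : ∀ (a b c e f : ℕ), a < 5 → b < 5 → c < 5 → e < 5 → f < 5 → a ≠ b → a ≠ c → a ≠ e → a ≠ f →
        b ≠ c → b ≠ e → b ≠ f → c ≠ e → c ≠ f → e ≠ f → x (q c) ^ 2 * x (q e) = 1 := by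
      intro a b c e f la lb lc le lf n1 n2 n3 n4 n5 n6 n7 n8 n9 n10
      have h1 := hfive (q a) (q b) (q c) (q e) (q f) (hq a b la lb n1) (hq a c la lc n2) (hq a e la le n3)
        (hq a f la lf n4) (hq b c lb lc n5) (hq b e lb le n6) (hq b f lb lf n7) (hq c e lc le n8)
        (hq c f lc lf n9) (hq e f le lf n10)
      have h2 := (hfour (q a) (q b) (q c) (q e) (hq a b la lb n1) (hq a c la lc n2) (hq a e la le n3)
        (hq b c lb lc n5) (hq b e lb le n6) (hq c e lc le n8)).2
      rw [h1] at h2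
      rw [pow_two]
      exact h2
    have k1 := key 2 3 0 1 4 (by norm_num) (by norm_num) (by norm_num) (by norm_num) (by norm_num)
      (by norm_num) (by norm_num) (by norm_num) (by norm_num) (by norm_num) (by norm_num) (by norm_num)
      (by norm_num) (by norm_num) (by norm_num)
    have k2 := key 2 3 1 0 4 (by norm_num) (by norm_num) (by norm_num) (by norm_num) (by norm_num)
      (by norm_num) (by norm_num) (by norm_num) (by norm_num) (by norm_num) (by norm_num) (by norm_num)
      (by norm_num) (by norm_num) (by norm_num)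
    rw [hi] at k1 k2
    calc x i = x i * (x i ^ 2 * x (q 1)) ^ 2 := by rw [k1, one_pow, mul_one]
      _ = x i ^ 4 * (x (q 1) ^ 2 * x i) := by ring
      _ = 1 := by rw [hpow, k2, one_mul]
  have hdone : ∀ a, d a = 1 := phase_eq_one hd hx1
    (fun i => by rw [vec_add_self]; exact hd.1) fun i j h => hd2 i j h.ne
  refine ⟨id_of_sg g ?_, hdone⟩
  -- the triples are preserved
  let sp : Equiv.Perm (Fin m) := Equiv.ofBijective s (Finite.injective_iff_bijective.1 hsi)
  suffices hres : σ⁻¹ * sp * σ = 1 by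
    intro i
    have : sp = 1 := by
      calc sp = σ * (σ⁻¹ * sp * σ) * σ⁻¹ := by group
        _ = 1 := by rw [hres]; group
    rw [hs, show s i = sp i from rfl, this]
    rfl
  have hint : ∀ i, i + 2 < m → ∃ i', i' + 2 < m ∧
      (triple m i).map (σ⁻¹ * sp * σ).toEmbedding = triple m i' := by
    intro i hi
    let a := σ ⟨i, by omega⟩
    let b := σ ⟨i + 1, by omega⟩
    let c := σ ⟨i + 2, by omega⟩
    have nab : a ≠ b := fun e => by have := congrArg Fin.val (σ.injective e); simp at this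
    have nac : a ≠ c := fun e => by have := congrArg Fin.val (σ.injective e); simp at this
    have nbc : b ≠ c := fun e => by have := congrArg Fin.val (σ.injective e); simp at this
    let T : Fin m → ZMod 2 := sg 2 a + sg 2 b + sg 2 c
    have hT : cub σ T = 1 := by
      show ∑ j : Fin (m - 2), _ = 1
      rw [Finset.sum_eq_single (⟨i, by omega⟩ : Fin (m - 2))]
      · simp [T, a, b, c, sg]
      · intro j _ hj
        have hj' : j.1 ≠ i := fun e => hj (Fin.ext e)
        by_contra hne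
        have hmem : ∀ k : Fin m, T (σ k) ≠ 0 → k.1 = i ∨ k.1 = i + 1 ∨ k.1 = i + 2 := by
          intro k hk
          by_contra h
          push_neg at h
          apply hk
          simp [T, a, b, c, sg, Fin.ext_iff, h.1, h.2.1, h.2.2]
        obtain ⟨p01, p2⟩ := mul_ne_zero_iff.1 hne
        obtain ⟨p0, p1⟩ := mul_ne_zero_iff.1 p01
        have := hmem _ p0
        have := hmem _ p1
        have := hmem _ p2
        simp only at *
        omega
      · simp
    have hgT : cub σ (g • T) = 1 := by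
      have h := hdE T (htrip a b c nab nac nbc)
      rw [hdone, show (1 : K) = sgn (0 : ZMod 2) by simp [sgn]] at h
      have h0 : (0 : ZMod 2) = cub σ (g • T) + cub σ T := sgn_inj hK h
      rw [hT, eq_comm, add_eq_zero_iff_eq_neg, CharTwo.neg_eq] at h0
      exact h0
    obtain ⟨j, j0, j1, j2⟩ := cub_eq_one (by rw [hgT]; exact one_ne_zero)
    refine ⟨j.1, by omega, (Finset.eq_of_subset_of_card_le ?_ ?_).symm⟩
    · intro l hl
      rw [mem_triple] at hl
      have hl' : (g • T) (σ l) ≠ 0 := by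
        rcases (by omega : l.1 = j.1 ∨ l.1 = j.1 + 1 ∨ l.1 = j.1 + 2) with e | e | e
        · rw [show l = ⟨j.1, by omega⟩ from Fin.ext e]; exact j0
        · rw [show l = ⟨j.1 + 1, by omega⟩ from Fin.ext e]; exact j1
        · rw [show l = ⟨j.1 + 2, by omega⟩ from Fin.ext e]; exact j2
      have hmem : σ l = s a ∨ σ l = s b ∨ σ l = s c := by
        by_contra h
        push_neg at h
        apply hl'
        simp only [T, smul_add, hs]; simp [sg, h.1, h.2.1, h.2.2]
      rw [Finset.mem_map_equiv, mem_triple]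
      rcases hmem with e | e | e
      all_goals
        rw [show (σ⁻¹ * sp * σ).symm l = σ.symm (sp.symm (σ l)) from rfl, e]
        first
        | (rw [show sp.symm (s a) = a from Equiv.symm_apply_apply sp a]; simp [a])
        | (rw [show sp.symm (s b) = b from Equiv.symm_apply_apply sp b]; simp [b])
        | (rw [show sp.symm (s c) = c from Equiv.symm_apply_apply sp c]; simp [c])
    · rw [Finset.card_map]
      have hcard : ∀ k, k + 2 < m → (triple m k).card = 3 := by
        intro k hk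
        rw [show triple m k = ({⟨k, by omega⟩, ⟨k + 1, by omega⟩, ⟨k + 2, by omega⟩} : Finset (Fin m)) by
          ext l; simp only [mem_triple, Finset.mem_insert, Finset.mem_singleton, Fin.ext_iff]; omega]
        rw [Finset.card_insert_of_notMem (by simp), Finset.card_insert_of_notMem (by simp), Finset.card_singleton]
      rw [hcard i hi, hcard j.1 (by omega)]
  rcases intervals_rigid hm (σ⁻¹ * sp * σ) hint with h | h
  · exact h
  · exact absurd ⟨⟨(g, sp), hs⟩, show sp = σ * Fin.revPerm * σ⁻¹ by rw [← h]; group⟩ hσ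

end Cfsg.Agent.BaseTwo
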