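import Cfsg.Agent.BaseTwo.Flag

/-!
Coefficient functions on an elementary abelian two-group which are stabilised, up to a quadratic
phase, by the identity only.
-/

set_option autoImplicit false
set_option maxHeartbeats 1000000

namespace Cfsg.Agent.BaseTwo

variable {K : Type*} [Field K] {m n : ℕ} {G : Type*} [Group G] [DistribMulAction G (Fin m → ZMod 2)]

theorem fact_two : Fact (Nat.Prime 2) := ⟨Nat.prime_two⟩

attribute [local instance] fact_two

theorem id_of_sg (g : G) (h : ∀ i : Fin m, g • (sg 2 i : Fin m → ZMod 2) = sg 2 i)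
    (a : Fin m → ZMod 2) : g • a = a := by
  have ha : a ∈ AddSubgroup.closure (Set.range (sg 2 (m := m))) := closure_sg (r := 2) ▸ AddSubgroup.mem_top a
  induction ha using AddSubgroup.closure_induction with
  | mem x hx => obtain ⟨i, rfl⟩ := hx; exact h i
  | zero => exact smul_zero g
  | add x y _ _ hx hy => rw [smul_add, hx, hy]
  | neg x _ hx => rw [smul_neg, hx]

theorem pow_class {g : G} {d c : (Fin m → ZMod 2) → K} (hd : IsPhase 2 n d)
    (hg : ∀ a, c (g • a) = d a * c a) (a : Fin m → ZMod 2) : c (g • a) ^ n = c a ^ n := by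
  rw [hg, mul_pow, hd.2.1, one_mul]

theorem nonzero_class (hn : n ≠ 0) {g : G} {d c : (Fin m → ZMod 2) → K} (hd : IsPhase 2 n d)
    (hg : ∀ a, c (g • a) = d a * c a) (a : Fin m → ZMod 2) : c (g • a) ≠ 0 ↔ c a ≠ 0 := by
  rw [hg, mul_ne_zero_iff]
  exact and_iff_right (hd.ne_zero hn a)

omit [DistribMulAction G (Fin m → ZMod 2)] in
theorem phase_three {d : (Fin m → ZMod 2) → K} (hd : IsPhase 2 n d) (a b c : Fin m → ZMod 2) :
    d (a + b + c) * d a * d b * d c = d (a + b) * d (a + c) * d (b + c) := by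
  obtain ⟨-, -, Φ, -, hl, -, hq⟩ := hd
  rw [hq (a + b) c, hq a b, hq a c, hq b c, hl]
  ring

theorem one_of_id {g : G} {d c : (Fin m → ZMod 2) → K} (hid : ∀ a : Fin m → ZMod 2, g • a = a)
    (hg : ∀ a, c (g • a) = d a * c a) {a : Fin m → ZMod 2} (ha : c a ≠ 0) : d a = 1 := by
  have h := hg a
  rw [hid] at h
  exact mul_right_cancel₀ ha (by rw [one_mul, ← h])

/-- With no zeros on singles and pairs the phase is trivial. -/
theorem phase_one_of_id {g : G} {d c : (Fin m → ZMod 2) → K} (hd : IsPhase 2 n d)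
    (hid : ∀ a : Fin m → ZMod 2, g • a = a) (hg : ∀ a, c (g • a) = d a * c a)
    (h1 : ∀ i : Fin m, c (sg 2 i) ≠ 0) (h2 : ∀ i j : Fin m, i < j → c (sg 2 i + sg 2 j) ≠ 0) :
    ∀ a, d a = 1 :=
  phase_eq_one hd (fun i => one_of_id hid hg (h1 i))
    (fun i => by rw [vec_add_self]; exact hd.1) fun i j h => one_of_id hid hg (h2 i j h)

/-- One outside three given values. -/
def col (a : Fin m → ZMod 2) (x : K) (b : Fin m → ZMod 2) (y : K) (e : Fin m → ZMod 2) (z : K)
    (v : Fin m → ZMod 2) : K :=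
  if v = 0 then 0 else if v = a then x else if v = b then y else if v = e then z else 1

omit [DistribMulAction G (Fin m → ZMod 2)] in
theorem col_ne {a b e : Fin m → ZMod 2} {x y z : K} {v : Fin m → ZMod 2} (hv : v ≠ 0) (hx : x ≠ 0)
    (hy : y ≠ 0) (hz : v = e → z ≠ 0) : col a x b y e z v ≠ 0 := by
  rw [col, if_neg hv]
  split_ifs with h1 h2 h3 <;> first | exact hx | exact hy | exact hz h3 | exact one_ne_zero

section One

variable [DistribMulAction G (Fin 1 → ZMod 2)]

theorem good_one : Good 2 n 1 G (col (K := K) 0 1 0 1 0 1) := by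
  have hne : ∀ v : Fin 1 → ZMod 2, v ≠ 0 → col (K := K) 0 1 0 1 0 1 v ≠ 0 := fun v hv =>
    col_ne hv one_ne_zero one_ne_zero fun _ => one_ne_zero
  refine ⟨if_pos rfl, closure_top fun i => hne _ (sg_ne_zero i), fun g d hd hg => ?_⟩
  have hall : ∀ a : Fin 1 → ZMod 2, a = 0 ∨ a = sg 2 (0 : Fin 1) := by decide
  have hfix : g • (sg 2 (0 : Fin 1) : Fin 1 → ZMod 2) = sg 2 (0 : Fin 1) := (hall _).resolve_left fun e =>
    sg_ne_zero (r := 2) (0 : Fin 1) (MulAction.injective g (by show g • _ = g • _; rw [e, smul_zero]))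
  have hid := id_of_sg g fun i => by rw [Subsingleton.elim i (0 : Fin 1)]; exact hfix
  exact ⟨hid, phase_one_of_id hd hid hg (fun i => hne _ (sg_ne_zero i))
    fun i j h => absurd (Subsingleton.elim i j) h.ne⟩

end One

section Two

variable [DistribMulAction G (Fin 2 → ZMod 2)]

theorem pair_ne_zero : ∀ i j : Fin 2, i < j → (sg 2 i + sg 2 j : Fin 2 → ZMod 2) ≠ 0 := by decide

theorem all_two : ∀ a : Fin 2 → ZMod 2, a = 0 ∨ a = sg 2 0 ∨ a = sg 2 1 ∨ a = sg 2 0 + sg 2 1 := by
  decide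

theorem good_two_three (x y : K) (hx : x ≠ 0) (hy : y ≠ 0) (hx1 : x ^ n ≠ 1)
    (hy1 : y ^ n ≠ 1) (hxy : x ^ n ≠ y ^ n) :
    Good 2 n 2 G (col (sg 2 0) x (sg 2 1) y 0 1) := by
  have e01 : (sg 2 1 : Fin 2 → ZMod 2) ≠ sg 2 0 := fun h => absurd (sg_inj h) (by decide)
  have hne : ∀ v : Fin 2 → ZMod 2, v ≠ 0 → col (sg 2 0) x (sg 2 1) y 0 1 v ≠ 0 := fun v hv =>
    col_ne hv hx hy fun _ => one_ne_zero
  refine ⟨if_pos rfl, closure_top fun i => hne _ (sg_ne_zero i), fun g d hd hg => ?_⟩
  have hfix : ∀ i : Fin 2, g • (sg 2 i : Fin 2 → ZMod 2) = sg 2 i := by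
    intro i
    have hp := pow_class hd hg (sg 2 i)
    have h0 : g • (sg 2 i : Fin 2 → ZMod 2) ≠ 0 := fun h => sg_ne_zero (r := 2) i
      (MulAction.injective g (by show g • _ = g • _; rw [h, smul_zero]))
    simp only [col, if_neg (sg_ne_zero i), if_neg h0] at hp
    fin_cases i
    · simp only [Fin.zero_eta] at hp h0 ⊢
      simp only [if_true] at hp
      by_contra hne
      rw [if_neg hne] at hp
      split_ifs at hp <;> first | exact hxy hp.symm | exact hx1 (by rw [← hp, one_pow])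
    · simp only [Fin.mk_one] at hp h0 ⊢
      simp only [if_neg e01, if_true] at hp
      split_ifs at hp with c1 c2
      · exact absurd hp hxy
      · exact c2
      · exact absurd hp.symm (by rwa [one_pow])
  have hid := id_of_sg g hfix
  exact ⟨hid, phase_one_of_id hd hid hg (fun i => hne _ (sg_ne_zero i))
    fun i j h => hne _ (pair_ne_zero i j h)⟩

theorem good_two_coprime [Finite G] (hn : n ≠ 0) (h3 : (Nat.card G).Coprime 3) (γ : K) (hγ : γ ≠ 0)
    (hγn : γ ^ n ≠ 1) : ∃ c : (Fin 2 → ZMod 2) → K, Good 2 n 2 G c := by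
  classical
  obtain ⟨a, ha, hmov⟩ : ∃ a : Fin 2 → ZMod 2, a ≠ 0 ∧
      ∀ h : G, h • a = a → ∀ b : Fin 2 → ZMod 2, h • b = b := by
    by_cases htriv : ∀ (h : G) (b : Fin 2 → ZMod 2), h • b = b
    · exact ⟨sg 2 0, sg_ne_zero 0, fun h _ => htriv h⟩
    push_neg at htriv
    obtain ⟨h₀, a, hh₀⟩ := htriv
    have ha : a ≠ 0 := fun e => hh₀ (by rw [e, smul_zero])
    refine ⟨a, ha, fun h hh b => ?_⟩
    -- the image has order at most two
    let R := img G 2
    let X := {x : Fin 2 → ZMod 2 // x ≠ 0}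
    let pr : R → Equiv.Perm X := fun r => r.1.subtypeEquiv fun x => by
      obtain ⟨t, ht⟩ := r.2
      rw [← ht]
      exact (smul_ne_zero_iff_ne t).symm
    let prh : R →* Equiv.Perm X := MonoidHom.mk' pr fun r s => Equiv.ext fun x => Subtype.ext rfl
    have hinj : Function.Injective prh := fun r s hrs => Subtype.ext (Equiv.ext fun x => by
      by_cases hx : x = 0
      · subst hx
        obtain ⟨t, ht⟩ := r.2
        obtain ⟨u, hu⟩ := s.2
        rw [← ht, ← hu]
        exact (smul_zero t).trans (smul_zero u).symm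
      · exact congrArg Subtype.val (Equiv.congr_fun hrs ⟨x, hx⟩))
    have h6 : Nat.card R ∣ 6 := by
      have h := Subgroup.card_dvd_of_injective prh hinj
      rwa [Nat.card_perm, show Nat.card X = 3 by
        rw [Nat.card_eq_fintype_card, Fintype.card_subtype_compl, Fintype.card_subtype_eq]
        simp, show Nat.factorial 3 = 6 from rfl] at h
    have hR3 : (Nat.card R).Coprime 3 := Nat.Coprime.coprime_dvd_left (Subgroup.card_range_dvd _) h3
    have h2 : Nat.card R ≤ 2 := Nat.le_of_dvd two_pos (Nat.Coprime.dvd_of_dvd_mul_right hR3 (show Nat.card R ∣ 2 * 3 from h6))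
    let σ : R := (MulAction.toPermHom G _).rangeRestrict h₀
    let τ : R := (MulAction.toPermHom G _).rangeRestrict h
    by_contra hb
    haveI := Fintype.ofFinite R
    have hne1 : σ ≠ 1 := fun e => hh₀ (congrArg (fun r : R => r.1 a) e)
    have hne2 : τ ≠ 1 := fun e => hb (congrArg (fun r : R => r.1 b) e)
    have hne3 : σ ≠ τ := fun e => hh₀ ((congrArg (fun r : R => r.1 a) e).trans hh)
    have : 2 < Fintype.card R := Fintype.two_lt_card_iff.2 ⟨σ, τ, 1, hne3, hne1, hne2⟩
    rw [Nat.card_eq_fintype_card] at h2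
    omega
  have hne : ∀ v : Fin 2 → ZMod 2, v ≠ 0 → col a γ a γ 0 1 v ≠ 0 := fun v hv =>
    col_ne hv hγ hγ fun _ => one_ne_zero
  refine ⟨col a γ a γ 0 1, if_pos rfl, closure_top fun i => hne _ (sg_ne_zero i), fun g d hd hg => ?_⟩
  have hfix : g • a = a := by
    have hp := pow_class hd hg a
    have h0 : g • a ≠ 0 := fun h => ha (MulAction.injective g (by show g • _ = g • _; rw [h, smul_zero]))
    simp only [col, if_neg ha, if_neg h0, if_pos] at hp
    by_contra hne
    simp only [if_neg hne, one_pow] at hp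
    exact hγn hp.symm
  have hid := hmov g hfix
  exact ⟨hid, phase_one_of_id hd hid hg (fun i => hne _ (sg_ne_zero i))
    fun i j h => hne _ (pair_ne_zero i j h)⟩

end Two

end Cfsg.Agent.BaseTwo
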