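import Cfsg.Agent.BaseTwo.SystemThree
import Cfsg.Agent.BaseTwo.PhaseTwo
import Cfsg.Agent.BaseTwo.PhaseCubic
import Mathlib.FieldTheory.Finite.Basic

/-!
Every irreducible symplectic system over a finite field has a local solution.
-/

set_option autoImplicit false
set_option maxHeartbeats 1000000

namespace Cfsg.Agent.BaseTwo

local instance : Fact (Nat.Prime 2) := ⟨Nat.prime_two⟩

variable {K : Type*} [Field K]

theorem good_zero {r n : ℕ} {G : Type*} [Group G] [DistribMulAction G (Fin 0 → ZMod r)] :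
    Good r n 0 G (0 : (Fin 0 → ZMod r) → K) :=
  ⟨rfl, Subsingleton.elim _ _, fun g d hd _ =>
    ⟨fun a => Subsingleton.elim _ _, fun a => Subsingleton.elim a 0 ▸ hd.1⟩⟩

/-- A generator of the units. -/
theorem exists_gen [Finite K] :
    ∃ g : K, g ≠ 0 ∧ ∀ k : ℕ, g ^ k = 1 → Nat.card K - 1 ∣ k := by
  obtain ⟨g, hg⟩ := IsCyclic.exists_generator (α := Kˣ)
  refine ⟨g.1, g.ne_zero, fun k hk => ?_⟩
  rw [← Nat.card_units, ← orderOf_eq_card_of_forall_mem_zpowers hg]
  exact orderOf_dvd_of_pow_eq_one (Units.ext (by simpa using hk))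

/-- Three classes of powers. -/
theorem exists_three [Finite K] {n : ℕ} (hn : n ≠ 0) (h : 2 * n < Nat.card K - 1) :
    ∃ x y : K, x ≠ 0 ∧ y ≠ 0 ∧ x ^ n ≠ 1 ∧ y ^ n ≠ 1 ∧ x ^ n ≠ y ^ n := by
  obtain ⟨g, hg0, hg⟩ := exists_gen (K := K)
  have hne : ∀ k, k ≠ 0 → k ≤ 2 * n → g ^ k ≠ 1 := fun k hk hkn e =>
    absurd (Nat.le_of_dvd (Nat.pos_of_ne_zero hk) (hg k e)) (by omega)
  refine ⟨g, g ^ 2, hg0, pow_ne_zero 2 hg0, hne n hn (by omega), ?_, ?_⟩
  · rw [← pow_mul]; exact hne _ (by omega) le_rfl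
  · intro e
    rw [← pow_mul, two_mul, pow_add, left_eq_mul₀ (pow_ne_zero n hg0)] at e
    exact hne n hn (by omega) e

theorem card_dvd_char {p : ℕ} [Fact p.Prime] [CharP K p] [Finite K] : ∃ k, 0 < k ∧ Nat.card K = p ^ k := by
  haveI := Fintype.ofFinite K
  obtain ⟨k, -, hk⟩ := FiniteField.card K p
  exact ⟨k, k.pos, by rw [Nat.card_eq_fintype_card]; exact hk⟩

/-- A prime dividing the order of the unit group is invertible. -/
theorem cast_ne_of_dvd [Finite K] {r : ℕ} (hr : r.Prime) (h : r ∣ Nat.card K - 1) : (r : K) ≠ 0 := by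
  intro e
  obtain ⟨p, hp, hc⟩ : ∃ p, p.Prime ∧ CharP K p := by
    obtain ⟨p, hc⟩ := CharP.exists K
    exact ⟨p, CharP.char_is_prime K p, hc⟩
  haveI := Fact.mk hp
  have hpr : p = r := (Nat.prime_dvd_prime_iff_eq hp hr).1 ((CharP.cast_eq_zero_iff K p r).1 e)
  obtain ⟨k, hk0, hk⟩ := card_dvd_char (K := K) (p := p)
  subst hpr
  have h1 : p ∣ Nat.card K := hk ▸ dvd_pow_self p hk0.ne'
  have h2 := Nat.dvd_sub h1 h
  rw [show Nat.card K - (Nat.card K - 1) = 1 by have := Nat.card_pos (α := K); omega] at h2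
  exact hr.one_lt.ne' (Nat.dvd_one.1 h2)

theorem coprime_char {p : ℕ} [Fact p.Prime] [CharP K p] {N : ℕ} (h : (N : K) ≠ 0) : N.Coprime p :=
  ((Fact.out : p.Prime).coprime_iff_not_dvd.2 fun hd => h ((CharP.cast_eq_zero_iff K p N).2 hd)).symm

theorem exists_odd_good {r : ℕ} [Fact r.Prime] (hr : r ≠ 2) [Finite K] {m : ℕ} {G : Type*} [Group G] [Finite G]
    [DistribMulAction G (Fin m → ZMod r)] (hG : (Nat.card G : K) ≠ 0) (hdvd : r ∣ Nat.card K - 1) :
    ∃ c : (Fin m → ZMod r) → K, Good r r m G c := by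
  obtain ⟨g, hg0, hg⟩ := exists_gen (K := K)
  by_cases hγ : g ^ r = 1
  · refine ⟨_, good_odd_one hr ?_⟩
    have h1 : Nat.card K - 1 = r := Nat.dvd_antisymm (hg r hγ) hdvd
    have hodd : Odd r := (Fact.out : r.Prime).odd_of_ne_two hr
    haveI := Fintype.ofFinite K
    have h2 : ringChar K = 2 := FiniteField.even_card_iff_char_two.2 (by
      have := Nat.card_pos (α := K)
      rw [← Nat.card_eq_fintype_card]
      obtain ⟨o, ho⟩ := hodd
      omega)
    haveI : CharP K 2 := ringChar.of_eq h2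
    exact Nat.coprime_two_right.1 (coprime_char (p := 2) hG)
  · exact ⟨_, good_odd_two hr g hg0 hγ⟩

/-- Colourings away from the exceptional fields. -/
theorem exists_two_good [Finite K] {n m : ℕ} (hn : n ∣ 4) (hn0 : n ≠ 0) (hK : (-1 : K) ≠ 1)
    (hq : m = 0 ∨ m = 1 ∨ 5 ≤ m ∨ 2 * n < Nat.card K - 1 ∨ Nat.card K = 9 ∧ n = 4)
    {G : Type*} [Group G] [Finite G] [Group.IsSolvable G] [DistribMulAction G (Fin m → ZMod 2)]
    (hG : (Nat.card G : K) ≠ 0) : ∃ c : (Fin m → ZMod 2) → K, Good 2 n m G c := by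
  by_cases hm5 : 5 ≤ m
  · exact good_cubic hm5 hn hK
  rcases Nat.lt_or_ge m 2 with hm | hm
  · interval_cases m
    · exact ⟨0, good_zero⟩
    · exact ⟨_, good_one⟩
  have hq' : 2 * n < Nat.card K - 1 ∨ Nat.card K = 9 ∧ n = 4 := by
    rcases hq with h | h | h | h
    · omega
    · omega
    · omega
    · exact h
  obtain ⟨g, hg0, hg⟩ := exists_gen (K := K)
  have hγ : g ^ n ≠ 1 := fun e => by
    have := Nat.le_of_dvd (Nat.pos_of_ne_zero hn0) (hg n e)
    rcases hq' with h | ⟨h, h'⟩ <;> omega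
  by_cases h3 : 2 * n < Nat.card K - 1
  · obtain ⟨x, y, hx, hy, hx1, hy1, hxy⟩ := exists_three (K := K) hn0 h3
    interval_cases m
    · exact ⟨_, good_two_three x y hx hy hx1 hy1 hxy⟩
    · exact ⟨_, good_three_three hn0 x y hx hy hx1 hy1 hxy⟩
    · exact good_four_two hn0 g hg0 hγ
  obtain ⟨h9, -⟩ := hq'.resolve_left h3
  haveI : Fact (Nat.Prime 3) := ⟨by norm_num⟩
  haveI : CharP K 3 := by
    haveI := Fintype.ofFinite K
    obtain ⟨p, hc⟩ := CharP.exists K
    haveI := Fact.mk (CharP.char_is_prime K p)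
    obtain ⟨k, hk0, hk⟩ := card_dvd_char (K := K) (p := p)
    rw [h9] at hk
    have hd : p ∣ 3 ^ 2 := by rw [show (3 : ℕ) ^ 2 = 9 from rfl, hk]; exact dvd_pow_self p hk0.ne'
    have := (Nat.prime_dvd_prime_iff_eq (Fact.out : p.Prime) (by norm_num)).1 ((Fact.out : p.Prime).dvd_of_dvd_pow hd)
    exact this ▸ hc
  have hcop := coprime_char (p := 3) hG
  interval_cases m
  · exact good_two_coprime hn0 hcop g hg0 hγ
  · exact good_three_coprime hn0 hcop g hg0 hγ
  · exact good_four_two hn0 g hg0 hγ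

variable {V A Ω : Type*} [AddCommGroup V] [Module K V] [Group A] [DistribMulAction A V]
  [AddCommGroup Ω] [DistribMulAction A Ω] [Nontrivial V] [Finite A] [Group.IsSolvable A] [Finite Ω] [Finite K]

omit [Group.IsSolvable A] in
theorem cast_subgroup_ne (hA : (Nat.card A : K) ≠ 0) (H : Subgroup A) : (Nat.card H : K) ≠ 0 := fun e =>
  hA (by obtain ⟨k, hk⟩ := Subgroup.card_subgroup_dvd_card H; rw [hk, Nat.cast_mul, e, zero_mul])

/-- A nontrivial value of the pairing. -/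
theorem PS.exists_omega {r n : ℕ} (S : PS r n K V A Ω) [Nontrivial Ω] : ∃ ω : K, ω ^ r = 1 ∧ ω ≠ 1 := by
  obtain ⟨v, hv⟩ := exists_ne (0 : Ω)
  by_contra h
  push_neg at h
  exact hv (S.nondeg v fun w => h _ (S.pair_pow v w))

theorem root_dvd {r : ℕ} (hr : r.Prime) {ω : K} (hω : ω ^ r = 1) (hω1 : ω ≠ 1) : r ∣ Nat.card K - 1 := by
  haveI := Fact.mk hr
  haveI := Fintype.ofFinite K
  rw [← orderOf_eq_prime hω hω1, Nat.card_eq_fintype_card]
  exact orderOf_dvd_of_pow_eq_one (FiniteField.pow_card_sub_one_eq_one ω fun e => by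
    rw [e, zero_pow hr.ne_zero] at hω; exact zero_ne_one hω)

/-- Systems of odd exponent. -/
theorem PS.solvable_odd {r : ℕ} [Fact r.Prime] (hr : r ≠ 2) (S : PS r r K V A Ω) [Nontrivial Ω]
    (hexp : ∀ v : Ω, r • v = 0) (hpow : ∀ v, S.op v ^ r = 1) (hA : (Nat.card A : K) ≠ 0) : S.Solvable := by
  obtain ⟨ω, hω, hω1⟩ := S.exists_omega
  have hd := root_dvd (Fact.out : r.Prime) hω hω1
  obtain ⟨m, ⟨F⟩⟩ : ∃ m, Nonempty (Frame S m PUnit.{1}) := S.exists_frame_split hω hω1 hexp hpow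
  refine F.solvable_split (cast_ne_of_dvd (Fact.out : r.Prime) hd) fun x hx hl hgen => ?_
  letI := F.stabAction hx hl hgen
  exact exists_odd_good hr (cast_subgroup_ne hA _) hd

/-- Systems with fourth roots. -/
theorem PS.solvable_four (S : PS 2 4 K V A Ω) [Nontrivial Ω] (hexp : ∀ v : Ω, 2 • v = 0)
    (hpow : ∀ v, S.op v ^ 2 = 1) (h4 : 4 ∣ Nat.card K - 1) (hA : (Nat.card A : K) ≠ 0) : S.Solvable := by
  obtain ⟨ω, hω, hω1⟩ := S.exists_omega
  have hd := root_dvd Nat.prime_two hω hω1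
  have hK : (-1 : K) ≠ 1 := by rw [← two_root hω hω1]; exact hω1
  obtain ⟨m, ⟨F⟩⟩ : ∃ m, Nonempty (Frame S m PUnit.{1}) := S.exists_frame_split hω hω1 hexp hpow
  by_cases hq : m = 0 ∨ m = 1 ∨ 5 ≤ m ∨ 2 * 4 < Nat.card K - 1 ∨ Nat.card K = 9 ∧ 4 = 4
  · refine F.solvable_split (cast_ne_of_dvd Nat.prime_two hd) fun x hx hl hgen => ?_
    letI := F.stabAction hx hl hgen
    exact exists_two_good dvd_rfl four_ne_zero hK hq (cast_subgroup_ne hA _)
  push_neg at hq
  obtain ⟨hm0, hm1, hm5, h8, h9⟩ := hq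
  have hc5 : Nat.card K = 5 := by
    obtain ⟨c, hc⟩ := h4
    have h2 : 1 < Nat.card K := Finite.one_lt_card
    have : Nat.card K ≠ 9 := fun e => absurd rfl (h9 e)
    omega
  obtain ⟨m', rfl⟩ : ∃ m', m = m' + 2 := ⟨m - 2, by omega⟩
  obtain ⟨F', hF'⟩ := F.exists_mid
  haveI : Fact (Nat.Prime 5) := ⟨by norm_num⟩
  haveI := Fintype.ofFinite K
  rw [Nat.card_eq_fintype_card] at hc5
  haveI : CharP K 5 := charP_of_card_eq_prime hc5
  let ψ := ZMod.castHom (dvd_refl 5) K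
  exact Frame.solvable_pauli (F := F') ψ hF' (by omega)
    ((Fintype.bijective_iff_injective_and_card ψ).2 ⟨ψ.injective, by rw [ZMod.card, hc5]⟩).2 hA

/-- Systems without fourth roots. -/
theorem PS.solvable_sign (S : PS 2 2 K V A Ω) [Nontrivial Ω] (hexp : ∀ v : Ω, 2 • v = 0)
    (hpow : ∀ v, S.op v ^ 2 = 1 ∨ S.op v ^ 2 = -1) (hsq : ∀ k : K, k * k ≠ -1)
    (h4 : 4 ∣ Nat.card K + 1) (hA : (Nat.card A : K) ≠ 0)
    (hirr : ∀ U : AddSubgroup Ω, (∀ g : A, ∀ u ∈ U, g • u ∈ U) → U = ⊥ ∨ U = ⊤) : S.Solvable := by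
  obtain ⟨ω, hω, hω1⟩ := S.exists_omega
  have hd := root_dvd Nat.prime_two hω hω1
  have hK : (-1 : K) ≠ 1 := by rw [← two_root hω hω1]; exact hω1
  have h2 : (2 : K) ≠ 0 := by exact_mod_cast cast_ne_of_dvd Nat.prime_two hd
  have hsmall : ∀ m : ℕ, ¬(m = 0 ∨ m = 1 ∨ 5 ≤ m ∨ 2 * 2 < Nat.card K - 1 ∨ Nat.card K = 9 ∧ 2 = 4) →
      2 ≤ m ∧ m ≤ 4 ∧ (Nat.card A).Coprime 3 := by
    intro m hq
    push_neg at hq
    obtain ⟨hm0, hm1, hm5, h4', -⟩ := hq
    obtain ⟨c, hc⟩ := h4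
    have h1 : 1 < Nat.card K := Finite.one_lt_card
    have hc3 : Nat.card K = 3 := by omega
    haveI : Fact (Nat.Prime 3) := ⟨by norm_num⟩
    haveI := Fintype.ofFinite K
    rw [Nat.card_eq_fintype_card] at hc3
    haveI : CharP K 3 := charP_of_card_eq_prime hc3
    exact ⟨by omega, by omega, coprime_char (p := 3) hA⟩
  have hfr : (∃ m, Nonempty (Frame S m PUnit.{1})) ∨
      ∃ (m : ℕ) (F : Frame S m (ZMod 2 × ZMod 2)), IsQuatRest F := S.exists_frame_sign hK hexp hpow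
  rcases hfr with ⟨m, ⟨F⟩⟩ | ⟨m, F, hAA, hBB, hAB⟩
  · refine F.solvable_split (by exact_mod_cast h2) fun x hx hl hgen => ?_
    letI := F.stabAction hx hl hgen
    by_cases hq : m = 0 ∨ m = 1 ∨ 5 ≤ m ∨ 2 * 2 < Nat.card K - 1 ∨ Nat.card K = 9 ∧ 2 = 4
    · exact exists_two_good (by norm_num) two_ne_zero hK hq (cast_subgroup_ne hA _)
    obtain ⟨hm2, hm4, h3⟩ := hsmall m hq
    haveI := img_solvable (A := A) (Ω := Ω)
    letI := imgAction (A := A) (Ω := Ω)
    let D := S.smallData hpow hK hexp hirr h3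
    have hcount := F.sing_count hpow hK (fun _ => 0) fun h => by
      rw [Frame.h_zero]; simp [PS.sqBit, S.op_zero]
    have hcard := F.card_eq
    rw [Nat.card_unique (α := PUnit.{1}), mul_one] at hcard
    interval_cases m
    · refine (Small3.impossible D 9 16 (Or.inl ⟨rfl, rfl⟩) hcard ?_).elim
      rw [show D.β = S.sqBit from rfl, hcount, Nat.card_eq_fintype_card, count_split_two]
    · obtain ⟨z, hz, hzfix⟩ := Frame.exists_point F h3 (fun R hR => Small3.two_cyclic D (Or.inl ⟨hcard, by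
        rw [show D.β = S.sqBit from rfl, hcount, Nat.card_eq_fintype_card, count_split_three]⟩) R hR) hx hl hgen
      exact ⟨_, good_three_point two_ne_zero hz hzfix⟩
    · refine good_four_three rfl hK (Nat.Coprime.coprime_dvd_left (Subgroup.card_subgroup_dvd_card _) h3) ?_
      exact F.no_seven_frame (Small3.no_seven D (Or.inl ⟨hcard, by
        rw [show D.β = S.sqBit from rfl, hcount, Nat.card_eq_fintype_card, count_split_four]⟩)) hx hl hgen
  · obtain ⟨p, hc⟩ := CharP.exists K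
    haveI := Fact.mk (CharP.char_is_prime K p)
    obtain ⟨a, b, hab⟩ := ZMod.sq_add_sq p (-1 : ZMod p)
    let ψ := ZMod.castHom (dvd_refl p) K
    have hfix : ∀ (g : A) (e : ZMod p), S.σ g (ψ e) = ψ e := fun g e =>
      RingHom.congr_fun (RingHom.ext_zmod ((S.σ g : K →+* K).comp ψ) ψ) e
    refine F.solvable_quaternion h2 hA hsq (ψ a) (ψ b)
      (by rw [← map_mul, ← map_mul, ← map_add, ← pow_two, ← pow_two, hab, map_neg, map_one])
      (fun g => hfix g a) (fun g => hfix g b) hAA hBB hAB fun x hx hl hgen => ?_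
    letI := F.stabAction hx hl hgen
    by_cases hq : m = 0 ∨ m = 1 ∨ 5 ≤ m ∨ 2 * 2 < Nat.card K - 1 ∨ Nat.card K = 9 ∧ 2 = 4
    · exact exists_two_good (by norm_num) two_ne_zero hK hq (cast_subgroup_ne hA _)
    obtain ⟨hm2, hm4, h3⟩ := hsmall m hq
    haveI := img_solvable (A := A) (Ω := Ω)
    letI := imgAction (A := A) (Ω := Ω)
    let D := S.smallData hpow hK hexp hirr h3
    have hbit : ∀ v, (∀ z, S.op v (S.op v z) = -z) → S.sqBit v = 1 := fun v hv => by
      refine if_neg fun e => ?_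
      obtain ⟨z, hz⟩ := exists_ne (0 : V)
      have := hv z
      rw [← Module.End.mul_apply, ← pow_two, e, Module.End.one_apply] at this
      exact hK (PS.smul_inj hz (show (-1 : K) • z = (1 : K) • z by rw [one_smul, neg_one_smul]; exact this.symm))
    have hcount := F.sing_count hpow hK quatBit fun h => by
      rcases Frame.zmod_pairs h with rfl | rfl | rfl | rfl
      · rw [map_zero]; simp [PS.sqBit, S.op_zero, quatBit]
      · rw [hbit _ hAA]; rfl
      · rw [hbit _ hBB]; rfl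
      · rw [map_add, S.sqBit_polar hpow hK, hbit _ hAA, hbit _ hBB]
        have hp : S.pairBit (F.H (1, 0)) (F.H (0, 1)) = 1 := by
          refine if_neg fun e => ?_
          obtain ⟨z, hz⟩ := exists_ne (0 : V)
          have h1 := hAB z
          rw [S.op_comm (F.H (0, 1)), S.pair_comm_one e, one_smul] at h1
          have h2' : (2 : K) • S.op (F.H (1, 0)) (S.op (F.H (0, 1)) z) = 0 := by
            rw [two_smul]; exact eq_neg_iff_add_eq_zero.1 h1
          exact (S.op_ne (S.op_ne hz)) ((smul_eq_zero.1 h2').resolve_left h2)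
        rw [hp]; rfl
    have hcard := F.card_eq
    rw [Nat.card_prod, Nat.card_zmod] at hcard
    interval_cases m
    · refine (Small3.impossible D 27 64 (Or.inr ⟨rfl, rfl⟩) hcard ?_).elim
      rw [show D.β = S.sqBit from rfl, hcount, Nat.card_eq_fintype_card, count_quat_two]
    · obtain ⟨z, hz, hzfix⟩ := Frame.exists_point F h3 (fun R hR => Small3.two_cyclic D (Or.inr ⟨hcard, by
        rw [show D.β = S.sqBit from rfl, hcount, Nat.card_eq_fintype_card, count_quat_three]⟩) R hR) hx hl hgen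
      exact ⟨_, good_three_point two_ne_zero hz hzfix⟩
    · refine good_four_three rfl hK (Nat.Coprime.coprime_dvd_left (Subgroup.card_subgroup_dvd_card _) h3) ?_
      exact F.no_seven_frame (Small3.no_seven D (Or.inr ⟨hcard, by
        rw [show D.β = S.sqBit from rfl, hcount, Nat.card_eq_fintype_card, count_quat_four]⟩)) hx hl hgen

end Cfsg.Agent.BaseTwo
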