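import Cfsg.Agent.BaseTwo.Phase
import Cfsg.Agent.BaseTwo.Colour

/-!
Coordinates adapted to a solvable group of linear maps on a small space over the field with two
elements.
-/

set_option autoImplicit false
set_option maxHeartbeats 1000000

namespace Cfsg.Agent.BaseTwo

variable {m : ℕ}

theorem vec_add_self (a : Fin m → ZMod 2) : a + a = 0 := funext fun i => CharTwo.add_self_eq_zero (a i)

/-- The binary vector of a number. -/
def bv (m : ℕ) (v : ℕ) : Fin m → ZMod 2 := fun i => if v.testBit i.1 then 1 else 0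

theorem bv_xor (v w : ℕ) : bv m (v ^^^ w) = bv m v + bv m w := by
  funext i
  simp only [bv, Nat.testBit_xor, Pi.add_apply]
  cases v.testBit i.1 <;> cases w.testBit i.1 <;> simp [CharTwo.add_self_eq_zero]

theorem bv_two_pow (i : Fin m) : bv m (2 ^ i.1) = sg 2 i := by
  funext j
  simp only [bv, Nat.testBit_two_pow, sg, Pi.single_apply]
  by_cases h : j = i
  · subst h; simp
  · have : i.1 ≠ j.1 := fun e => h (Fin.ext e.symm)
    simp [h, this]

theorem bv_zero : bv m 0 = 0 := funext fun i => by simp [bv]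

theorem bv_inj {v w : ℕ} (hv : v < 2 ^ m) (hw : w < 2 ^ m) (h : bv m v = bv m w) : v = w := by
  apply Nat.eq_of_testBit_eq
  intro i
  by_cases hi : i < m
  · have := congrFun h ⟨i, hi⟩
    simp only [bv] at this
    cases h1 : v.testBit i <;> cases h2 : w.testBit i <;> simp_all
  · rw [Nat.testBit_lt_two_pow (lt_of_lt_of_le hv (Nat.pow_le_pow_right two_pos (by omega))),
      Nat.testBit_lt_two_pow (lt_of_lt_of_le hw (Nat.pow_le_pow_right two_pos (by omega)))]

theorem bv_surj (a : Fin m → ZMod 2) : ∃ v < 2 ^ m, bv m v = a := by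
  have hinj : Function.Injective (fun v : Fin (2 ^ m) => bv m v.1) := fun v w h =>
    Fin.ext (bv_inj v.2 w.2 h)
  have hbij := (Fintype.bijective_iff_injective_and_card _).2 ⟨hinj, by simp [ZMod.card]⟩
  obtain ⟨v, hv⟩ := hbij.2 a
  exact ⟨v.1, v.2, hv⟩

theorem hom_zmod_smul {Λ : Type*} [AddCommGroup Λ] (hΛ : ∀ a : Λ, a + a = 0) (c d : ZMod 2) (v : Λ) :
    (c + d).val • v = c.val • v + d.val • v := by
  have h : ∀ c d : ZMod 2, ((c + d).val = c.val + d.val) ∨ (c.val = 1 ∧ d.val = 1 ∧ (c + d).val = 0) := by decide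
  rcases h c d with h | ⟨h1, h2, h3⟩
  · rw [h, add_nsmul]
  · rw [h1, h2, h3, one_nsmul, zero_nsmul, hΛ]

variable {G : Type*} [Group G] [Finite G] [DistribMulAction G (Fin m → ZMod 2)]

/-- The image of the group in the permutations of the space. -/
abbrev img (G : Type*) [Group G] (m : ℕ) [DistribMulAction G (Fin m → ZMod 2)] :
    Subgroup (Equiv.Perm (Fin m → ZMod 2)) :=
  (MulAction.toPermHom G (Fin m → ZMod 2)).range

theorem img_smul_add (h : img G m) (x y : Fin m → ZMod 2) :
    h.1 (x + y) = h.1 x + h.1 y := by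
  obtain ⟨g, hg⟩ := h.2
  rw [← hg]
  exact smul_add g x y

/-- The fixed subgroup of an element of the image. -/
def fixG (h : img G m) : AddSubgroup (Fin m → ZMod 2) where
  carrier := {a | h.1 a = a}
  add_mem' := fun {a b} ha hb => by
    show h.1 (a + b) = a + b
    rw [img_smul_add, ha, hb]
  zero_mem' := by
    show h.1 0 = 0
    obtain ⟨g, hg⟩ := h.2
    rw [← hg]
    exact smul_zero g
  neg_mem' := fun {a} ha => by
    show h.1 (-a) = -a
    rw [neg_eq_of_add_eq_zero_left (vec_add_self a)]
    exact ha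

/-- Fixed vectors of an element of prime order. -/
theorem fix_card {q : ℕ} [Fact q.Prime] (h : img G m) (hh : orderOf h = q) :
    Nat.card (fixG h) ∣ 2 ^ m ∧ Nat.card (fixG h) < 2 ^ m ∧
      Nat.card (fixG h) % q = 2 ^ m % q := by
  have hc : Nat.card (Fin m → ZMod 2) = 2 ^ m := by simp [Nat.card_fun]
  have hd := (fixG h).card_addSubgroup_dvd_card
  rw [hc] at hd
  refine ⟨hd, lt_of_le_of_ne (Nat.le_of_dvd (by positivity) hd) fun e => ?_, ?_⟩
  · have htop : fixG h = ⊤ := AddSubgroup.eq_top_of_card_eq _ (by rw [hc, e])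
    have h1 : h = 1 := Subtype.ext (Equiv.ext fun a => (htop ▸ AddSubgroup.mem_top a : a ∈ fixG h))
    rw [h1, orderOf_one] at hh
    exact (Fact.out : q.Prime).one_lt.ne hh
  · let P := Subgroup.zpowers h
    have hP : IsPGroup q P := IsPGroup.of_card (n := 1) (by rw [Nat.card_zpowers, hh, pow_one])
    have hmod := hP.card_modEq_card_fixedPoints (Fin m → ZMod 2)
    rw [hc] at hmod
    have hfix : Nat.card (MulAction.fixedPoints P (Fin m → ZMod 2)) = Nat.card (fixG h) := by
      refine Nat.card_congr (Equiv.setCongr ?_)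
      ext a
      constructor
      · intro ha; exact ha ⟨h, Subgroup.mem_zpowers h⟩
      · intro ha x
        obtain ⟨i, hi⟩ := x.2
        have hst : h ∈ MulAction.stabilizer (img G m) a := ha
        have := Subgroup.zpow_mem _ hst i
        show x.1 • a = a
        rw [← hi]
        exact this
    rw [hfix] at hmod
    exact hmod.symm

/-- The prime divisors of the order of the image. -/
theorem img_primes (hm : m = 3 ∨ m = 4) {q : ℕ} (hq : q.Prime) (hd : q ∣ Nat.card (img G m)) :
    q = 2 ∨ q = 3 ∨ q = 7 ∨ (q = 5 ∧ m = 4) := by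
  haveI := Fact.mk hq
  obtain ⟨h, hh⟩ := exists_prime_orderOf_dvd_card' q hd
  obtain ⟨h1, h2, h3⟩ := fix_card h hh
  generalize Nat.card (fixG h) = f at h1 h2 h3
  have hf0 : f ≠ 0 := fun e => by rw [e, zero_dvd_iff] at h1; exact (pow_ne_zero _ two_ne_zero) h1
  rcases hm with rfl | rfl
  · have hq8 : q ≤ 8 := by
      by_contra hlt
      rw [Nat.mod_eq_of_lt (by omega), Nat.mod_eq_of_lt (by omega)] at h3
      omega
    norm_num at h1 h2 h3
    interval_cases f <;> interval_cases q <;> first | omega | (norm_num at hq; done) | (norm_num at h1; done)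
  · have hq16 : q ≤ 16 := by
      by_contra hlt
      rw [Nat.mod_eq_of_lt (by omega), Nat.mod_eq_of_lt (by omega)] at h3
      omega
    norm_num at h1 h2 h3
    interval_cases f <;> interval_cases q <;> first | omega | (norm_num at hq; done) | (norm_num at h1; done)

omit [Finite G] in
/-- A two-group fixes a nonzero vector modulo an invariant subgroup. -/
theorem exists_next (hR : IsPGroup 2 (img G m)) (W : AddSubgroup (Fin m → ZMod 2))
    (hW : ∀ g : G, ∀ w ∈ W, g • w ∈ W) (hne : W ≠ ⊤) :
    ∃ v, v ∉ W ∧ ∀ g : G, g • v + v ∈ W := by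
  classical
  let Q := (Fin m → ZMod 2) ⧸ W
  let qact : img G m → Q → Q := fun h => Quotient.map' h.1 fun a b hab => by
    rw [QuotientAddGroup.leftRel_apply] at hab ⊢
    obtain ⟨g, hg⟩ := h.2
    rw [← hg]
    have := hW g _ hab
    rw [smul_add, smul_neg] at this
    exact this
  letI : MulAction (img G m) Q :=
    { smul := qact
      one_smul := fun q => Quotient.inductionOn' q fun a => rfl
      mul_smul := fun h k q => Quotient.inductionOn' q fun a => rfl }
  have hcard : 2 ∣ Nat.card Q := by
    have h1 : Nat.card Q ∣ 2 ^ m := by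
      have := W.card_quotient_dvd_card
      rwa [show Nat.card (Fin m → ZMod 2) = 2 ^ m by simp [Nat.card_fun]] at this
    obtain ⟨k, -, hk⟩ := (Nat.dvd_prime_pow Nat.prime_two).1 h1
    rcases Nat.eq_zero_or_pos k with rfl | hk0
    · exact absurd (AddSubgroup.index_eq_one.1 (show W.index = 1 by rw [AddSubgroup.index, hk, pow_zero])) hne
    · rw [hk]; exact dvd_pow_self 2 hk0.ne'
  have h0 : ((0 : Fin m → ZMod 2) : Q) ∈ MulAction.fixedPoints (img G m) Q := fun h => by
    show ((h.1 0 : Fin m → ZMod 2) : Q) = _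
    obtain ⟨g, hg⟩ := h.2
    rw [← hg]
    show ((g • (0 : Fin m → ZMod 2) : Fin m → ZMod 2) : Q) = _
    rw [smul_zero]
  haveI : Fact (Nat.Prime 2) := ⟨Nat.prime_two⟩
  obtain ⟨w, hw, hw0⟩ := hR.exists_fixed_point_of_prime_dvd_card_of_fixed_point Q hcard h0
  obtain ⟨v, rfl⟩ := QuotientAddGroup.mk_surjective w
  refine ⟨v, fun hv => hw0 (by rw [(QuotientAddGroup.eq_zero_iff v).2 hv]; rfl), fun g => ?_⟩
  have := hw ⟨MulAction.toPermHom G _ g, g, rfl⟩
  rw [show ((⟨MulAction.toPermHom G _ g, g, rfl⟩ : img G m) • ((v : Fin m → ZMod 2) : Q)) =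
    ((g • v : Fin m → ZMod 2) : Q) from rfl, eq_comm, QuotientAddGroup.eq] at this
  rwa [neg_eq_of_add_eq_zero_left (vec_add_self v), add_comm] at this

omit [Finite G] in
/-- A flag basis for a two-group. -/
theorem exists_flag (hR : IsPGroup 2 (img G m)) :
    ∃ e : (Fin m → ZMod 2) ≃+ (Fin m → ZMod 2), ∀ (g : G) (j : Fin m),
      ∃ t < 2 ^ j.1, e.symm (g • e (sg 2 j)) = bv m (2 ^ j.1 ^^^ t) := by
  classical
  -- the partial flags
  suffices hseq : ∀ k ≤ m, ∃ v : Fin k → (Fin m → ZMod 2),
      ∀ j : Fin k, v j ∉ AddSubgroup.closure (v '' {i | i < j}) ∧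
        ∀ g : G, g • v j + v j ∈ AddSubgroup.closure (v '' {i | i < j}) by
    obtain ⟨v, hv⟩ := hseq m le_rfl
    let f : (Fin m → ZMod 2) →+ (Fin m → ZMod 2) := AddMonoidHom.mk' (fun a => ∑ i, (a i).val • v i)
      fun a b => by
        rw [← Finset.sum_add_distrib]
        exact Finset.sum_congr rfl fun i _ => hom_zmod_smul vec_add_self _ _ _
    have hf : Function.Injective f := by
      rw [injective_iff_map_eq_zero]
      intro a ha
      by_contra hne
      obtain ⟨i₀, hi₀⟩ : ∃ i, a i ≠ 0 := Function.ne_iff.1 hne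
      obtain ⟨j, hj, hmax⟩ := (Finset.univ.filter fun i => a i ≠ 0).exists_max_image id ⟨i₀, by simpa using hi₀⟩
      simp only [Finset.mem_filter, Finset.mem_univ, true_and, id] at hj hmax
      have hj1 : (a j).val • v j = v j := by
        have : ∀ c : ZMod 2, c ≠ 0 → c.val = 1 := by decide
        rw [this _ hj, one_nsmul]
      apply (hv j).1
      have hsum : v j = ∑ i ∈ Finset.univ.erase j, (a i).val • v i := by
        have h1 : f a = 0 := ha
        rw [show f a = ∑ i, (a i).val • v i from rfl, ← Finset.add_sum_erase _ _ (Finset.mem_univ j), hj1,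
          add_eq_zero_iff_eq_neg, neg_eq_of_add_eq_zero_left (vec_add_self _)] at h1
        exact h1
      rw [hsum]
      refine AddSubgroup.sum_mem _ fun i hi => ?_
      by_cases hai : a i = 0
      · simp [hai]
      · exact AddSubgroup.nsmul_mem _ (AddSubgroup.subset_closure
          (Set.mem_image_of_mem v (show i ∈ {l : Fin m | l < j} from lt_of_le_of_ne (hmax i hai) (Finset.ne_of_mem_erase hi)))) _
    let e := AddEquiv.ofBijective f (Finite.injective_iff_bijective.1 hf)
    have hev : ∀ i, e (sg 2 i) = v i := fun i => by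
      show ∑ j, ((sg 2 i : Fin m → ZMod 2) j).val • v j = v i
      rw [Finset.sum_eq_single i]
      · simp [sg, ZMod.val_one]
      · intro j _ hj; simp [sg, hj]
      · simp
    refine ⟨e, fun g j => ?_⟩
    have hmem := (hv j).2 g
    have key : ∀ x ∈ AddSubgroup.closure (v '' {i | i < j}), ∃ t < 2 ^ j.1, x = e (bv m t) := by
      intro x hx
      induction hx using AddSubgroup.closure_induction with
      | mem x hx =>
        obtain ⟨i, hi, rfl⟩ := hx
        exact ⟨2 ^ i.1, Nat.pow_lt_pow_right one_lt_two hi, by rw [bv_two_pow, hev]⟩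
      | zero => exact ⟨0, by positivity, by rw [bv_zero, map_zero]⟩
      | add x y _ _ hx hy =>
        obtain ⟨s, hs, rfl⟩ := hx
        obtain ⟨t, ht, rfl⟩ := hy
        exact ⟨s ^^^ t, Nat.xor_lt_two_pow hs ht, by rw [bv_xor, map_add]⟩
      | neg x _ hx => rwa [neg_eq_of_add_eq_zero_left (vec_add_self x)]
    obtain ⟨t, ht, hte⟩ := key _ hmem
    refine ⟨t, ht, e.injective ?_⟩
    rw [AddEquiv.apply_symm_apply, bv_xor, bv_two_pow, map_add, hev, ← hte, add_left_comm, vec_add_self,
      add_zero]
  intro k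
  induction k with
  | zero => exact fun _ => ⟨Fin.elim0, fun j => j.elim0⟩
  | succ k ih =>
    intro hk
    obtain ⟨v, hv⟩ := ih (by omega)
    let W := AddSubgroup.closure (Set.range v)
    have hWinv : ∀ g : G, ∀ w ∈ W, g • w ∈ W := by
      intro g w hw
      induction hw using AddSubgroup.closure_induction with
      | mem x hx =>
        obtain ⟨i, rfl⟩ := hx
        have h1 : g • v i + v i ∈ W := AddSubgroup.closure_mono (Set.image_subset_range _ _) ((hv i).2 g)
        have := add_mem h1 (AddSubgroup.subset_closure (Set.mem_range_self i) : v i ∈ W)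
        rwa [add_assoc, vec_add_self, add_zero] at this
      | zero => rw [smul_zero]; exact zero_mem _
      | add x y _ _ hx hy => rw [smul_add]; exact add_mem hx hy
      | neg x _ hx => rw [smul_neg]; exact neg_mem hx
    have hne : W ≠ ⊤ := by
      intro htop
      -- `k` vectors do not generate
      let f : (Fin k → ZMod 2) →+ (Fin m → ZMod 2) := AddMonoidHom.mk' (fun a => ∑ i, (a i).val • v i)
        fun a b => by
          rw [← Finset.sum_add_distrib]
          exact Finset.sum_congr rfl fun i _ => hom_zmod_smul vec_add_self _ _ _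
      have hsurj : Function.Surjective f := by
        rw [← AddMonoidHom.range_eq_top, eq_top_iff, ← htop, AddSubgroup.closure_le]
        rintro _ ⟨i, rfl⟩
        refine ⟨Pi.single i 1, ?_⟩
        show ∑ j, ((Pi.single i 1 : Fin k → ZMod 2) j).val • v j = v i
        rw [Finset.sum_eq_single i]
        · simp [ZMod.val_one]
        · intro j _ hj; simp [hj]
        · simp
      have := Nat.card_le_card_of_surjective f hsurj
      simp [Nat.card_fun] at this
      exact absurd this (not_le.2 (Nat.pow_lt_pow_right one_lt_two (by omega)))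
    obtain ⟨u, hu, hug⟩ := exists_next hR W hWinv hne
    refine ⟨Fin.snoc v u, fun j => ?_⟩
    refine Fin.lastCases ?_ (fun j => ?_) j
    · have : (Fin.snoc v u : Fin (k + 1) → _) '' {i | i < Fin.last k} = Set.range v := by
        ext x
        constructor
        · rintro ⟨i, hi, rfl⟩
          obtain ⟨i, rfl⟩ := Fin.exists_castSucc_eq.2 (show i ≠ Fin.last k from ne_of_lt hi)
          exact ⟨i, by simp⟩
        · rintro ⟨i, rfl⟩
          exact ⟨i.castSucc, Fin.castSucc_lt_last i, Fin.snoc_castSucc _ _ _⟩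
      rw [this, Fin.snoc_last]
      exact ⟨hu, hug⟩
    · have : (Fin.snoc v u : Fin (k + 1) → _) '' {i | i < j.castSucc} = v '' {i | i < j} := by
        ext x
        constructor
        · rintro ⟨i, hi, rfl⟩
          obtain ⟨i, rfl⟩ := Fin.exists_castSucc_eq.2
            (show i ≠ Fin.last k from ne_of_lt (lt_trans hi (Fin.castSucc_lt_last j)))
          exact ⟨i, Fin.castSucc_lt_castSucc_iff.1 hi, by simp⟩
        · rintro ⟨i, hi, rfl⟩
          exact ⟨i.castSucc, Fin.castSucc_lt_castSucc_iff.2 hi, Fin.snoc_castSucc _ _ _⟩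
      rw [this, Fin.snoc_castSucc]
      exact hv j

/-- The dichotomy for a solvable group on sixteen vectors without elements of orders three and seven. -/
theorem four_cases [DistribMulAction G (Fin 4 → ZMod 2)] [Group.IsSolvable G]
    (h3 : (Nat.card G).Coprime 3) (h7 : ¬ 7 ∣ Nat.card (img G 4)) :
    IsPGroup 2 (img G 4) ∨ ∃ e : (Fin 4 → ZMod 2) ≃+ (Fin 4 → ZMod 2), ∀ g : G,
      ∃ k, 1 ≤ k ∧ k ≤ 4 ∧ ∀ a : Fin 4 → ZMod 2,
        e.symm (g • e (fun i => ![a 3, a 0 + a 3, a 1 + a 3, a 2 + a 3] i)) =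
          (fun b i => ![b 3, b 0 + b 3, b 1 + b 3, b 2 + b 3] i)^[k] (e.symm (g • e a)) := by
  classical
  let R := img G 4
  haveI : Group.IsSolvable R :=
    Group.isSolvable_of_surjective (MulAction.toPermHom G (Fin 4 → ZMod 2)).rangeRestrict_surjective
  have h3R : (Nat.card R).Coprime 3 := Nat.Coprime.coprime_dvd_left (Subgroup.card_range_dvd _) h3
  have hpr : ∀ q : ℕ, q.Prime → q ∣ Nat.card R → q = 2 ∨ q = 5 := by
    intro q hq hd
    rcases img_primes (Or.inr rfl) hq hd with h | h | h | h
    · exact Or.inl h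
    · subst h; exact absurd (h3R ▸ Nat.dvd_gcd hd dvd_rfl : 3 ∣ 1) (by norm_num)
    · subst h; exact absurd hd h7
    · exact Or.inr h.1
  haveI h2f : Fact (Nat.Prime 2) := ⟨Nat.prime_two⟩
  haveI h5f : Fact (Nat.Prime 5) := ⟨by norm_num⟩
  by_cases h5 : 5 ∣ Nat.card R
  swap
  · left
    refine IsPGroup.of_card (n := (Nat.card R).primeFactorsList.length) ?_
    exact Nat.eq_prime_pow_of_unique_prime_dvd Nat.card_pos.ne' fun {d} hd hdd => by
      rcases hpr d hd hdd with h | rfl
      · exact h
      · exact absurd hdd h5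
  right
  have hfix5 : ∀ h : R, orderOf h = 5 → ∀ a : Fin 4 → ZMod 2, h.1 a = a → a = 0 := by
    intro h hh a ha
    obtain ⟨h1, h2, h3⟩ := fix_card h hh
    have hone : Nat.card (fixG h) = 1 := by
      generalize Nat.card (fixG h) = f at h1 h2 h3
      norm_num at h1 h2 h3
      interval_cases f <;> first | omega | (norm_num at h1; done)
    have := AddSubgroup.card_eq_one.1 hone
    exact (AddSubgroup.mem_bot.1 (this ▸ (show a ∈ fixG h from ha)))
  obtain ⟨z₀, hz₀⟩ := exists_prime_orderOf_dvd_card' (G := R) 5 h5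
  haveI : Nontrivial R := ⟨z₀, 1, fun e => by rw [e, orderOf_one] at hz₀; norm_num at hz₀⟩
  obtain ⟨N, hN⟩ := Core.exists_isMinNormal (G := R)
  haveI := hN.normal
  haveI : IsMulCommutative N := hN.isMulCommutative
  obtain ⟨q, hq, hqN⟩ := hN.exists_prime_pow_eq_one
  haveI := Fact.mk hq
  obtain ⟨x, hx⟩ : ∃ x : R, x ∈ N ∧ x ≠ 1 := N.bot_or_exists_ne_one.resolve_left hN.ne_bot
  have hxo : orderOf x = q := orderOf_eq_prime (hqN x hx.1) hx.2
  have hq2 : q = 5 := by
    rcases hpr q hq (hxo ▸ orderOf_dvd_natCard x) with rfl | h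
    · exfalso
      -- a normal two-subgroup fixes a subgroup invariant under `z₀`
      have hNp : IsPGroup 2 N := Core.isPGroup_of_forall_pow_eq_one hqN
      have hcard : 2 ∣ Nat.card (Fin 4 → ZMod 2) := by simp [Nat.card_fun]
      obtain ⟨a, ha, hne⟩ := hNp.exists_fixed_point_of_prime_dvd_card_of_fixed_point _ hcard
        (a := (0 : Fin 4 → ZMod 2)) (fun h => (fixG h.1).zero_mem)
      let F : AddSubgroup (Fin 4 → ZMod 2) := ⨅ h : N, fixG h.1
      have hFinv : ∀ b ∈ F, z₀.1 b ∈ F := by
        intro b hb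
        rw [AddSubgroup.mem_iInf] at hb ⊢
        intro h
        have h' := hb ⟨z₀⁻¹ * h.1 * z₀, by simpa using hN.normal.conj_mem _ h.2 z₀⁻¹⟩
        show h.1.1 (z₀.1 b) = z₀.1 b
        have e : z₀.1⁻¹ (h.1.1 (z₀.1 b)) = b := h'
        calc h.1.1 (z₀.1 b) = z₀.1 (z₀.1⁻¹ (h.1.1 (z₀.1 b))) := by simp
          _ = z₀.1 b := by rw [e]
      let P := Subgroup.zpowers z₀
      have hP : IsPGroup 5 P := IsPGroup.of_card (n := 1) (by rw [Nat.card_zpowers, hz₀, pow_one])
      have hFinv' : ∀ (p : P) (b : Fin 4 → ZMod 2), b ∈ F → p • b ∈ F := by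
        intro p b hb
        obtain ⟨i, hi⟩ := mem_powers_iff_mem_zpowers.2 p.2
        show p.1 • b ∈ F
        rw [← hi]
        clear hi
        induction i with
        | zero => simpa using hb
        | succ i ih => show _ ^ (i + 1) • b ∈ _; rw [pow_succ', mul_smul]; exact hFinv _ ih
      let S : SubMulAction P (Fin 4 → ZMod 2) := { carrier := F, smul_mem' := fun p b hb => hFinv' p b hb }
      have hmod := hP.card_modEq_card_fixedPoints S
      have hS : Nat.card S = Nat.card F := rfl
      haveI : Unique (MulAction.fixedPoints P S) :=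
        { default := ⟨⟨0, F.zero_mem⟩, fun p => Subtype.ext (fixG p.1).zero_mem⟩
          uniq := fun b => Subtype.ext (Subtype.ext (hfix5 z₀ hz₀ _ (congrArg Subtype.val (b.2 ⟨z₀, Subgroup.mem_zpowers z₀⟩)))) }
      rw [hS, Nat.card_unique (α := MulAction.fixedPoints P S)] at hmod
      have hd := F.card_addSubgroup_dvd_card
      rw [show Nat.card (Fin 4 → ZMod 2) = 16 by simp [Nat.card_fun]] at hd
      have hgt : 1 < Nat.card F := by
        rw [← not_le]
        intro hle
        have : F = ⊥ := AddSubgroup.eq_bot_of_card_le F hle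
        have haF : a ∈ F := AddSubgroup.mem_iInf.2 fun h => ha h
        rw [this, AddSubgroup.mem_bot] at haF
        exact hne haF.symm
      have hlt : Nat.card F < 16 := by
        refine lt_of_le_of_ne (Nat.le_of_dvd (by norm_num) hd) fun e => ?_
        have htop : F = ⊤ := AddSubgroup.eq_top_of_card_eq _ (by rw [e]; simp [Nat.card_fun])
        exact hx.2 (Subtype.ext (Equiv.ext fun b =>
          (AddSubgroup.mem_iInf.1 (htop ▸ AddSubgroup.mem_top b : b ∈ F) ⟨x, hx.1⟩ : x.1 b = b)))
      generalize Nat.card F = f at hmod hd hgt hlt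
      unfold Nat.ModEq at hmod
      interval_cases f <;> first | omega | (norm_num at hd; done)
    · exact h
  subst hq2
  -- the group is semiregular, hence of order five
  let X := {a : Fin 4 → ZMod 2 // a ≠ 0}
  obtain ⟨v, hv⟩ : ∃ v : Fin 4 → ZMod 2, v ≠ 0 := ⟨sg 2 0, sg_ne_zero 0⟩
  have hNinj : Function.Injective (fun h : N => (h.1.1 v : Fin 4 → ZMod 2)) := by
    intro h k hhk
    by_contra hne
    have hne' : k⁻¹ * h ≠ 1 := fun e => hne (inv_mul_eq_one.1 e).symm
    have ho : orderOf (k⁻¹ * h : N).1 = 5 :=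
      orderOf_eq_prime (hqN _ (k⁻¹ * h).2) fun e => hne' (Subtype.ext e)
    exact hv (hfix5 _ ho v (by
      show (k.1.1)⁻¹ (h.1.1 v) = v
      rw [show h.1.1 v = k.1.1 v from hhk]; simp))
  have hNcard : Nat.card N = 5 := by
    obtain ⟨i, hi⟩ := IsPGroup.iff_card.1 (Core.isPGroup_of_forall_pow_eq_one hqN)
    have hle := Nat.card_le_card_of_injective _ hNinj
    rw [show Nat.card (Fin 4 → ZMod 2) = 16 by simp [Nat.card_fun], hi] at hle
    have hpos : i ≠ 0 := fun e => hN.ne_bot (Subgroup.card_eq_one.1 (by rw [hi, e, pow_zero]))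
    have : i = 1 := by
      by_contra h
      have : 5 ^ 2 ≤ 5 ^ i := Nat.pow_le_pow_right (by norm_num) (by omega)
      omega
    rw [hi, this, pow_one]
  have hzp : Subgroup.zpowers x = N := Subgroup.eq_of_le_of_card_ge (Subgroup.zpowers_le.2 hx.1)
    (by rw [Nat.card_zpowers, hxo, hNcard])
  -- coordinates along the orbit of `v`
  let z := x.1
  let f : (Fin 4 → ZMod 2) →+ (Fin 4 → ZMod 2) :=
    AddMonoidHom.mk' (fun a => (a 0).val • v + (a 1).val • z v + (a 2).val • z (z v) + (a 3).val • z (z (z v)))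
      fun a b => by
        simp only [Pi.add_apply, hom_zmod_smul vec_add_self]
        abel
  have hzadd : ∀ a b, z (a + b) = z a + z b := fun a b => img_smul_add x a b
  have hz5 : ∀ a, z (z (z (z (z a)))) = a := by
    intro a
    have h := congrArg (fun h : R => h.1 a) (hqN x hx.1)
    simpa [pow_succ, mul_assoc] using h
  have hS : v + z v + z (z v) + z (z (z v)) + z (z (z (z v))) = 0 := hfix5 x hxo _ (by
    show z _ = _
    simp only [hzadd, hz5]
    abel)
  have hz4 : z (z (z (z v))) = v + z v + z (z v) + z (z (z v)) := by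
    have := eq_neg_of_add_eq_zero_right hS
    rwa [neg_eq_of_add_eq_zero_left (vec_add_self _)] at this
  let C : (Fin 4 → ZMod 2) → (Fin 4 → ZMod 2) := fun b i => ![b 3, b 0 + b 3, b 1 + b 3, b 2 + b 3] i
  have hzf : ∀ a, z (f a) = f (C a) := by
    intro a
    have hsm : ∀ (c : ZMod 2) (w : Fin 4 → ZMod 2), z (c.val • w) = c.val • z w := fun c w =>
      map_nsmul (AddMonoidHom.mk' (fun t => z t) hzadd) _ _
    show z (_ + _ + _ + _) = _ + _ + _ + _
    simp only [hzadd, hsm, hz4, nsmul_add]
    show _ = (a 3).val • v + (a 0 + a 3).val • z v + (a 1 + a 3).val • z (z v) + (a 2 + a 3).val • z (z (z v))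
    simp only [hom_zmod_smul vec_add_self]
    abel
  have hfs : Function.Surjective f := by
    rw [← AddMonoidHom.range_eq_top]
    by_contra hne
    let P := Subgroup.zpowers x
    have hP : IsPGroup 5 P := IsPGroup.of_card (n := 1) (by rw [Nat.card_zpowers, hxo, pow_one])
    have hinv : ∀ b ∈ f.range, z b ∈ f.range := by
      rintro _ ⟨a, rfl⟩
      exact ⟨C a, (hzf a).symm⟩
    have hinv' : ∀ (p : P) (b : Fin 4 → ZMod 2), b ∈ f.range → p • b ∈ f.range := by
      intro p b hb
      obtain ⟨i, hi⟩ := mem_powers_iff_mem_zpowers.2 p.2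
      show p.1 • b ∈ f.range
      rw [← hi]
      clear hi
      induction i with
      | zero => simpa using hb
      | succ i ih => show _ ^ (i + 1) • b ∈ _; rw [pow_succ', mul_smul]; exact hinv _ ih
    let S : SubMulAction P (Fin 4 → ZMod 2) := { carrier := f.range, smul_mem' := fun p b hb => hinv' p b hb }
    have hmod := hP.card_modEq_card_fixedPoints S
    have hScard : Nat.card S = Nat.card f.range := rfl
    haveI : Unique (MulAction.fixedPoints P S) :=
      { default := ⟨⟨0, f.range.zero_mem⟩, fun p => Subtype.ext (fixG p.1).zero_mem⟩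
        uniq := fun b => Subtype.ext (Subtype.ext (hfix5 x hxo _ (congrArg Subtype.val (b.2 ⟨x, Subgroup.mem_zpowers x⟩)))) }
    rw [hScard, Nat.card_unique (α := MulAction.fixedPoints P S)] at hmod
    have hd := f.range.card_addSubgroup_dvd_card
    rw [show Nat.card (Fin 4 → ZMod 2) = 16 by simp [Nat.card_fun]] at hd
    have hgt : 1 < Nat.card f.range := by
      rw [← not_le]
      intro hle
      have := AddSubgroup.eq_bot_of_card_le f.range hle
      have hm : v ∈ f.range := ⟨sg 2 0, by simp [f, sg]⟩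
      rw [this, AddSubgroup.mem_bot] at hm
      exact hv hm
    have hlt : Nat.card f.range < 16 := lt_of_le_of_ne (Nat.le_of_dvd (by norm_num) hd) fun e =>
      hne (AddSubgroup.eq_top_of_card_eq _ (by rw [e]; simp [Nat.card_fun]))
    generalize Nat.card f.range = s at hmod hd hgt hlt
    unfold Nat.ModEq at hmod
    interval_cases s <;> first | omega | (norm_num at hd; done)
  let e := AddEquiv.ofBijective f (Finite.surjective_iff_bijective.1 hfs)
  refine ⟨e, fun g => ?_⟩
  let γ : R := (MulAction.toPermHom G (Fin 4 → ZMod 2)).rangeRestrict g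
  have hconj : γ * x * γ⁻¹ ∈ Subgroup.zpowers x := hzp ▸ hN.normal.conj_mem _ (hzp ▸ Subgroup.mem_zpowers x) γ
  obtain ⟨i, hi⟩ := mem_powers_iff_mem_zpowers.2 hconj
  dsimp only at hi
  refine ⟨i % 5, ?_, by omega, fun a => ?_⟩
  · by_contra h0
    have h5 : 5 ∣ i := by omega
    have : x ^ i = 1 := orderOf_dvd_iff_pow_eq_one.1 (hxo ▸ h5)
    rw [this, eq_comm, conj_eq_one_iff] at hi
    exact hx.2 hi
  · have hi' : γ * x = x ^ (i % 5) * γ := by
      rw [show x ^ (i % 5) = x ^ i by rw [← hxo]; exact pow_mod_orderOf x i, hi]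
      group
    apply e.injective
    rw [AddEquiv.apply_symm_apply]
    have hiter : ∀ (k : ℕ) (b : Fin 4 → ZMod 2), e ((fun b i => ![b 3, b 0 + b 3, b 1 + b 3, b 2 + b 3] i)^[k] b) = (x ^ k).1 (e b) := by
      intro k
      induction k with
      | zero => intro b; simp
      | succ k ih =>
        intro b
        rw [Function.iterate_succ_apply', pow_succ', show (x * x ^ k).1 (e b) = z ((x ^ k).1 (e b)) from rfl, ← ih]
        exact (hzf _).symm
    rw [hiter, AddEquiv.apply_symm_apply]
    show g • e (C a) = _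
    rw [show e (C a) = z (e a) from (hzf a).symm]
    exact congrArg (fun h : R => h.1 (e a)) hi'

end Cfsg.Agent.BaseTwo
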