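import Cfsg.Agent.BaseTwo.Phase

/-!
A projective symplectic system of operators and the frame of eigenlines of a maximal isotropic
subspace.
-/

set_option autoImplicit false
set_option maxHeartbeats 1000000

namespace Cfsg.Agent.BaseTwo

/-- A projective representation with commutator pairing, normalised by a semilinear group. -/
structure PS (r n : ℕ) (K V A Ω : Type*) [Field K] [AddCommGroup V] [Module K V] [Group A]
    [DistribMulAction A V] [AddCommGroup Ω] [DistribMulAction A Ω] where
  op : Ω → Module.End K V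
  pair : Ω → Ω → K
  σ : A → (K ≃+* K)
  n_ne : n ≠ 0
  op_zero : op 0 = 1
  op_mul : ∀ v w, ∃ c : K, c ^ n = 1 ∧ ∀ z, op v (op w z) = c • op (v + w) z
  pair_pow : ∀ v w, pair v w ^ r = 1
  op_comm : ∀ v w z, op v (op w z) = pair v w • op w (op v z)
  nondeg : ∀ v, (∀ w, pair v w = 1) → v = 0
  semi : ∀ (g : A) (c : K) (z : V), g • (c • z) = σ g c • (g • z)
  conj : ∀ (g : A) (v : Ω), ∃ c : K, c ^ n = 1 ∧ ∀ z : V, g • op v z = c • op (g • v) (g • z)

theorem pow_mod' {M : Type*} [Monoid M] {x : M} {r : ℕ} (h : x ^ r = 1) (k : ℕ) : x ^ (k % r) = x ^ k := by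
  conv_rhs => rw [← Nat.mod_add_div k r, pow_add, pow_mul, h, one_pow, mul_one]

namespace PS

variable {r n : ℕ} {K V A Ω : Type*} [Field K] [AddCommGroup V] [Module K V] [Group A]
  [DistribMulAction A V] [AddCommGroup Ω] [DistribMulAction A Ω] (S : PS r n K V A Ω)

include S in
theorem root_ne {c : K} (hc : c ^ n = 1) : c ≠ 0 := fun h => by
  rw [h, zero_pow S.n_ne] at hc; exact zero_ne_one hc

include S in
theorem root_inv {c : K} (hc : c ^ n = 1) : c⁻¹ ^ n = 1 := by rw [inv_pow, hc, inv_one]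

theorem op_inj (v : Ω) : Function.Injective (S.op v) := by
  obtain ⟨c, hc, h⟩ := S.op_mul (-v) v
  intro x y e
  have hx := h x
  rw [e, h y, neg_add_cancel, S.op_zero] at hx
  exact (smul_right_injective V (S.root_ne hc) hx).symm

theorem op_ne {v : Ω} {z : V} (hz : z ≠ 0) : S.op v z ≠ 0 := fun h =>
  hz (S.op_inj v (h.trans (map_zero _).symm))

theorem pair_ne (hr : r ≠ 0) (v w : Ω) : S.pair v w ≠ 0 := fun h => by
  have := S.pair_pow v w
  rw [h, zero_pow hr] at this
  exact zero_ne_one this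

variable [Nontrivial V]

theorem smul_inj {z : V} (hz : z ≠ 0) {a b : K} (h : a • z = b • z) : a = b := by
  have : (a - b) • z = 0 := by rw [sub_smul, h, sub_self]
  exact sub_eq_zero.1 ((smul_eq_zero.1 this).resolve_right hz)

theorem pair_add_left (hr : r ≠ 0) (u v w : Ω) : S.pair (u + v) w = S.pair u w * S.pair v w := by
  obtain ⟨z, hz⟩ := exists_ne (0 : V)
  obtain ⟨c, hc, h⟩ := S.op_mul u v
  have e1 : S.op u (S.op v (S.op w z)) = (S.pair u w * S.pair v w) • S.op w (S.op u (S.op v z)) := by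
    rw [S.op_comm v w, map_smul, S.op_comm u w, smul_smul, mul_comm]
  rw [h, h, map_smul, smul_smul, S.op_comm (u + v) w, smul_smul] at e1
  have := smul_inj (S.op_ne (S.op_ne hz)) e1
  exact mul_left_cancel₀ (S.root_ne hc) (by linear_combination this)

theorem pair_swap (hr : r ≠ 0) (v w : Ω) : S.pair v w * S.pair w v = 1 := by
  obtain ⟨z, hz⟩ := exists_ne (0 : V)
  have e1 := S.op_comm v w z
  rw [S.op_comm w v, smul_smul] at e1
  exact (smul_inj (S.op_ne (S.op_ne hz)) (e1.symm.trans (one_smul K _).symm))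

theorem pair_add_right (hr : r ≠ 0) (u v w : Ω) : S.pair u (v + w) = S.pair u v * S.pair u w := by
  have h1 := S.pair_swap hr u (v + w)
  rw [S.pair_add_left hr] at h1
  have h2 := S.pair_swap hr u v
  have h3 := S.pair_swap hr u w
  have hne := S.pair_ne hr v u
  have hne' := S.pair_ne hr w u
  apply mul_right_cancel₀ (mul_ne_zero hne hne')
  rw [h1]
  linear_combination (- (S.pair u w * S.pair w u)) * h2 - h3

theorem pair_zero_left (hr : r ≠ 0) (w : Ω) : S.pair 0 w = 1 := by
  have h := S.pair_add_left hr 0 0 w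
  rw [add_zero] at h
  exact mul_right_cancel₀ (S.pair_ne hr 0 w) (by rw [one_mul, ← h])

theorem pair_smul (hr : r ≠ 0) (g : A) (v w : Ω) : S.pair (g • v) (g • w) = S.σ g (S.pair v w) := by
  obtain ⟨z, hz⟩ := exists_ne (0 : V)
  obtain ⟨c, hc, h1⟩ := S.conj g v
  obtain ⟨c', hc', h2⟩ := S.conj g w
  have e := congrArg (g • ·) (S.op_comm v w z)
  simp only [S.semi, h1, h2, map_smul, smul_smul] at e
  rw [S.op_comm (g • v) (g • w), smul_smul] at e
  have := smul_inj (S.op_ne (S.op_ne (smul_ne_zero_iff_ne g |>.2 hz))) e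
  exact mul_left_cancel₀ (mul_ne_zero (S.root_ne hc) (S.root_ne hc')) (by linear_combination this)

/-- The span of the operators. -/
def alg : Submodule K (Module.End K V) := Submodule.span K (Set.range S.op)

theorem op_mem (v : Ω) : S.op v ∈ S.alg := Submodule.subset_span ⟨v, rfl⟩

theorem one_mem_alg : (1 : Module.End K V) ∈ S.alg := S.op_zero ▸ S.op_mem 0

theorem mul_mem_alg {f g : Module.End K V} (hf : f ∈ S.alg) (hg : g ∈ S.alg) : f * g ∈ S.alg := by
  induction hf using Submodule.span_induction with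
  | mem x hx =>
    obtain ⟨v, rfl⟩ := hx
    induction hg using Submodule.span_induction with
    | mem y hy =>
      obtain ⟨w, rfl⟩ := hy
      obtain ⟨c, hc, h⟩ := S.op_mul v w
      rw [show S.op v * S.op w = c • S.op (v + w) from LinearMap.ext h]
      exact Submodule.smul_mem _ _ (S.op_mem _)
    | zero => rw [mul_zero]; exact zero_mem _
    | add a b _ _ ha hb => rw [mul_add]; exact add_mem ha hb
    | smul a b _ hb => rw [mul_smul_comm]; exact Submodule.smul_mem _ _ hb
  | zero => rw [zero_mul]; exact zero_mem _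
  | add a b _ _ ha hb => rw [add_mul]; exact add_mem ha hb
  | smul a b _ hb => rw [smul_mul_assoc]; exact Submodule.smul_mem _ _ hb

theorem pow_mem_alg {f : Module.End K V} (hf : f ∈ S.alg) (k : ℕ) : f ^ k ∈ S.alg := by
  induction k with
  | zero => rw [pow_zero]; exact S.one_mem_alg
  | succ k ih => rw [pow_succ]; exact S.mul_mem_alg ih hf

end PS

/-- Coordinates adapted to a maximal isotropic subspace. -/
structure Frame {r n : ℕ} {K V A Ω : Type*} [Field K] [AddCommGroup V] [Module K V] [Group A]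
    [DistribMulAction A V] [AddCommGroup Ω] [DistribMulAction A Ω] (S : PS r n K V A Ω) (m : ℕ)
    (Q : Type*) [AddCommGroup Q] where
  ι : ((Fin m → ZMod r) × (Fin m → ZMod r)) × Q ≃+ Ω
  ω : K
  ω_pow : ω ^ r = 1
  ω_ne : ω ≠ 1
  pair_lt : ∀ i j : Fin m, S.pair (ι ((0, Pi.single i 1), 0)) (ι ((Pi.single j 1, 0), 0)) =
    if i = j then ω else 1
  pair_ll : ∀ i j : Fin m, S.pair (ι ((0, Pi.single i 1), 0)) (ι ((0, Pi.single j 1), 0)) = 1
  pair_tt : ∀ i j : Fin m, S.pair (ι ((Pi.single i 1, 0), 0)) (ι ((Pi.single j 1, 0), 0)) = 1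
  pair_lq : ∀ (i : Fin m) (h : Q), S.pair (ι ((0, Pi.single i 1), 0)) (ι ((0, 0), h)) = 1
  pair_tq : ∀ (i : Fin m) (h : Q), S.pair (ι ((Pi.single i 1, 0), 0)) (ι ((0, 0), h)) = 1
  t_pow : ∀ i : Fin m, S.op (ι ((Pi.single i 1, 0), 0)) ^ r = 1
  l_pow : ∀ i : Fin m, S.op (ι ((0, Pi.single i 1), 0)) ^ r = 1

namespace Frame

variable {r n m : ℕ} [Fact r.Prime] {K V A Ω Q : Type*} [Field K] [AddCommGroup V] [Module K V] [Group A]
  [DistribMulAction A V] [AddCommGroup Ω] [DistribMulAction A Ω] [AddCommGroup Q]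
  {S : PS r n K V A Ω} (F : Frame S m Q)

/-- The complement to the isotropic subspace. -/
def T : (Fin m → ZMod r) →+ Ω :=
  AddMonoidHom.mk' (fun a => F.ι ((a, 0), 0)) fun a b => by rw [← map_add]; simp

/-- The isotropic subspace. -/
def L : (Fin m → ZMod r) →+ Ω :=
  AddMonoidHom.mk' (fun a => F.ι ((0, a), 0)) fun a b => by rw [← map_add]; simp

/-- The middle part. -/
def H : Q →+ Ω :=
  AddMonoidHom.mk' (fun h => F.ι ((0, 0), h)) fun a b => by rw [← map_add]; simp

theorem split (v : Ω) : v = F.T (F.ι.symm v).1.1 + F.L (F.ι.symm v).1.2 + F.H (F.ι.symm v).2 := by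
  show v = F.ι _ + F.ι _ + F.ι _
  rw [← map_add, ← map_add]
  conv_lhs => rw [← F.ι.apply_symm_apply v]
  congr 1
  refine Prod.ext (Prod.ext ?_ ?_) ?_ <;> simp

theorem unique (a b : Fin m → ZMod r) (h : Q) :
    F.ι.symm (F.T a + F.L b + F.H h) = ((a, b), h) := by
  show F.ι.symm (F.ι _ + F.ι _ + F.ι _) = _
  rw [← map_add, ← map_add, AddEquiv.symm_apply_apply]
  simp

variable [Nontrivial V]

/-- The power function of a root of unity. -/
def chi (F : Frame S m Q) (x : ZMod r) : K := F.ω ^ x.val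

theorem chi_add (x y : ZMod r) : F.chi (x + y) = F.chi x * F.chi y := by
  rw [chi, chi, chi, ← pow_add, ZMod.val_add]
  exact pow_mod' F.ω_pow _

theorem chi_eq_one {x : ZMod r} (h : F.chi x = 1) : x = 0 := by
  by_contra hx
  have ho : orderOf F.ω = r := orderOf_eq_prime F.ω_pow F.ω_ne
  have hd := orderOf_dvd_of_pow_eq_one h
  rw [ho] at hd
  exact hx ((ZMod.val_eq_zero x).1 (Nat.eq_zero_of_dvd_of_lt hd (ZMod.val_lt x)))

/-- The pairing with a single of the isotropic part. -/
theorem pair_l (i : Fin m) (v : Ω) : S.pair (F.L (Pi.single i 1)) v = F.chi ((F.ι.symm v).1.1 i) := by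
  have hr : r ≠ 0 := (Fact.out : r.Prime).ne_zero
  have hgen : ∀ (M : (Fin m → ZMod r) →+ Ω) (ω' : Fin m → K),
      (∀ j, S.pair (F.L (Pi.single i 1)) (M (Pi.single j 1)) = ω' j) → ∀ a : Fin m → ZMod r,
      S.pair (F.L (Pi.single i 1)) (M a) = ∏ j, ω' j ^ (a j).val := by
    intro M ω' hM a
    have hn : ∀ (k : ℕ) (v : Ω), S.pair (F.L (Pi.single i 1)) (k • v) = S.pair (F.L (Pi.single i 1)) v ^ k := by
      intro k v
      induction k with
      | zero =>
        rw [zero_smul, pow_zero]
        have h := S.pair_add_right hr (F.L (Pi.single i 1)) 0 0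
        rw [add_zero] at h
        exact mul_right_cancel₀ (S.pair_ne hr _ 0) (by rw [one_mul, ← h])
      | succ k ih => rw [succ_nsmul, S.pair_add_right hr, ih, pow_succ]
    have hsum : ∀ s : Finset (Fin m), S.pair (F.L (Pi.single i 1)) (M (∑ j ∈ s, Pi.single j (a j))) =
        ∏ j ∈ s, ω' j ^ (a j).val := by
      intro s
      induction s using Finset.induction with
      | empty => simpa using hn 0 0
      | insert j s hj ih =>
        rw [Finset.sum_insert hj, Finset.prod_insert hj, map_add, S.pair_add_right hr, ih]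
        congr 1
        have : Pi.single j (a j) = (a j).val • (Pi.single j 1 : Fin m → ZMod r) := by
          funext l; rcases eq_or_ne l j with rfl | h <;> simp [*]
        rw [this, map_nsmul, hn, hM]
    rw [← hsum Finset.univ, Finset.univ_sum_single]
  conv_lhs => rw [F.split v]
  rw [S.pair_add_right hr, S.pair_add_right hr, hgen F.T (fun j => if i = j then F.ω else 1) (F.pair_lt i),
    hgen F.L (fun _ => 1) (F.pair_ll i), show S.pair (F.L (Pi.single i 1)) (F.H (F.ι.symm v).2) = 1 from F.pair_lq i _]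
  simp only [one_pow, Finset.prod_const_one, mul_one]
  rw [Finset.prod_eq_single i]
  · simp [chi]
  · intro j _ hj; simp [Ne.symm hj]
  · simp

theorem pair_l_op (i : Fin m) (v : Ω) (z : V) :
    S.op (F.L (Pi.single i 1)) (S.op v z) =
      F.chi ((F.ι.symm v).1.1 i) • S.op v (S.op (F.L (Pi.single i 1)) z) := by
  rw [S.op_comm, pair_l]

/-- A vector fixed by the isotropic operators. -/
def LFix (F : Frame S m Q) (z : V) : Prop := ∀ i : Fin m, S.op (F.L (Pi.single i 1)) z = z

theorem op_L (b : Fin m → ZMod r) :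
    ∃ c : K, c ^ n = 1 ∧ ∀ z : V, F.LFix z → S.op (F.L b) z = c • z := by
  have hb : b ∈ AddSubgroup.closure (Set.range (sg r (m := m))) := closure_sg (r := r) ▸ AddSubgroup.mem_top b
  induction hb using AddSubgroup.closure_induction with
  | mem x hx => obtain ⟨i, rfl⟩ := hx; exact ⟨1, one_pow n, fun z hz => by rw [one_smul]; exact hz i⟩
  | zero => exact ⟨1, one_pow n, fun z _ => by rw [map_zero, S.op_zero, one_smul]; rfl⟩
  | add x y _ _ hx hy =>
    obtain ⟨c, hc, e⟩ := hx
    obtain ⟨c', hc', e'⟩ := hy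
    obtain ⟨d, hd, h⟩ := S.op_mul (F.L x) (F.L y)
    refine ⟨d⁻¹ * (c' * c), by rw [mul_pow, mul_pow, S.root_inv hd, hc, hc', one_mul, one_mul], fun z hz => ?_⟩
    have := h z
    rw [e' z hz, map_smul, e z hz, ← map_add, smul_smul] at this
    rw [mul_smul, this, inv_smul_smul₀ (S.root_ne hd)]
  | neg x _ hx =>
    obtain ⟨c, hc, e⟩ := hx
    obtain ⟨d, hd, h⟩ := S.op_mul (F.L (-x)) (F.L x)
    refine ⟨c⁻¹ * d, by rw [mul_pow, S.root_inv hc, hd, one_mul], fun z hz => ?_⟩
    have := h z
    rw [e z hz, map_smul, ← map_add, neg_add_cancel, map_zero, S.op_zero] at this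
    rw [mul_smul, show d • z = c • S.op (F.L (-x)) z from this.symm, inv_smul_smul₀ (S.root_ne hc)]

theorem lfix_H {z : V} (hz : F.LFix z) (h : Q) : F.LFix (S.op (F.H h) z) := by
  intro i
  rw [F.pair_l_op, show F.ι.symm (F.H h) = ((0, 0), h) from F.ι.symm_apply_apply _, hz i]
  simp [chi]

/-- The product of the operators of the complement. -/
noncomputable def tau : ∀ {k : ℕ}, (Fin k → Module.End K V) → (Fin k → ZMod r) → Module.End K V
  | 0, _, _ => 1
  | _ + 1, f, a => f 0 ^ (a 0).val * tau (fun i => f i.succ) (fun i => a i.succ)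

omit [Nontrivial V] in
theorem tau_add : ∀ {k : ℕ} (f : Fin k → Module.End K V), (∀ i, f i ^ r = 1) →
    (∀ i j, Commute (f i) (f j)) → ∀ a b : Fin k → ZMod r, tau f (a + b) = tau f a * tau f b := by
  intro k
  induction k with
  | zero => intro f _ _ a b; simp [tau]
  | succ k ih =>
    intro f hp hc a b
    have hcomm : ∀ (x : Fin k → ZMod r), Commute (f 0) (tau (fun i => f i.succ) x) := by
      have : ∀ {k : ℕ} (e : Module.End K V) (f : Fin k → Module.End K V), (∀ i, Commute e (f i)) →
          ∀ x : Fin k → ZMod r, Commute e (tau f x) := by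
        intro k
        induction k with
        | zero => intro e f _ x; exact Commute.one_right e
        | succ k ih' =>
          intro e f h x
          exact ((h 0).pow_right _).mul_right (ih' e _ (fun i => h i.succ) _)
      exact this (f 0) _ fun i => hc 0 i.succ
    simp only [tau, Pi.add_apply]
    rw [show (fun i : Fin k => a i.succ + b i.succ) = (fun i => a i.succ) + (fun i => b i.succ) from rfl,
      ih _ (fun i => hp i.succ) (fun i j => hc i.succ j.succ)]
    rw [show f 0 ^ (a 0 + b 0).val = f 0 ^ (a 0).val * f 0 ^ (b 0).val by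
      rw [← pow_add, ZMod.val_add]
      exact pow_mod' (hp 0) _]
    rw [mul_assoc, ← mul_assoc (f 0 ^ (b 0).val), ← ((hcomm (fun i => a i.succ)).pow_left (b 0).val).symm.eq]
    simp only [mul_assoc]

/-- The operator of an element of the complement, multiplicative in it. -/
noncomputable def tauT (a : Fin m → ZMod r) : Module.End K V :=
  tau (fun i => S.op (F.T (Pi.single i 1))) a

theorem tauT_add (a b : Fin m → ZMod r) : F.tauT (a + b) = F.tauT a * F.tauT b :=
  tau_add _ F.t_pow (fun i j => LinearMap.ext fun z => by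
    show S.op _ (S.op _ z) = S.op _ (S.op _ z)
    rw [S.op_comm, show S.pair (F.ι ((Pi.single i 1, 0), 0)) (F.ι ((Pi.single j 1, 0), 0)) = 1 from F.pair_tt i j, one_smul]) a b

omit [Nontrivial V] in
theorem tau_scalar : ∀ {k : ℕ} (f : Fin k → Module.End K V) (u : Fin k → Ω), (∀ i, f i = S.op (u i)) →
    ∀ a : Fin k → ZMod r, ∃ c : K, c ^ n = 1 ∧ tau f a = c • S.op (∑ i, (a i).val • u i) := by
  intro k
  induction k with
  | zero => intro f u _ a; exact ⟨1, one_pow n, by simp [tau, S.op_zero]⟩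
  | succ k ih =>
    intro f u hfu a
    obtain ⟨c, hc, e⟩ := ih _ (fun i => u i.succ) (fun i => hfu i.succ) (fun i => a i.succ)
    have hpow : ∀ j : ℕ, ∃ d : K, d ^ n = 1 ∧ f 0 ^ j = d • S.op (j • u 0) := by
      intro j
      induction j with
      | zero => exact ⟨1, one_pow n, by simp [S.op_zero]⟩
      | succ j ihj =>
        obtain ⟨d, hd, ed⟩ := ihj
        obtain ⟨d', hd', h⟩ := S.op_mul (j • u 0) (u 0)
        refine ⟨d * d', by rw [mul_pow, hd, hd', one_mul], ?_⟩
        rw [pow_succ, ed, hfu, succ_nsmul]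
        refine LinearMap.ext fun z => ?_
        simp only [Module.End.mul_apply, LinearMap.smul_apply, h, smul_smul]
    obtain ⟨d, hd, ed⟩ := hpow (a 0).val
    obtain ⟨d', hd', h⟩ := S.op_mul ((a 0).val • u 0) (∑ i : Fin k, (a i.succ).val • u i.succ)
    refine ⟨d * c * d', by rw [mul_pow, mul_pow, hd, hc, hd', one_mul, one_mul], ?_⟩
    rw [Fin.sum_univ_succ]
    refine LinearMap.ext fun z => ?_
    simp only [tau, ed, e, Module.End.mul_apply, LinearMap.smul_apply, map_smul, h, smul_smul]
    congr 1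
    ring

theorem tauT_scalar (a : Fin m → ZMod r) : ∃ c : K, c ^ n = 1 ∧ F.tauT a = c • S.op (F.T a) := by
  obtain ⟨c, hc, e⟩ := tau_scalar (S := S) (fun i => S.op (F.T (Pi.single i 1))) (fun i => F.T (Pi.single i 1))
    (fun i => rfl) a
  refine ⟨c, hc, ?_⟩
  have hsum : ∑ i, (a i).val • F.T (Pi.single i 1) = F.T a := by
    conv_rhs => rw [← Finset.univ_sum_single a]
    rw [map_sum]
    refine Finset.sum_congr rfl fun i _ => ?_
    rw [← map_nsmul]
    congr 1
    funext l; rcases eq_or_ne l i with rfl | h <;> simp [*]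
  rw [tauT, e, hsum]

theorem tauT_zero : F.tauT 0 = 1 := by
  have : ∀ {k : ℕ} (f : Fin k → Module.End K V), tau f (0 : Fin k → ZMod r) = 1 := by
    intro k
    induction k with
    | zero => intro f; simp [tau]
    | succ k ih =>
      intro f
      simp only [tau, Pi.zero_apply, ZMod.val_zero, pow_zero, one_mul]
      exact ih _
  exact this _

theorem l_tauT (i : Fin m) (a : Fin m → ZMod r) {z : V} (hz : F.LFix z) :
    S.op (F.L (Pi.single i 1)) (F.tauT a z) = F.chi (a i) • F.tauT a z := by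
  obtain ⟨c, hc, e⟩ := F.tauT_scalar a
  rw [e]
  simp only [LinearMap.smul_apply, map_smul, F.pair_l_op, hz i, smul_comm c]
  rw [show (F.ι.symm (F.T a)).1.1 = a by rw [show F.ι.symm (F.T a) = ((a, 0), 0) from F.ι.symm_apply_apply _]]

/-- Vectors in the eigenspaces of distinct characters are independent. -/
theorem independent (s : Finset (Fin m → ZMod r)) (w : (Fin m → ZMod r) → V)
    (hw : ∀ a ∈ s, ∀ i, S.op (F.L (Pi.single i 1)) (w a) = F.chi (a i) • w a)
    (h : ∑ a ∈ s, w a = 0) : ∀ a ∈ s, w a = 0 := by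
  classical
  induction s using Finset.strongInduction generalizing w with
  | H s ih =>
    intro a ha
    by_cases hone : ∀ b ∈ s, b = a
    · rw [Finset.sum_eq_single a (fun b hb hne => absurd (hone b hb) hne) (fun h' => absurd ha h')] at h
      exact h
    push_neg at hone
    obtain ⟨b, hb, hba⟩ := hone
    obtain ⟨i, hi⟩ := Function.ne_iff.1 hba
    let w' := fun c => (F.chi (c i) - F.chi (b i)) • w c
    have hsum : ∑ c ∈ s.erase b, w' c = 0 := by
      have h1 : ∑ c ∈ s, w' c = 0 := by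
        simp only [w', sub_smul, Finset.sum_sub_distrib, ← Finset.smul_sum, h, smul_zero, sub_zero]
        rw [← Finset.sum_congr rfl fun c hc => hw c hc i, ← map_sum, h, map_zero]
      rwa [← Finset.add_sum_erase s w' hb, show w' b = 0 by simp [w'], zero_add] at h1
    have := ih _ (Finset.erase_ssubset hb) w' (fun c hc j => by
      simp only [w', map_smul, hw c (Finset.mem_of_mem_erase hc) j, smul_comm (F.chi (c j))]) hsum a
      (Finset.mem_erase.2 ⟨Ne.symm hba, ha⟩)
    refine (smul_eq_zero.1 this).resolve_left (sub_ne_zero.2 fun e => hi ?_)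
    have h2 : F.chi (b i - a i) * F.chi (a i) = 1 * F.chi (a i) := by
      rw [← F.chi_add, sub_add_cancel, one_mul, e]
    exact sub_eq_zero.1 (F.chi_eq_one (mul_right_cancel₀ (by
      rw [chi]; exact pow_ne_zero _ fun h0 => by
        have := F.ω_pow; rw [h0, zero_pow (Fact.out : r.Prime).ne_zero] at this; exact zero_ne_one this) h2))

/-- The operators fixing the line of a generic fixed vector are the isotropic ones. -/
theorem line_stab {x : V} (hx : x ≠ 0) (hl : F.LFix x)
    (hgen : ∀ (h : Q) (c : K), S.op (F.H h) x = c • x → h = 0) {v : Ω} {c : K}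
    (h : S.op v x = c • x) : (F.ι.symm v).1.1 = 0 ∧ (F.ι.symm v).2 = 0 := by
  have ha : (F.ι.symm v).1.1 = 0 := funext fun i => by
    have h1 := F.pair_l_op i v x
    rw [h, map_smul, hl i, h, smul_smul] at h1
    have h2 := PS.smul_inj hx h1
    apply F.chi_eq_one
    refine mul_right_cancel₀ (b := c) (fun hc => S.op_ne (v := v) hx (by rw [h, hc, zero_smul])) ?_
    rw [one_mul]; exact h2.symm
  refine ⟨ha, ?_⟩
  have hv := F.split v
  rw [ha, map_zero, zero_add] at hv
  obtain ⟨d, hd, hm⟩ := S.op_mul (F.H (F.ι.symm v).2) (F.L (F.ι.symm v).1.2)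
  obtain ⟨e, he, hL⟩ := F.op_L (F.ι.symm v).1.2
  have := hm x
  rw [hL x hl, map_smul, add_comm (F.H _), ← hv, h, smul_smul] at this
  refine hgen _ (e⁻¹ * (d * c)) ?_
  rw [mul_smul, ← this, inv_smul_smul₀ (S.root_ne he)]

theorem iota_L_H (w : Ω) (hw : (F.ι.symm w).1.1 = 0) :
    w = F.L (F.ι.symm w).1.2 + F.H (F.ι.symm w).2 := by
  conv_lhs => rw [F.split w, hw, map_zero, zero_add]

/-- The centraliser of the isotropic part is invariant. -/
theorem ccoord {g : A} {x : V} (hx : x ≠ 0) (hg : g • x = x) (hl : F.LFix x)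
    (hgen : ∀ (h : Q) (c : K), S.op (F.H h) x = c • x → h = 0) {w : Ω}
    (hw : (F.ι.symm w).1.1 = 0) : (F.ι.symm (g • w)).1.1 = 0 := by
  have hr : r ≠ 0 := (Fact.out : r.Prime).ne_zero
  funext i
  apply F.chi_eq_one
  rw [← F.pair_l]
  -- the isotropic single is the image of an element fixing the line
  have hi : g⁻¹ • x = x := by rw [inv_smul_eq_iff, hg]
  obtain ⟨c, hc, hcv⟩ := S.conj g⁻¹ (F.L (Pi.single i 1))
  have := hcv x
  rw [hl i, hi] at this
  have hline := F.line_stab hx hl hgen (v := g⁻¹ • F.L (Pi.single i 1)) (c := c⁻¹)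
    (by rw [eq_inv_smul_iff₀ (S.root_ne hc)]; exact this.symm)
  have h1 := S.pair_smul hr g (g⁻¹ • F.L (Pi.single i 1)) w
  rw [smul_inv_smul] at h1
  rw [h1]
  have h2 : S.pair (g⁻¹ • F.L (Pi.single i 1)) w = 1 := by
    obtain ⟨b, hb⟩ : ∃ b, g⁻¹ • F.L (Pi.single i 1) = F.L b :=
      ⟨_, by conv_lhs => rw [F.split (g⁻¹ • F.L (Pi.single i 1)), hline.1, hline.2, map_zero, map_zero, zero_add, add_zero]⟩
    rw [hb]
    have hbm : b ∈ AddSubgroup.closure (Set.range (sg r (m := m))) := closure_sg (r := r) ▸ AddSubgroup.mem_top b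
    clear hb
    induction hbm using AddSubgroup.closure_induction with
    | mem y hy => obtain ⟨j, rfl⟩ := hy; rw [show sg r j = Pi.single j 1 from rfl, F.pair_l, hw]; simp [chi]
    | zero => rw [map_zero]; exact S.pair_zero_left hr w
    | add y z _ _ hy hz => rw [map_add, S.pair_add_left hr, hy, hz, one_mul]
    | neg y _ hy =>
      have := S.pair_add_left hr (F.L y) (F.L (-y)) w
      rw [← map_add, add_neg_cancel, map_zero, S.pair_zero_left hr, hy, one_mul] at this
      exact this.symm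
  rw [h2, map_one]

variable (x : V)

/-- The induced action on the frame. -/
def proj (g : A) : (Fin m → ZMod r) →+ (Fin m → ZMod r) :=
  AddMonoidHom.mk' (fun a => (F.ι.symm (g • F.T a)).1.1) fun a b => by
    simp [map_add, smul_add]

theorem proj_mul {g h : A} (hx : x ≠ 0) (hg : g • x = x) (hl : F.LFix x)
    (hgen : ∀ (q : Q) (c : K), S.op (F.H q) x = c • x → q = 0) (a : Fin m → ZMod r) :
    F.proj (g * h) a = F.proj g (F.proj h a) := by
  show (F.ι.symm ((g * h) • F.T a)).1.1 = (F.ι.symm (g • F.T (F.ι.symm (h • F.T a)).1.1)).1.1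
  rw [mul_smul]
  conv_lhs => rw [F.split (h • F.T a), add_assoc, smul_add, map_add]
  have : (F.ι.symm (g • (F.L (F.ι.symm (h • F.T a)).1.2 + F.H (F.ι.symm (h • F.T a)).2))).1.1 = 0 := by
    refine F.ccoord hx hg hl hgen ?_
    rw [show F.L _ + F.H _ = F.T 0 + F.L (F.ι.symm (h • F.T a)).1.2 + F.H (F.ι.symm (h • F.T a)).2 by
      rw [map_zero, zero_add], F.unique]
  simp only [smul_add, map_add, Prod.fst_add] at this
  simp [this]

theorem proj_one (a : Fin m → ZMod r) : F.proj 1 a = a := by
  show (F.ι.symm ((1 : A) • F.T a)).1.1 = a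
  rw [one_smul, show F.ι.symm (F.T a) = ((a, 0), 0) from F.ι.symm_apply_apply _]

end Frame

end Cfsg.Agent.BaseTwo
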