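import Mathlib.Data.ZMod.Basic
import Mathlib.Algebra.Module.Prod
import Mathlib.Algebra.Field.ZMod
import Mathlib.Tactic.FinCases

/-!
The four-dimensional representation of two pairs of anticommuting involutions over the field
with five elements, with a pair of vectors which is moved by every nontrivial candidate.
-/

set_option autoImplicit false

namespace Cfsg.Agent.BaseTwo.Pauli

/-- The model space. -/
abbrev W5 := ZMod 5 × ZMod 5 × ZMod 5 × ZMod 5

/-- Permutation part and sign part. -/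
abbrev Q4 := (ZMod 2 × ZMod 2) × (ZMod 2 × ZMod 2)

/-- The sign. -/
def sg5 (t : ZMod 2) : ZMod 5 := if t = 0 then 1 else -1

/-- The diagonal operators. -/
def mA (a : ZMod 2 × ZMod 2) (w : W5) : W5 :=
  (w.1, sg5 a.1 * w.2.1, sg5 a.2 * w.2.2.1, sg5 a.1 * sg5 a.2 * w.2.2.2)

/-- The permutation operators. -/
def mB (b : ZMod 2 × ZMod 2) (w : W5) : W5 :=
  if b.1 = 0 then (if b.2 = 0 then w else (w.2.2.1, w.2.2.2, w.1, w.2.1))
  else (if b.2 = 0 then (w.2.1, w.1, w.2.2.2, w.2.2.1) else (w.2.2.2, w.2.2.1, w.2.1, w.1))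

/-- The monomial operator. -/
def mM (h : Q4) (w : W5) : W5 := mB h.1 (mA h.2 w)

/-- A linear combination of four vectors. -/
def cmb (u : W5) (B0 B1 B2 B3 : W5) : W5 :=
  u.1 • B0 + u.2.1 • B1 + u.2.2.1 • B2 + u.2.2.2 • B3

/-- The base vector. -/
def x0 : W5 := (0, 1, 1, 1)

/-- Coordinates in the orbit basis of the base vector. -/
def cX (u : W5) : W5 :=
  cmb u x0 (mM ((1, 0), 0) x0) (mM ((0, 1), 0) x0) (mM ((1, 0), 0) (mM ((0, 1), 0) x0))

/-- The second vector. -/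
def w0 : W5 := (1, 0, 1, 3)

theorem cX_w0 : cX (4, 0, 4, 2) = w0 := by decide +kernel

theorem cX_a1 : cX (3, 4, 2, 4) = mM (0, (1, 0)) x0 := by decide +kernel

theorem cX_a2 : cX (3, 2, 4, 4) = mM (0, (0, 1)) x0 := by decide +kernel

theorem cX_surj : ∀ w : W5, ∃ u : W5, cX u = w := fun w =>
  ⟨cmb w (1, 2, 2, 2) (2, 1, 2, 2) (2, 2, 1, 2) (2, 2, 2, 1), by revert w; decide +kernel⟩

/-- The base vector is generic. -/
theorem x0_generic : ∀ (h : Q4) (k : ZMod 5), mM h x0 = k • x0 → h = 0 := by decide +kernel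

/-- Membership in the orbit of the base vector. -/
def inOrbit (y : W5) : Prop := ∃ (h : Q4) (k : ZMod 5), k ≠ 0 ∧ y = k • mM h x0

instance (y : W5) : Decidable (inOrbit y) := by unfold inOrbit; infer_instance

-- The only candidate fixing both vectors is the identity.
set_option synthInstance.maxSize 4000 in
set_option synthInstance.maxHeartbeats 200000 in
theorem pair_rigid : ∀ (h1 h2 : Q4) (k1 k2 : ZMod 5), k1 ≠ 0 → k2 ≠ 0 →
    cmb (4, 0, 4, 2) x0 (k1 • mM h1 x0) (k2 • mM h2 x0) (k1 • mM h1 (k2 • mM h2 x0)) = w0 →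
    inOrbit (cmb (3, 4, 2, 4) x0 (k1 • mM h1 x0) (k2 • mM h2 x0) (k1 • mM h1 (k2 • mM h2 x0))) →
    inOrbit (cmb (3, 2, 4, 4) x0 (k1 • mM h1 x0) (k2 • mM h2 x0) (k1 • mM h1 (k2 • mM h2 x0))) →
    k1 • mM h1 x0 = mM ((1, 0), 0) x0 ∧ k2 • mM h2 x0 = mM ((0, 1), 0) x0 ∧
      k1 • mM h1 (k2 • mM h2 x0) = mM ((1, 0), 0) (mM ((0, 1), 0) x0) := by
  decide +kernel

/-- Colours for a frame of dimension at most two. -/
def colour (i : ℕ) : W5 := if i = 1 then (3, 2, 2, 1) else if i = 2 then (3, 2, 1, 2) else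
  if i = 3 then (0, 4, 3, 3) else 0

theorem colour_rigid : ∀ (i j : Fin 4) (h : Q4) (k : ZMod 5), i ≠ 0 → k ≠ 0 →
    cX (colour j.1) = k • mM h (cX (colour i.1)) → j = i ∧ h = 0 ∧ k = 1 := by
  decide +kernel

/-- The number of a vector of a small frame. -/
def idx : ∀ {m : ℕ}, (Fin m → ZMod 2) → Fin 4
  | 0, _ => 0
  | 1, a => if a 0 = 0 then 0 else 1
  | _ + 2, a => if a 0 = 0 then (if a 1 = 0 then 0 else 2) else (if a 1 = 0 then 1 else 3)

theorem idx_zero {m : ℕ} : idx (0 : Fin m → ZMod 2) = 0 := by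
  match m with
  | 0 => rfl
  | 1 => rfl
  | _ + 2 => rfl

theorem idx_inj {m : ℕ} (hm : m ≤ 2) : Function.Injective (idx (m := m)) := by
  have h1 : ∀ a b : Fin 1 → ZMod 2, idx a = idx b → a = b := by decide
  have h2 : ∀ a b : Fin 2 → ZMod 2, idx a = idx b → a = b := by decide
  match m, hm with
  | 0, _ => exact fun a b _ => Subsingleton.elim a b
  | 1, _ => exact fun a b => h1 a b
  | 2, _ => exact fun a b => h2 a b

theorem mM_zero (w : W5) : mM 0 w = w := by
  simp [mM, mA, mB, sg5]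

theorem mM_add_gen : ∀ w : W5,
    mM ((1, 1), 0) w = mM ((1, 0), 0) (mM ((0, 1), 0) w) ∧ mM (0, (1, 1)) w = mM (0, (1, 0)) (mM (0, (0, 1)) w) := by
  intro w
  constructor <;> simp [mM, mA, mB, sg5]

theorem mM_split (h : Q4) (w : W5) : mM h w = mM (h.1, 0) (mM (0, h.2) w) := by
  simp [mM, mA, mB, sg5]

end Cfsg.Agent.BaseTwo.Pauli
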