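import Cfsg.Agent.BaseTwo.Scalar
import Cfsg.Agent.BaseTwo.PauliModel

/-!
Systems over the field with five elements: two pairs are taken as the middle part.
-/

set_option autoImplicit false
set_option maxHeartbeats 2000000

namespace Cfsg.Agent.BaseTwo.Frame

open Pauli

variable {m : ℕ} {K V A Ω : Type*} [Field K] [AddCommGroup V] [Module K V] [Group A]
  [DistribMulAction A V] [AddCommGroup Ω] [DistribMulAction A Ω] [Nontrivial V]

local instance : Fact (Nat.Prime 2) := ⟨Nat.prime_two⟩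
local instance : Fact (Nat.Prime 5) := ⟨by norm_num⟩

variable {S : PS 2 4 K V A Ω} (F : Frame S m Q4) (ψ : ZMod 5 →+* K)

/-- The model map at a vector fixed by the diagonal operators. -/
def model (v : V) (w : W5) : V :=
  ψ w.1 • v + ψ w.2.1 • S.op (F.H ((1, 0), 0)) v + ψ w.2.2.1 • S.op (F.H ((0, 1), 0)) v +
    ψ w.2.2.2 • S.op (F.H ((1, 0), 0)) (S.op (F.H ((0, 1), 0)) v)

theorem model_add (v : V) (a b : W5) : F.model ψ v (a + b) = F.model ψ v a + F.model ψ v b := by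
  simp only [model, Prod.fst_add, Prod.snd_add, map_add, add_smul]
  abel

theorem model_smul (v : V) (k : ZMod 5) (a : W5) : F.model ψ v (k • a) = ψ k • F.model ψ v a := by
  simp only [model, Prod.smul_fst, Prod.smul_snd, smul_eq_mul, map_mul, mul_smul, smul_add]

theorem model_zero (v : V) : F.model ψ v 0 = 0 := by
  simp [model]

theorem model_cmb (v : V) (u B0 B1 B2 B3 : W5) : F.model ψ v (cmb u B0 B1 B2 B3) =
    ψ u.1 • F.model ψ v B0 + ψ u.2.1 • F.model ψ v B1 + ψ u.2.2.1 • F.model ψ v B2 +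
      ψ u.2.2.2 • F.model ψ v B3 := by
  simp only [cmb, model_add, model_smul]

/-- The relations of the middle part. -/
structure MidPairs : Prop where
  sqB1 : ∀ z, S.op (F.H ((1, 0), 0)) (S.op (F.H ((1, 0), 0)) z) = z
  sqB2 : ∀ z, S.op (F.H ((0, 1), 0)) (S.op (F.H ((0, 1), 0)) z) = z
  sqA1 : ∀ z, S.op (F.H (0, (1, 0))) (S.op (F.H (0, (1, 0))) z) = z
  sqA2 : ∀ z, S.op (F.H (0, (0, 1))) (S.op (F.H (0, (0, 1))) z) = z
  bb : ∀ z, S.op (F.H ((0, 1), 0)) (S.op (F.H ((1, 0), 0)) z) = S.op (F.H ((1, 0), 0)) (S.op (F.H ((0, 1), 0)) z)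
  aa : ∀ z, S.op (F.H (0, (0, 1))) (S.op (F.H (0, (1, 0))) z) = S.op (F.H (0, (1, 0))) (S.op (F.H (0, (0, 1))) z)
  a1b1 : ∀ z, S.op (F.H (0, (1, 0))) (S.op (F.H ((1, 0), 0)) z) = -S.op (F.H ((1, 0), 0)) (S.op (F.H (0, (1, 0))) z)
  a1b2 : ∀ z, S.op (F.H (0, (1, 0))) (S.op (F.H ((0, 1), 0)) z) = S.op (F.H ((0, 1), 0)) (S.op (F.H (0, (1, 0))) z)
  a2b1 : ∀ z, S.op (F.H (0, (0, 1))) (S.op (F.H ((1, 0), 0)) z) = S.op (F.H ((1, 0), 0)) (S.op (F.H (0, (0, 1))) z)
  a2b2 : ∀ z, S.op (F.H (0, (0, 1))) (S.op (F.H ((0, 1), 0)) z) = -S.op (F.H ((0, 1), 0)) (S.op (F.H (0, (0, 1))) z)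

variable {F}

theorem model_op (M : F.MidPairs) {v : V} (h1 : S.op (F.H (0, (1, 0))) v = v)
    (h2 : S.op (F.H (0, (0, 1))) v = v) (h : Q4) :
    ∃ c : K, c ≠ 0 ∧ ∀ w, S.op (F.H h) (F.model ψ v w) = c • F.model ψ v (mM h w) := by
  let P : Q4 → Prop := fun h => ∃ c : K, c ≠ 0 ∧ ∀ w, S.op (F.H h) (F.model ψ v w) = c • F.model ψ v (mM h w)
  have hadd : ∀ h h', P h → P h' → (∀ w, mM (h + h') w = mM h (mM h' w)) → P (h + h') := by
    rintro h h' ⟨c, hc, e⟩ ⟨c', hc', e'⟩ hM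
    obtain ⟨d, hd, ed⟩ := S.op_mul (F.H h) (F.H h')
    refine ⟨d⁻¹ * (c' * c), mul_ne_zero (inv_ne_zero (S.root_ne hd)) (mul_ne_zero hc' hc), fun w => ?_⟩
    rw [map_add, ← inv_smul_smul₀ (S.root_ne hd) (S.op (F.H h + F.H h') _), ← ed, e', map_smul, e, hM,
      smul_smul, smul_smul, mul_assoc]
  have g0 : P 0 := ⟨1, one_ne_zero, fun w => by rw [map_zero, S.op_zero, mM_zero, one_smul]; rfl⟩
  have gB1 : P ((1, 0), 0) := ⟨1, one_ne_zero, fun w => by
    simp only [model, mM, mA, mB, sg5, map_add, map_smul, one_smul, M.sqB1, Prod.fst_zero, Prod.snd_zero]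
    simp only [↓reduceIte, one_ne_zero, one_mul]
    module⟩
  have gB2 : P ((0, 1), 0) := ⟨1, one_ne_zero, fun w => by
    simp only [model, mM, mA, mB, sg5, map_add, map_smul, one_smul, M.sqB2, M.bb, Prod.fst_zero, Prod.snd_zero]
    simp only [↓reduceIte, one_ne_zero, one_mul]
    module⟩
  have gA1 : P (0, (1, 0)) := ⟨1, one_ne_zero, fun w => by
    simp only [model, mM, mA, mB, sg5, map_add, map_smul, one_smul, M.a1b1, M.a1b2, h1, Prod.fst_zero, Prod.snd_zero]
    simp only [↓reduceIte, one_ne_zero, one_mul, mul_one, map_neg, map_mul, map_one, neg_mul, h1]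
    module⟩
  have gA2 : P (0, (0, 1)) := ⟨1, one_ne_zero, fun w => by
    simp only [model, mM, mA, mB, sg5, map_add, map_smul, one_smul, M.a2b1, M.a2b2, h2, map_neg, Prod.fst_zero, Prod.snd_zero]
    simp only [↓reduceIte, one_ne_zero, one_mul, mul_one, map_neg, map_mul, map_one, neg_mul, h2]
    module⟩
  have pairs : ∀ b : ZMod 2 × ZMod 2, b = 0 ∨ b = (1, 0) ∨ b = (0, 1) ∨ b = (1, 1) := by decide
  have hb : P (h.1, 0) := by
    rcases pairs h.1 with e | e | e | e <;> rw [e]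
    · exact g0
    · exact gB1
    · exact gB2
    · exact hadd _ _ gB1 gB2 fun w => (mM_add_gen w).1
  have ha : P (0, h.2) := by
    rcases pairs h.2 with e | e | e | e <;> rw [e]
    · exact g0
    · exact gA1
    · exact gA2
    · exact hadd _ _ gA1 gA2 fun w => (mM_add_gen w).2
  have : P ((h.1, 0) + (0, h.2)) := hadd _ _ hb ha fun w => by
    rw [← mM_split]; congr 1; ext <;> simp
  rwa [show ((h.1, 0) + (0, h.2) : Q4) = h by ext <;> simp] at this

theorem model_inj (M : F.MidPairs) (hψ : (4 : K) ≠ 0) {v : V} (hv : v ≠ 0)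
    (h1 : S.op (F.H (0, (1, 0))) v = v) (h2 : S.op (F.H (0, (0, 1))) v = v) :
    Function.Injective (F.model ψ v) := by
  have key : ∀ w, F.model ψ v w = 0 → w = 0 := by
    intro w hw
    have e1 := congrArg (S.op (F.H (0, (1, 0)))) hw
    simp only [model, map_add, map_smul, map_zero, M.a1b1, M.a1b2, h1, smul_neg] at e1
    have e2 := congrArg (S.op (F.H (0, (0, 1)))) hw
    simp only [model, map_add, map_smul, map_zero, M.a2b1, M.a2b2, h2, map_neg, smul_neg] at e2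
    have e3 := congrArg (fun z => S.op (F.H (0, (0, 1))) (S.op (F.H (0, (1, 0))) z)) hw
    simp only [model, map_add, map_smul, map_zero, M.a1b1, M.a1b2, h1, M.a2b1, M.a2b2, h2, map_neg, smul_neg, neg_neg] at e3
    simp only [model] at hw
    have f : ∀ (k : ZMod 5) (z : V), z ≠ 0 → ((4 : K) * ψ k) • z = 0 → k = 0 := by
      intro k z hz e
      have := (mul_eq_zero.1 ((smul_eq_zero.1 e).resolve_right hz)).resolve_left hψ
      exact ψ.injective (this.trans (map_zero ψ).symm)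
    have g0 := f w.1 v hv (by linear_combination (norm := module) hw + e1 + e2 + e3)
    have g1 := f w.2.1 _ (S.op_ne (v := F.H ((1, 0), 0)) hv) (by linear_combination (norm := module) hw - e1 + e2 - e3)
    have g2 := f w.2.2.1 _ (S.op_ne (v := F.H ((0, 1), 0)) hv) (by linear_combination (norm := module) hw + e1 - e2 - e3)
    have g3 := f w.2.2.2 _ (S.op_ne (v := F.H ((1, 0), 0)) (S.op_ne (v := F.H ((0, 1), 0)) hv)) (by linear_combination (norm := module) hw - e1 - e2 + e3)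
    exact Prod.ext g0 (Prod.ext g1 (Prod.ext g2 g3))
  intro a b hab
  refine sub_eq_zero.1 (key _ ?_)
  have hsub : a = (a - b) + b := (sub_add_cancel a b).symm
  rw [hsub, model_add] at hab
  exact add_eq_right.1 hab

variable [Finite A]

/-- A system over five elements with two pairs in the middle. -/
theorem solvable_pauli (M : F.MidPairs) (hm : m ≤ 2) (hψ : Function.Surjective ψ)
    (hA : (Nat.card A : K) ≠ 0) : S.Solvable := by
  have hσ : ∀ g, S.σ g = RingEquiv.refl K := fun g => by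
    refine RingEquiv.ext fun k => ?_
    obtain ⟨k, rfl⟩ := hψ k
    exact RingHom.congr_fun (RingHom.ext_zmod ((S.σ g : K →+* K).comp ψ) ψ) k
  have hne : ∀ k : ZMod 5, k ≠ 0 → ψ k ≠ 0 := fun k hk h => hk (ψ.injective (h.trans (map_zero ψ).symm))
  have h2 : ((2 : ℕ) : K) ≠ 0 := by
    have := hne 2 (by decide)
    rwa [map_ofNat] at this
  have h4 : (4 : K) ≠ 0 := by have := hne 4 (by decide); rwa [map_ofNat] at this
  have h5 : (5 : K) = 0 := by rw [← map_ofNat ψ, show (5 : ZMod 5) = 0 from rfl, map_zero]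
  set B1 := S.op (F.H ((1, 0), 0)) with hB1
  set B2 := S.op (F.H ((0, 1), 0)) with hB2
  set A1 := S.op (F.H (0, (1, 0))) with hA1
  set A2 := S.op (F.H (0, (0, 1))) with hA2
  have hmem : ∀ h, S.op (F.H h) ∈ F.algH := fun h => Submodule.subset_span ⟨h, rfl⟩
  have hB12 : B1 * B2 ∈ F.algH := by
    obtain ⟨c, hc, e⟩ := S.op_mul (F.H ((1, 0), 0)) (F.H ((0, 1), 0))
    rw [show B1 * B2 = c • S.op (F.H (((1, 0), 0) + ((0, 1), 0))) from LinearMap.ext fun z => by
      rw [map_add, Module.End.mul_apply, LinearMap.smul_apply]; exact e z]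
    exact Submodule.smul_mem _ _ (hmem _)
  let E : W5 → Module.End K V := fun u =>
    ψ u.1 • 1 + ψ u.2.1 • B1 + ψ u.2.2.1 • B2 + ψ u.2.2.2 • (B1 * B2)
  have hE : ∀ u, E u ∈ F.algH := fun u => add_mem (add_mem (add_mem (Submodule.smul_mem _ _ F.one_mem_algH)
    (Submodule.smul_mem _ _ (hmem _))) (Submodule.smul_mem _ _ (hmem _))) (Submodule.smul_mem _ _ hB12)
  have hEz : ∀ u z, E u z = ψ u.1 • z + ψ u.2.1 • B1 z + ψ u.2.2.1 • B2 z + ψ u.2.2.2 • B1 (B2 z) :=
    fun u z => rfl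
  let f := E (0, 1, 1, 1)
  let fi := E (1, 2, 2, 2)
  have hffi : ∀ z, f (fi z) = z ∧ fi (f z) = z := fun z => by
    simp only [f, fi, hEz, map_zero, map_one, map_ofNat, map_add, map_smul, M.sqB1, M.sqB2, M.bb,
      hB1, hB2]
    constructor <;>
      match_scalars <;> first | linear_combination h5 | linear_combination (0 : K) * h5
  have hEalg : ∀ u, E u ∈ S.alg := fun u => F.algH_le (hE u)
  refine ⟨Set.range (fun i => S.op (F.L (Pi.single i 1))) ∪ {f * A1 * fi, f * A2 * fi}, ?_, ?_, ?_⟩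
  · rintro e (⟨i, rfl⟩ | rfl | rfl)
    · exact S.op_mem _
    · exact S.mul_mem_alg (S.mul_mem_alg (hEalg _) (S.op_mem _)) (hEalg _)
    · exact S.mul_mem_alg (S.mul_mem_alg (hEalg _) (S.op_mem _)) (hEalg _)
  · intro U hU hne'
    obtain ⟨z, hzU, hz, hl⟩ := F.exists_lfix h2 U hU hne'
    obtain ⟨z1, hz1U, hz1, hl1, hz1A⟩ : ∃ z1 ∈ U, z1 ≠ 0 ∧ F.LFix z1 ∧ A1 z1 = z1 := by
      by_cases h0 : z + A1 z = 0
      · refine ⟨B1 z, hU _ _ hzU, S.op_ne hz, F.algH_lfix (hmem _) hl, ?_⟩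
        rw [hA1, hB1, M.a1b1, ← hA1, eq_neg_of_add_eq_zero_right h0, map_neg, neg_neg]
      · refine ⟨z + A1 z, add_mem hzU (hU _ _ hzU), h0, fun i => ?_, ?_⟩
        · rw [map_add, hl i, F.algH_lfix (hmem _) hl i]
        · rw [hA1, map_add, M.sqA1, add_comm]
    obtain ⟨v, hvU, hv, hlv, hv1, hv2⟩ : ∃ v ∈ U, v ≠ 0 ∧ F.LFix v ∧ A1 v = v ∧ A2 v = v := by
      by_cases h0 : z1 + A2 z1 = 0
      · refine ⟨B2 z1, hU _ _ hz1U, S.op_ne hz1, F.algH_lfix (hmem _) hl1, ?_, ?_⟩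
        · rw [hA1, hB2, M.a1b2, ← hA1, hz1A]
        · rw [hA2, hB2, M.a2b2, ← hA2, eq_neg_of_add_eq_zero_right h0, map_neg, neg_neg]
      · refine ⟨z1 + A2 z1, add_mem hz1U (hU _ _ hz1U), h0, fun i => ?_, ?_, ?_⟩
        · rw [map_add, hl1 i, F.algH_lfix (hmem _) hl1 i]
        · rw [hA1, map_add, hA2, ← M.aa, ← hA1, ← hA2, hz1A]
        · rw [hA2, map_add, M.sqA2, add_comm]
    refine ⟨f v, ?_, fun h => hv (by rw [← (hffi v).2, h, map_zero]), ?_⟩
    · simp only [f, hEz]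
      exact add_mem (add_mem (add_mem (U.smul_mem _ hvU) (U.smul_mem _ (hU _ _ hvU)))
        (U.smul_mem _ (hU _ _ hvU))) (U.smul_mem _ (hU _ _ (hU _ _ hvU)))
    · rintro e (⟨i, rfl⟩ | rfl | rfl)
      · exact F.algH_lfix (hE _) hlv i
      · show f (A1 (fi (f v))) = f v
        rw [(hffi v).2, hv1]
      · show f (A2 (fi (f v))) = f v
        rw [(hffi v).2, hv2]
  intro x hx hfix
  have hl : F.LFix x := fun i => hfix _ (Or.inl ⟨i, rfl⟩)
  set v := fi x with hv'
  have hxv : f v = x := (hffi x).1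
  have hv : v ≠ 0 := fun h => hx (by rw [← hxv, h, map_zero])
  have hv1 : A1 v = v := by
    have := congrArg fi (hfix _ (Or.inr (Or.inl rfl)))
    simp only [Module.End.mul_apply, (hffi _).2] at this
    exact this
  have hv2 : A2 v = v := by
    have := congrArg fi (hfix _ (Or.inr (Or.inr rfl)))
    simp only [Module.End.mul_apply, (hffi _).2] at this
    exact this
  set Φ := F.model ψ v with hΦ
  have hinj : Function.Injective Φ := model_inj ψ M h4 hv hv1 hv2
  have hop : ∀ h, ∃ c : K, c ≠ 0 ∧ ∀ w, S.op (F.H h) (Φ w) = c • Φ (mM h w) := model_op ψ M hv1 hv2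
  have hx0 : Φ x0 = x := by rw [← hxv]; rfl
  have hEΦ : ∀ u, E u x = Φ (cX u) := by
    have e1 : Φ (mM ((1, 0), 0) x0) = B1 x := by
      rw [← hx0]; simp only [hΦ, model, mM, mA, mB, sg5, hB1, map_add, map_smul, M.sqB1,
        Prod.fst_zero, Prod.snd_zero, ↓reduceIte, one_ne_zero, one_mul]
      module
    have e2 : ∀ w, Φ (mM ((0, 1), 0) w) = B2 (Φ w) := fun w => by
      simp only [hΦ, model, mM, mA, mB, sg5, hB2, map_add, map_smul, M.sqB2, M.bb,
        Prod.fst_zero, Prod.snd_zero, ↓reduceIte, one_ne_zero, one_mul]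
      module
    have e1' : ∀ w, Φ (mM ((1, 0), 0) w) = B1 (Φ w) := fun w => by
      simp only [hΦ, model, mM, mA, mB, sg5, hB1, map_add, map_smul, M.sqB1,
        Prod.fst_zero, Prod.snd_zero, ↓reduceIte, one_ne_zero, one_mul]
      module
    intro u
    rw [cX, hΦ, model_cmb, ← hΦ, hx0, e1, e2, hx0, e1', e2, hx0, hEz]
  have hspan : ∀ e ∈ F.algH, ∀ w, ∃ w', e (Φ w) = Φ w' := by
    intro e he
    induction he using Submodule.span_induction with
    | mem y hy =>
      obtain ⟨h, rfl⟩ := hy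
      obtain ⟨c, -, e⟩ := hop h
      obtain ⟨k, rfl⟩ := hψ c
      exact fun w => ⟨k • mM h w, by rw [e, hΦ, model_smul]⟩
    | zero => exact fun w => ⟨0, by rw [LinearMap.zero_apply, hΦ, model_zero]⟩
    | add a b _ _ ha hb =>
      intro w
      obtain ⟨p, hp⟩ := ha w
      obtain ⟨q, hq⟩ := hb w
      exact ⟨p + q, by rw [LinearMap.add_apply, hp, hq, hΦ, model_add]⟩
    | smul a b _ hb =>
      intro w
      obtain ⟨q, hq⟩ := hb w
      obtain ⟨k, rfl⟩ := hψ a
      exact ⟨k • q, by rw [LinearMap.smul_apply, hq, hΦ, model_smul]⟩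
  have hgen : ∀ (h : Q4) (c : K), S.op (F.H h) x = c • x → h = 0 := by
    intro h c hc
    obtain ⟨d, hd, ed⟩ := hop h
    obtain ⟨k, hk⟩ := hψ (d⁻¹ * c)
    refine x0_generic h k (hinj ?_)
    rw [hΦ, model_smul, ← hΦ, hk, hx0, mul_smul, ← hc, ← hx0, ed, inv_smul_smul₀ hd]
  let Pv : Module.End K V := (4 : K)⁻¹ • ((1 + A1) * (1 + A2))
  have hPv : ∀ w, Pv (Φ w) = ψ w.1 • v := by
    intro w
    simp only [Pv, hΦ, model, LinearMap.smul_apply, Module.End.mul_apply, LinearMap.add_apply,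
      Module.End.one_apply, map_add, map_smul, map_neg, hA1, hA2, M.a1b1, M.a1b2, M.a2b1, M.a2b2]
    rw [hA1] at hv1
    rw [hA2] at hv2
    simp only [hv1, hv2, map_neg, map_add, map_smul, M.a1b1, M.a1b2, smul_neg]
    match_scalars <;> field_simp <;> ring
  refine F.solve h2 hx hl hgen (f * Pv * fi)
    (S.mul_mem_alg (S.mul_mem_alg (hEalg _) (Submodule.smul_mem _ _ (S.mul_mem_alg
      (add_mem S.one_mem_alg (S.op_mem _)) (add_mem S.one_mem_alg (S.op_mem _))))) (hEalg _))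
    ?_ ?_ (E (4, 0, 4, 2)) (hE _) (fun a => E (colour (idx a).1)) (fun a => hE _) ?_ ?_ ?_
  · show f (Pv (fi x)) = x
    rw [← hv']
    have : Φ (1, 0, 0, 0) = v := by simp [hΦ, model]
    rw [← this, hPv, map_one, one_smul, hxv]
  · intro h
    obtain ⟨c, -, e⟩ := hop h
    obtain ⟨w, hw⟩ := hspan fi (hE _) (mM h x0)
    refine ⟨c * ψ w.1, ?_⟩
    show f (Pv (fi (S.op (F.H h) x))) = _
    rw [← hx0, e, map_smul, hw, map_smul, hPv, map_smul, map_smul, hxv, hx0, smul_smul]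
  · rw [idx_zero]
    refine LinearMap.ext fun z => ?_
    rw [hEz]
    simp [colour]
  · intro g hg s hs
    have hlin : ∀ (c : K) (z : V), g • (c • z) = c • (g • z) := fun c z => by
      rw [S.semi, hσ, RingEquiv.refl_apply]
    have hw0 : E (4, 0, 4, 2) x = Φ w0 := by rw [hEΦ, cX_w0]
    rw [hw0] at hs
    have hiter : ∀ k : ℕ, g ^ k • Φ w0 = Φ w0 + ((k : K) * s) • x := by
      intro k
      induction k with
      | zero => simp
      | succ k ih =>
        rw [pow_succ', mul_smul, ih, smul_add, hlin, hg, eq_add_of_sub_eq hs, Nat.cast_succ, add_mul,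
          one_mul, add_smul]
        abel
    have hN := hiter (Nat.card A)
    rw [pow_card_eq_one', one_smul, left_eq_add] at hN
    have hs0 : s = 0 := (mul_eq_zero.1 ((smul_eq_zero.1 hN).resolve_right hx)).resolve_left hA
    rw [hs0, zero_smul, sub_eq_zero] at hs
    refine ⟨hs0, fun _ => ?_⟩
    have hΦlfix : ∀ w, F.LFix (Φ w) := by
      intro w
      obtain ⟨u, hu⟩ := cX_surj w
      rw [← hu, ← hEΦ]
      exact F.algH_lfix (hE _) hl
    have himage : ∀ h : Q4, ∃ (h' : Q4) (k : ZMod 5), k ≠ 0 ∧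
        ∀ w w', g • Φ w = Φ w' → g • Φ (mM h w) = Φ (k • mM h' w') := by
      intro h
      obtain ⟨κ, hκ, eκ⟩ := S.conj g (F.H h)
      have hT := F.ccoord hx hg hl hgen (w := F.H h)
        (by rw [show F.ι.symm (F.H h) = ((0, 0), h) from F.ι.symm_apply_apply _])
      obtain ⟨d, hd, ed⟩ := S.op_mul (F.H (F.ι.symm (g • F.H h)).2) (F.L (F.ι.symm (g • F.H h)).1.2)
      obtain ⟨l, hl', el⟩ := F.op_L (F.ι.symm (g • F.H h)).1.2
      obtain ⟨c, hc, ec⟩ := hop h
      obtain ⟨c', hc', ec'⟩ := hop (F.ι.symm (g • F.H h)).2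
      obtain ⟨k, hk⟩ := hψ (c⁻¹ * κ * d⁻¹ * l * c')
      refine ⟨(F.ι.symm (g • F.H h)).2, k, fun h0 => ?_, fun w w' e => ?_⟩
      · rw [h0, map_zero] at hk
        exact mul_ne_zero (mul_ne_zero (mul_ne_zero (mul_ne_zero (inv_ne_zero hc) (S.root_ne hκ))
          (inv_ne_zero (S.root_ne hd))) (S.root_ne hl')) hc' hk.symm
      · have h1 := eκ (Φ w)
        rw [ec, hlin, e] at h1
        have h2' := ed (Φ w')
        rw [el _ (hΦlfix w'), map_smul, ec', add_comm (F.H _), ← F.iota_L_H _ hT] at h2'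
        rw [← inv_smul_smul₀ hc (g • Φ (mM h w)), h1,
          ← inv_smul_smul₀ (S.root_ne hd) (S.op (g • F.H h) (Φ w')), ← h2']
        simp only [hΦ, model_smul, hk, smul_smul]
        congr 1
        ring
    obtain ⟨h1, k1, hk1, i1⟩ := himage ((1, 0), 0)
    obtain ⟨h2', k2, hk2, i2⟩ := himage ((0, 1), 0)
    obtain ⟨h3, k3, hk3, i3⟩ := himage (0, (1, 0))
    obtain ⟨h4', k4, hk4, i4⟩ := himage (0, (0, 1))
    have gx : g • Φ x0 = Φ x0 := by rw [hx0, hg]
    have j2 := i2 x0 x0 gx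
    have hmap : ∀ u, g • Φ (cX u) =
        Φ (cmb u x0 (k1 • mM h1 x0) (k2 • mM h2' x0) (k1 • mM h1 (k2 • mM h2' x0))) := by
      intro u
      simp only [cX, hΦ, model_cmb, smul_add, hlin]
      rw [← hΦ, gx, i1 x0 x0 gx, j2, i1 _ _ j2]
    have eβ := hinj ((hmap (4, 0, 4, 2)).symm.trans (by rw [cX_w0]; exact hs))
    have m3 := hinj ((hmap (3, 4, 2, 4)).symm.trans (by rw [cX_a1]; exact i3 x0 x0 gx))
    have m4 := hinj ((hmap (3, 2, 4, 4)).symm.trans (by rw [cX_a2]; exact i4 x0 x0 gx))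
    obtain ⟨r1, r2, r3⟩ := pair_rigid h1 h2' k1 k2 hk1 hk2 eβ ⟨h3, k3, hk3, m3⟩ ⟨h4', k4, hk4, m4⟩
    have hall : ∀ w, g • Φ w = Φ w := by
      intro w
      obtain ⟨u, rfl⟩ := cX_surj w
      rw [hmap, r3, r1, r2]
      rfl
    intro h
    obtain ⟨c, -, e⟩ := hop h
    rw [← hx0, e, hlin, hall]
  · intro g hg d h hd hd0 _ hrel
    have key : ∀ a, a ≠ 0 → F.proj g a = a ∧ h a = 0 ∧ d a = 1 := by
      intro a ha
      have hr := hrel a
      obtain ⟨c, hc, ec⟩ := hop (h a)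
      rw [hEΦ, hEΦ, ec, smul_smul] at hr
      obtain ⟨k, hk⟩ := hψ (d a * c)
      rw [← hk, hΦ, ← model_smul, ← hΦ] at hr
      have hk0 : k ≠ 0 := fun h0 => mul_ne_zero (S.root_ne (hd a)) hc (by rw [← hk, h0, map_zero])
      have hi : idx a ≠ 0 := fun e => ha (idx_inj hm (e.trans idx_zero.symm))
      obtain ⟨e1, e2, e3⟩ := colour_rigid _ _ _ k hi hk0 (hinj hr)
      refine ⟨idx_inj hm e1, e2, ?_⟩
      have hc1 : c = 1 := by
        have := ec x0
        rw [e2, map_zero, S.op_zero, mM_zero, Module.End.one_apply] at this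
        exact (PS.smul_inj (by rw [hx0]; exact hx) (this.symm.trans (one_smul K _).symm))
      rw [hc1, mul_one, e3, map_one] at hk
      exact hk.symm
    refine ⟨fun a => ?_, fun a => ?_, fun a => ?_⟩ <;> rcases eq_or_ne a 0 with rfl | ha
    · exact map_zero _
    · exact (key a ha).1
    · exact map_zero _
    · exact (key a ha).2.1
    · exact hd0
    · exact (key a ha).2.2

end Cfsg.Agent.BaseTwo.Frame
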