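import Cfsg.Agent.BaseTwo.Basis
import Cfsg.Agent.BaseTwo.PauliType

/-!
The frames with a quaternion rest and with two pairs in the middle.
-/

set_option autoImplicit false
set_option maxHeartbeats 1000000

namespace Cfsg.Agent.BaseTwo

variable {n : ℕ} {K V A Ω : Type*} [Field K] [AddCommGroup V] [Module K V] [Group A]
  [DistribMulAction A V] [AddCommGroup Ω] [DistribMulAction A Ω] [Nontrivial V]

local instance : Fact (Nat.Prime 2) := ⟨Nat.prime_two⟩

theorem two_root {ω : K} (hω : ω ^ 2 = 1) (hω1 : ω ≠ 1) : ω = -1 :=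
  (sq_eq_one_iff.1 hω).resolve_left hω1

/-- A frame with a quaternion rest. -/
def IsQuatRest {S : PS 2 n K V A Ω} {m : ℕ} (F : Frame S m (ZMod 2 × ZMod 2)) : Prop :=
  (∀ z, S.op (F.H (1, 0)) (S.op (F.H (1, 0)) z) = -z) ∧
    (∀ z, S.op (F.H (0, 1)) (S.op (F.H (0, 1)) z) = -z) ∧
    ∀ z, S.op (F.H (0, 1)) (S.op (F.H (1, 0)) z) = -S.op (F.H (1, 0)) (S.op (F.H (0, 1)) z)

/-- Operators squaring to signs. -/
theorem PS.exists_frame_sign [Finite Ω] (S : PS 2 2 K V A Ω) (hK : (-1 : K) ≠ 1) (hexp : ∀ v : Ω, 2 • v = 0)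
    (hpow : ∀ v, S.op v ^ 2 = 1 ∨ S.op v ^ 2 = -1) :
    (∃ m, Nonempty (Frame S m PUnit)) ∨ ∃ (m : ℕ) (F : Frame S m (ZMod 2 × ZMod 2)), IsQuatRest F := by
  classical
  have hω : (-1 : K) ^ 2 = 1 := by ring
  have hsum : ∀ v w, S.pair v w = -1 → S.op v ^ 2 = 1 → S.op w ^ 2 = -1 → S.op (w + v) ^ 2 = 1 := by
    intro v w hp hv hw
    obtain ⟨c, hc, e⟩ := S.op_mul w v
    have e' : S.op (w + v) = c⁻¹ • (S.op w * S.op v) := LinearMap.ext fun z => by
      rw [LinearMap.smul_apply, Module.End.mul_apply, e, inv_smul_smul₀ (S.root_ne hc)]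
    have hcomm : S.op v * S.op w = -(S.op w * S.op v) := LinearMap.ext fun z => by
      show S.op v (S.op w z) = -S.op w (S.op v z)
      rw [S.op_comm, hp, neg_one_smul]
    have hc' : c⁻¹ * c⁻¹ = 1 := by rw [← pow_two, inv_pow, hc, inv_one]
    have hvw : S.op w * S.op v * (S.op w * S.op v) = 1 := by
      rw [mul_assoc, ← mul_assoc (S.op v), hcomm, neg_mul, mul_neg, mul_assoc (S.op w) (S.op v) (S.op v),
        ← mul_assoc (S.op w) (S.op w), ← pow_two, ← pow_two, hv, hw, mul_one, neg_neg]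
    rw [pow_two, e', smul_mul_smul_comm, hc', one_smul, hvw]
  obtain ⟨H⟩ := S.exists_hyp hω hK (fun v => S.op v ^ 2 = 1) (fun v w hv hvw => by
    rcases hpow w with h | h
    · exact ⟨0, by rwa [zero_smul, add_zero]⟩
    · exact ⟨1, by rw [one_smul]; exact hsum v w hvw hv h⟩) ⊤ (fun v _ h => S.nondeg v fun w => h w trivial)
  have hneg : ∀ v ∈ H.R, v ≠ 0 → S.op v ^ 2 = -1 := fun v hv hne =>
    (hpow v).resolve_left (H.aniso v hv hne)
  by_cases hR : H.R = ⊥
  · obtain ⟨F, -⟩ := PS.frame_of_hyp hω hK hexp H (0 : PUnit →+ Ω) (fun a b _ => Subsingleton.elim a b)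
      (PS.zero_range _ hR)
    exact Or.inl ⟨_, ⟨F⟩⟩
  right
  have hself : ∀ a : Ω, a + a = 0 := fun a => by rw [← two_nsmul]; exact hexp a
  have hsub : ∀ a b : Ω, a ≠ b → a + b ≠ 0 := fun a b hab e =>
    hab (by rw [← add_zero a, ← hself b, ← add_assoc, e, zero_add])
  -- two distinct nonzero vectors of the rest anticommute
  have hanti : ∀ a ∈ H.R, ∀ b ∈ H.R, a ≠ 0 → b ≠ 0 → a ≠ b → S.pair a b = -1 := by
    intro a ha b hb ha0 hb0 hab
    refine (sq_eq_one_iff.1 (S.pair_pow a b)).resolve_left fun h => H.aniso _ (add_mem ha hb) (hsub a b hab) ?_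
    obtain ⟨c, hc, e⟩ := S.op_mul a b
    have e' : S.op (a + b) = c⁻¹ • (S.op a * S.op b) := LinearMap.ext fun z => by
      rw [LinearMap.smul_apply, Module.End.mul_apply, e, inv_smul_smul₀ (S.root_ne hc)]
    have hcomm : S.op b * S.op a = S.op a * S.op b := LinearMap.ext fun z => by
      show S.op b (S.op a z) = S.op a (S.op b z)
      rw [S.op_comm, S.pair_comm_one h, one_smul]
    have hc' : c⁻¹ * c⁻¹ = 1 := by rw [← pow_two, inv_pow, hc, inv_one]
    have hvw : S.op a * S.op b * (S.op a * S.op b) = 1 := by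
      rw [mul_assoc, ← mul_assoc (S.op b), hcomm, mul_assoc (S.op a) (S.op b) (S.op b),
        ← mul_assoc (S.op a) (S.op a), ← pow_two, ← pow_two, hneg a ha ha0, hneg b hb hb0, neg_mul_neg, one_mul]
    show S.op (a + b) ^ 2 = 1
    rw [pow_two, e', smul_mul_smul_comm, hc', one_smul, hvw]
  obtain ⟨a, ha, ha0⟩ : ∃ a ∈ H.R, a ≠ 0 := by
    by_contra h
    push_neg at h
    exact hR ((AddSubgroup.eq_bot_iff_forall _).2 h)
  obtain ⟨b, hb, hb0, hab⟩ : ∃ b ∈ H.R, b ≠ 0 ∧ a ≠ b := by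
    by_contra h
    push_neg at h
    apply ha0
    refine S.nondeg a fun w => ?_
    obtain ⟨p, q, x, hx, rfl⟩ := H.decomp w trivial
    have h1 : ∀ i, S.pair a (H.t i) = 1 := fun i => S.pair_comm_one (H.tR i a ha)
    have h2 : ∀ i, S.pair a (H.l i) = 1 := fun i => S.pair_comm_one (H.lR i a ha)
    have h3 : S.pair a x = 1 := by
      rcases eq_or_ne x 0 with rfl | hx0
      · exact S.pair_zero_right a
      · rw [← h x hx hx0]; exact S.pair_self a
    simp only [S.pair_add_right two_ne_zero, S.pair_sum_right, S.pair_nsmul_right, h1, h2, h3, one_pow,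
      Finset.prod_const_one, mul_one]
  let f : (Fin 2 → ZMod 2) →+ Ω := PS.lin (r := 2) hexp ![a, b]
  let q : ZMod 2 × ZMod 2 →+ Ω := AddMonoidHom.mk' (fun h => f ![h.1, h.2]) fun h h' => by
    rw [← map_add]; congr 1; funext i; fin_cases i <;> rfl
  have hq : ∀ h, q h = h.1.val • a + h.2.val • b := fun h => by
    show (∑ i : Fin 2, (![h.1, h.2] i).val • (![a, b] : Fin 2 → Ω) i) = _
    rw [Fin.sum_univ_two]; rfl
  have pairs : ∀ h : ZMod 2 × ZMod 2, h = 0 ∨ h = (1, 0) ∨ h = (0, 1) ∨ h = (1, 1) := by decide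
  have q10 : q (1, 0) = a := by rw [hq]; simp [ZMod.val_one]
  have q01 : q (0, 1) = b := by rw [hq]; simp [ZMod.val_one]
  have q11 : q (1, 1) = a + b := by rw [hq]; simp [ZMod.val_one]
  have hqi : Function.Injective q := by
    refine (injective_iff_map_eq_zero q).2 fun h e => ?_
    rcases pairs h with rfl | rfl | rfl | rfl
    · rfl
    · exact absurd (q10 ▸ e) ha0
    · exact absurd (q01 ▸ e) hb0
    · exact absurd (q11 ▸ e) (hsub a b hab)
  have hqR : ∀ v, v ∈ H.R ↔ v ∈ Set.range q := by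
    intro v
    refine ⟨fun hv => ?_, ?_⟩
    · by_contra hno
      have hne : ∀ h, q h ≠ v := fun h e => hno ⟨h, e⟩
      have hv0 : v ≠ 0 := fun e => hne 0 (by rw [map_zero, e])
      have hva : a ≠ v := fun e => hne (1, 0) (q10.trans e)
      have hvb : b ≠ v := fun e => hne (0, 1) (q01.trans e)
      have h1 := hanti a ha v hv ha0 hv0 hva
      have h2 := hanti a ha b hb ha0 hb0 hab
      have h3 : S.pair a (v + b) = 1 := by rw [S.pair_add_right two_ne_zero, h1, h2]; ring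
      have h5 : a ≠ v + b := fun e => hne (1, 1) (by rw [q11, e, add_assoc, hself, add_zero])
      rw [hanti a ha _ (add_mem hv hb) ha0 (hsub v b (Ne.symm hvb)) h5] at h3
      exact hK h3
    · rintro ⟨h, rfl⟩
      rw [hq]
      exact add_mem (nsmul_mem ha _) (nsmul_mem hb _)
  obtain ⟨F, hF⟩ := PS.frame_of_hyp hω hK hexp H q hqi hqR
  refine ⟨_, F, ?_, ?_, ?_⟩
  · intro z; rw [hF, q10, ← Module.End.mul_apply, ← pow_two, hneg a ha ha0]; rfl
  · intro z; rw [hF, q01, ← Module.End.mul_apply, ← pow_two, hneg b hb hb0]; rfl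
  · intro z
    rw [hF, hF, q10, q01, S.op_comm, hanti b hb a ha hb0 ha0 (Ne.symm hab), neg_one_smul]

/-- Moving the first two pairs to the middle. -/
def midEquiv (m : ℕ) : ((Fin m → ZMod 2) × (Fin m → ZMod 2)) × Pauli.Q4 ≃+
    ((Fin (m + 2) → ZMod 2) × (Fin (m + 2) → ZMod 2)) × PUnit where
  toFun p := ((Fin.cons p.2.1.1 (Fin.cons p.2.1.2 p.1.1), Fin.cons p.2.2.1 (Fin.cons p.2.2.2 p.1.2)), PUnit.unit)
  invFun q := ((fun i => q.1.1 i.succ.succ, fun i => q.1.2 i.succ.succ), ((q.1.1 0, q.1.1 1), (q.1.2 0, q.1.2 1)))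
  left_inv p := by
    obtain ⟨⟨a, b⟩, ⟨b1, b2⟩, a1, a2⟩ := p
    rfl
  right_inv q := by
    obtain ⟨⟨a, b⟩, u⟩ := q
    refine Prod.ext (Prod.ext ?_ ?_) (Subsingleton.elim _ _) <;>
      · funext i
        induction i using Fin.cases with
        | zero => rfl
        | succ j => induction j using Fin.cases <;> rfl
  map_add' p q := by
    refine Prod.ext (Prod.ext ?_ ?_) (Subsingleton.elim _ _) <;>
      · funext i
        induction i using Fin.cases with
        | zero => rfl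
        | succ j => induction j using Fin.cases <;> rfl

theorem cons_single_succ {m : ℕ} (i : Fin m) :
    (Fin.cons 0 (Fin.cons 0 (Pi.single i 1)) : Fin (m + 2) → ZMod 2) = Pi.single i.succ.succ 1 := by
  funext j
  induction j using Fin.cases with
  | zero => simp [Ne.symm (Fin.succ_ne_zero _)]
  | succ j =>
    induction j using Fin.cases with
    | zero =>
      rw [Fin.cons_succ, Fin.cons_zero, Pi.single_eq_of_ne]
      exact fun e => Fin.succ_ne_zero _ (Fin.succ_injective _ e).symm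
    | succ j => simp [Pi.single_apply]

theorem cons_zero_all {m : ℕ} : (Fin.cons 0 (Fin.cons 0 0) : Fin (m + 2) → ZMod 2) = 0 := by
  funext j
  induction j using Fin.cases with
  | zero => rfl
  | succ j => induction j using Fin.cases <;> rfl

theorem cons_first {m : ℕ} : (Fin.cons 1 (Fin.cons 0 0) : Fin (m + 2) → ZMod 2) = Pi.single 0 1 := by
  funext j
  induction j using Fin.cases with
  | zero => simp
  | succ j => induction j using Fin.cases <;> simp [Fin.succ_ne_zero]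

theorem cons_second {m : ℕ} :
    (Fin.cons 0 (Fin.cons 1 0) : Fin (m + 2) → ZMod 2) = Pi.single (Fin.succ 0) 1 := by
  funext j
  induction j using Fin.cases with
  | zero => simp [Ne.symm (Fin.succ_ne_zero _)]
  | succ j =>
    induction j using Fin.cases with
    | zero => simp
    | succ j =>
      rw [Fin.cons_succ, Fin.cons_succ, Pi.zero_apply, Pi.single_eq_of_ne]
      exact fun e => Fin.succ_ne_zero _ (Fin.succ_injective _ e)

/-- A split frame gives a frame with two pairs in the middle. -/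
theorem Frame.exists_mid {m : ℕ} {S : PS 2 4 K V A Ω} (F : Frame S (m + 2) PUnit) :
    ∃ F' : Frame S m Pauli.Q4, F'.MidPairs := by
  let ι : ((Fin m → ZMod 2) × (Fin m → ZMod 2)) × Pauli.Q4 ≃+ Ω := (midEquiv m).trans F.ι
  have hr : (2 : ℕ) ≠ 0 := two_ne_zero
  have hι : ∀ p, ι p = F.ι (midEquiv m p) := fun p => rfl
  have eT : ∀ i, ι ((Pi.single i 1, 0), 0) = F.T (Pi.single i.succ.succ 1) := fun i => by
    rw [hι, ← cons_single_succ]
    exact congrArg F.ι (Prod.ext (Prod.ext rfl cons_zero_all) rfl)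
  have eL : ∀ i, ι ((0, Pi.single i 1), 0) = F.L (Pi.single i.succ.succ 1) := fun i => by
    rw [hι, ← cons_single_succ]
    exact congrArg F.ι (Prod.ext (Prod.ext cons_zero_all rfl) rfl)
  have eB1 : ι ((0, 0), ((1, 0), 0)) = F.T (Pi.single 0 1) := by
    rw [hι, ← cons_first]; exact congrArg F.ι (Prod.ext (Prod.ext rfl cons_zero_all) rfl)
  have eB2 : ι ((0, 0), ((0, 1), 0)) = F.T (Pi.single (Fin.succ 0) 1) := by
    rw [hι, ← cons_second]; exact congrArg F.ι (Prod.ext (Prod.ext rfl cons_zero_all) rfl)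
  have eA1 : ι ((0, 0), (0, (1, 0))) = F.L (Pi.single 0 1) := by
    rw [hι, ← cons_first]; exact congrArg F.ι (Prod.ext (Prod.ext cons_zero_all rfl) rfl)
  have eA2 : ι ((0, 0), (0, (0, 1))) = F.L (Pi.single (Fin.succ 0) 1) := by
    rw [hι, ← cons_second]; exact congrArg F.ι (Prod.ext (Prod.ext cons_zero_all rfl) rfl)
  have ll : ∀ i j, S.pair (F.L (Pi.single i 1)) (F.L (Pi.single j 1)) = 1 := F.pair_ll
  have tt : ∀ i j, S.pair (F.T (Pi.single i 1)) (F.T (Pi.single j 1)) = 1 := F.pair_tt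
  have lt : ∀ i j, S.pair (F.L (Pi.single i 1)) (F.T (Pi.single j 1)) = if i = j then F.ω else 1 := F.pair_lt
  have hω : F.ω = -1 := two_root F.ω_pow F.ω_ne
  have mid : ∀ h : Pauli.Q4, ∀ v, S.pair v (ι ((0, 0), ((1, 0), 0))) = 1 → S.pair v (ι ((0, 0), ((0, 1), 0))) = 1 →
      S.pair v (ι ((0, 0), (0, (1, 0)))) = 1 → S.pair v (ι ((0, 0), (0, (0, 1)))) = 1 →
      S.pair v (ι ((0, 0), h)) = 1 := by
    intro h v h1 h2 h3 h4
    have hd : h = h.1.1.val • ((1, 0), 0) + h.1.2.val • ((0, 1), 0) + h.2.1.val • (0, (1, 0)) + h.2.2.val • (0, (0, 1)) := by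
      revert h; decide
    let q : Pauli.Q4 →+ Ω := ι.toAddMonoidHom.comp (AddMonoidHom.inr _ _)
    show S.pair v (q h) = 1
    rw [hd, map_add, map_add, map_add, map_nsmul, map_nsmul, map_nsmul, map_nsmul]
    simp only [S.pair_add_right hr, S.pair_nsmul_right]
    show S.pair v (ι ((0, 0), ((1, 0), 0))) ^ _ * S.pair v (ι ((0, 0), ((0, 1), 0))) ^ _ *
      S.pair v (ι ((0, 0), (0, (1, 0)))) ^ _ * S.pair v (ι ((0, 0), (0, (0, 1)))) ^ _ = 1
    rw [h1, h2, h3, h4]; simp
  let F' : Frame S m Pauli.Q4 :=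
    { ι := ι
      ω := F.ω
      ω_pow := F.ω_pow
      ω_ne := F.ω_ne
      pair_lt := fun i j => by rw [eL, eT, lt]; simp [Fin.succ_inj]
      pair_ll := fun i j => by rw [eL, eL, ll]
      pair_tt := fun i j => by rw [eT, eT, tt]
      pair_lq := fun i h => by
        refine mid h _ ?_ ?_ ?_ ?_
        · rw [eL, eB1, lt, if_neg (Fin.succ_ne_zero _)]
        · rw [eL, eB2, lt, if_neg (fun e => Fin.succ_ne_zero _ (Fin.succ_injective _ e))]
        · rw [eL, eA1, ll]
        · rw [eL, eA2, ll]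
      pair_tq := fun i h => by
        refine mid h _ ?_ ?_ ?_ ?_
        · rw [eT, eB1, tt]
        · rw [eT, eB2, tt]
        · rw [eT, eA1, S.pair_comm_one]; rw [lt, if_neg (Ne.symm (Fin.succ_ne_zero _))]
        · rw [eT, eA2, S.pair_comm_one]; rw [lt, if_neg (fun e => Fin.succ_ne_zero _ (Fin.succ_injective _ e).symm)]
      t_pow := fun i => by rw [eT]; exact F.t_pow _
      l_pow := fun i => by rw [eL]; exact F.l_pow _ }
  have hH : ∀ h, F'.H h = ι ((0, 0), h) := fun h => rfl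
  have sq : ∀ (v : Ω) (z : V), S.op v ^ 2 = 1 → S.op v (S.op v z) = z := fun v z e => by
    rw [← Module.End.mul_apply, ← pow_two, e]; rfl
  refine ⟨F', ?_, ?_, ?_, ?_, ?_, ?_, ?_, ?_, ?_, ?_⟩ <;> intro z <;>
    simp only [hH, eA1, eA2, eB1, eB2]
  · exact sq _ z (F.t_pow _)
  · exact sq _ z (F.t_pow _)
  · exact sq _ z (F.l_pow _)
  · exact sq _ z (F.l_pow _)
  · rw [S.op_comm, tt, one_smul]
  · rw [S.op_comm, ll, one_smul]
  · rw [S.op_comm, lt, if_pos rfl, hω, neg_one_smul]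
  · rw [S.op_comm, lt, if_neg (Ne.symm (Fin.succ_ne_zero _)), one_smul]
  · rw [S.op_comm, lt, if_neg (Fin.succ_ne_zero _), one_smul]
  · rw [S.op_comm, lt, if_pos rfl, hω, neg_one_smul]

end Cfsg.Agent.BaseTwo
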