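import Cfsg.Agent.BaseTwo.Frame

/-!
The local solution: a vector in the span of one symplectic system which is moved by everything
that does not centralise the system.
-/

set_option autoImplicit false
set_option maxHeartbeats 1000000

namespace Cfsg.Agent.BaseTwo

variable {r n m : ℕ} [Fact r.Prime] {K V A Ω Q : Type*} [Field K] [AddCommGroup V] [Module K V] [Group A]
  [DistribMulAction A V] [AddCommGroup Ω] [DistribMulAction A Ω] [AddCommGroup Q]

/-- The group element centralises the system. -/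
def PS.Centralises (S : PS r n K V A Ω) (g : A) : Prop := ∀ (v : Ω) (z : V), g • S.op v z = S.op v (g • z)

/-- A local solution at the vector `x`. -/
def PS.SolvedAt (S : PS r n K V A Ω) (x : V) : Prop :=
  ∃ P ∈ S.alg, ∃ f ∈ S.alg, P x = x ∧ (∀ v, ∃ k : K, P (S.op v x) = k • x) ∧
    ∀ g : A, g • x = x → ∀ s : K, g • f x - f x = s • x →
      s = 0 ∧ (S.σ g = RingEquiv.refl K → S.Centralises g)

/-- The local problem has a solution. -/
def PS.Solvable (S : PS r n K V A Ω) : Prop :=
  ∃ Es : Set (Module.End K V), Es ⊆ S.alg ∧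
    (∀ U : Submodule K V, (∀ v, ∀ u ∈ U, S.op v u ∈ U) → U ≠ ⊥ →
      ∃ x ∈ U, x ≠ 0 ∧ ∀ e ∈ Es, e x = x) ∧
    ∀ x : V, x ≠ 0 → (∀ e ∈ Es, e x = x) → S.SolvedAt x

namespace Frame

variable [Nontrivial V] {S : PS r n K V A Ω} (F : Frame S m Q)

/-- The span of the middle operators. -/
def algH : Submodule K (Module.End K V) := Submodule.span K (Set.range fun h : Q => S.op (F.H h))

theorem algH_le : F.algH ≤ S.alg :=
  Submodule.span_mono (by rintro _ ⟨h, rfl⟩; exact ⟨_, rfl⟩)

theorem one_mem_algH : (1 : Module.End K V) ∈ F.algH := by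
  rw [← S.op_zero, ← map_zero F.H]
  exact Submodule.subset_span ⟨0, rfl⟩

theorem algH_lfix {e : Module.End K V} (he : e ∈ F.algH) {z : V} (hz : F.LFix z) : F.LFix (e z) := by
  intro i
  induction he using Submodule.span_induction with
  | mem x hx => obtain ⟨h, rfl⟩ := hx; exact F.lfix_H hz h i
  | zero => simp
  | add a b _ _ ha hb => simp only [LinearMap.add_apply, map_add]; rw [ha, hb]
  | smul a b _ hb => simp only [LinearMap.smul_apply, map_smul]; rw [hb]

theorem tauT_mem (a : Fin m → ZMod r) : F.tauT a ∈ S.alg := by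
  obtain ⟨c, -, e⟩ := F.tauT_scalar a
  rw [e]
  exact Submodule.smul_mem _ _ (S.op_mem _)

/-- The mean of the powers of the operator of a single. -/
noncomputable def avg (i : Fin m) : Module.End K V :=
  (r : K)⁻¹ • ∑ k ∈ Finset.range r, S.op (F.L (Pi.single i 1)) ^ k

/-- Projection to the vectors fixed by the isotropic part. -/
noncomputable def projL : List (Fin m) → Module.End K V
  | [] => 1
  | i :: l => F.avg i * projL l

theorem projL_mem : ∀ l, F.projL l ∈ S.alg
  | [] => S.one_mem_alg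
  | i :: l => S.mul_mem_alg (Submodule.smul_mem _ _ (Submodule.sum_mem _ fun k _ => S.pow_mem_alg (S.op_mem _) k))
      (projL_mem l)

theorem avg_eigen (hrK : (r : K) ≠ 0) (i : Fin m) {z : V} {c : ZMod r}
    (hz : S.op (F.L (Pi.single i 1)) z = F.chi c • z) :
    F.avg i z = if c = 0 then z else 0 := by
  have hp : ∀ k : ℕ, (S.op (F.L (Pi.single i 1)) ^ k) z = F.chi c ^ k • z := by
    intro k
    induction k with
    | zero => simp
    | succ k ih => rw [pow_succ', Module.End.mul_apply, ih, map_smul, hz, smul_smul, pow_succ]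
  simp only [avg, LinearMap.smul_apply, LinearMap.sum_apply, hp, ← Finset.sum_smul]
  split_ifs with hc
  · subst hc
    simp [chi, smul_smul, hrK]
  · have h1 : F.chi c ≠ 1 := fun e => hc (F.chi_eq_one e)
    have h2 : (∑ k ∈ Finset.range r, F.chi c ^ k) = 0 := by
      rw [geom_sum_eq h1, show F.chi c ^ r = 1 by rw [chi, ← pow_mul, mul_comm, pow_mul, F.ω_pow, one_pow],
        sub_self, zero_div]
    rw [h2, zero_smul, smul_zero]

theorem projL_eigen (hrK : (r : K) ≠ 0) {z : V} {a : Fin m → ZMod r}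
    (hz : ∀ i, S.op (F.L (Pi.single i 1)) z = F.chi (a i) • z) :
    ∀ l : List (Fin m), F.projL l z = if ∀ i ∈ l, a i = 0 then z else 0
  | [] => by simp [projL]
  | i :: l => by
    rw [projL, Module.End.mul_apply, projL_eigen hrK hz l]
    by_cases h : ∀ j ∈ l, a j = 0
    · rw [if_pos h, F.avg_eigen hrK i (hz i)]
      by_cases hi : a i = 0
      · rw [if_pos hi, if_pos]; simpa [hi] using h
      · rw [if_neg hi, if_neg]; intro h'; exact hi (h' i List.mem_cons_self)
    · rw [if_neg h, map_zero, if_neg]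
      exact fun h' => h fun j hj => h' j (List.mem_cons_of_mem _ hj)

/-- The projection onto the fixed vectors. -/
noncomputable def proj0 : Module.End K V := F.projL (List.finRange m)

theorem proj0_tauT (hrK : (r : K) ≠ 0) {z : V} (hz : F.LFix z) (a : Fin m → ZMod r) :
    F.proj0 (F.tauT a z) = if a = 0 then z else 0 := by
  rw [proj0, F.projL_eigen hrK (fun i => F.l_tauT i a hz)]
  by_cases ha : a = 0
  · subst ha; simp [F.tauT_zero]
  · rw [if_neg ha, if_neg]
    exact fun h => ha (funext fun i => h i (List.mem_finRange i))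

/-- A fixed vector exists in every invariant subspace. -/
theorem exists_lfix (hrK : (r : K) ≠ 0) (U : Submodule K V) (hU : ∀ v, ∀ u ∈ U, S.op v u ∈ U)
    (hne : U ≠ ⊥) : ∃ x ∈ U, x ≠ 0 ∧ F.LFix x := by
  obtain ⟨u, hu, hu0⟩ := U.exists_mem_ne_zero_of_ne_bot hne
  suffices h : ∀ l : List (Fin m), ∃ x ∈ U, x ≠ 0 ∧ ∀ i ∈ l, S.op (F.L (Pi.single i 1)) x = x by
    obtain ⟨x, hx, hx0, h⟩ := h (List.finRange m)
    exact ⟨x, hx, hx0, fun i => h i (List.mem_finRange i)⟩
  intro l
  induction l with
  | nil => exact ⟨u, hu, hu0, by simp⟩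
  | cons i l ih =>
    obtain ⟨x, hx, hx0, hxl⟩ := ih
    let e := S.op (F.L (Pi.single i 1))
    let t := S.op (F.T (Pi.single i 1))
    have he : (e ^ r) x = x := by rw [show e ^ r = 1 from F.l_pow i]; rfl
    have hpow : ∀ k : ℕ, (e ^ k) x ∈ U ∧ ∀ j ∈ l, S.op (F.L (Pi.single j 1)) ((e ^ k) x) = (e ^ k) x := by
      intro k
      induction k with
      | zero => exact ⟨hx, hxl⟩
      | succ k ih =>
        rw [pow_succ', Module.End.mul_apply]
        refine ⟨hU _ _ ih.1, fun j hj => ?_⟩
        rw [S.op_comm, show S.pair (F.L (Pi.single j 1)) (F.L (Pi.single i 1)) = 1 from F.pair_ll j i,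
          one_smul, ih.2 j hj]
    -- an eigenvector of `e` moved to the fixed space by a power of the complement
    obtain ⟨c, y, hy, hy0, hey, hyl⟩ : ∃ (c : ZMod r) (y : V), y ∈ U ∧ y ≠ 0 ∧ e y = F.chi c • y ∧
        ∀ j ∈ l, S.op (F.L (Pi.single j 1)) y = y := by
      by_contra hno
      push_neg at hno
      have hzero : ∀ c : ZMod r, ∑ k ∈ Finset.range r, (F.chi c)⁻¹ ^ k • (e ^ k) x = 0 := by
        intro c
        by_contra hne'
        obtain ⟨j, hj, hjne⟩ := hno c (∑ k ∈ Finset.range r, (F.chi c)⁻¹ ^ k • (e ^ k) x)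
          (Submodule.sum_mem _ fun k _ => Submodule.smul_mem _ _ (hpow k).1) hne' (by
            have hc0 : F.chi c ≠ 0 := pow_ne_zero _ fun h0 => by
              have := F.ω_pow; rw [h0, zero_pow (Fact.out : r.Prime).ne_zero] at this; exact zero_ne_one this
            have hshift : ∀ k, e ((F.chi c)⁻¹ ^ k • (e ^ k) x) =
                F.chi c • ((F.chi c)⁻¹ ^ (k + 1) • (e ^ (k + 1)) x) := fun k => by
              rw [map_smul, smul_smul, pow_succ' (F.chi c)⁻¹, ← mul_assoc, mul_inv_cancel₀ hc0, one_mul,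
                pow_succ' e, Module.End.mul_apply]
            rw [map_sum, Finset.smul_sum, Finset.sum_congr rfl fun k _ => hshift k, ← Finset.smul_sum,
              ← Finset.smul_sum]
            congr 1
            have hr' : (F.chi c)⁻¹ ^ r • (e ^ r) x = x := by
              rw [he, inv_pow, show F.chi c ^ r = 1 by rw [chi, ← pow_mul, mul_comm, pow_mul, F.ω_pow, one_pow],
                inv_one, one_smul]
            have h1 := Finset.sum_range_succ' (fun k => (F.chi c)⁻¹ ^ k • (e ^ k) x) r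
            rw [Finset.sum_range_succ, hr', pow_zero, pow_zero, one_smul, Module.End.one_apply] at h1
            exact (add_right_cancel h1).symm)
        exact hjne (by
          rw [map_sum]
          exact Finset.sum_congr rfl fun k _ => by rw [map_smul, (hpow k).2 j hj])
      -- summing over all characters returns `r` times `x`
      have hsum : ∑ c : ZMod r, ∑ k ∈ Finset.range r, (F.chi c)⁻¹ ^ k • (e ^ k) x = 0 :=
        Finset.sum_eq_zero fun c _ => hzero c
      rw [Finset.sum_comm] at hsum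
      simp only [← Finset.sum_smul] at hsum
      rw [Finset.sum_eq_single 0] at hsum
      · simp only [pow_zero, Finset.sum_const, Finset.card_univ, ZMod.card, nsmul_eq_mul, mul_one,
          Module.End.one_apply] at hsum
        exact hx0 ((smul_eq_zero.1 hsum).resolve_left hrK)
      · intro k hk hk0
        have hkne : (k : ZMod r) ≠ 0 := fun h => by
          rw [ZMod.natCast_eq_zero_iff] at h
          exact hk0 (Nat.eq_zero_of_dvd_of_lt h (Finset.mem_range.1 hk))
        have hS : (∑ c : ZMod r, (F.chi c)⁻¹ ^ k) = 0 := by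
          have h1 : ∀ c : ZMod r, (F.chi c)⁻¹ ^ k = F.chi (-(c * k)) := by
            intro c
            have hmul : F.chi c ^ k = F.chi (c * k) := by
              clear hk hk0 hkne
              induction k with
              | zero => simp [chi]
              | succ k ih => rw [pow_succ, ih, ← F.chi_add]; congr 1; push_cast; ring
            rw [inv_pow, hmul]
            refine inv_eq_of_mul_eq_one_right ?_
            rw [← F.chi_add, add_neg_cancel]
            simp [chi]
          simp only [h1]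
          let sh : ZMod r ≃ ZMod r :=
            { toFun := fun c => c + (-(k : ZMod r))⁻¹
              invFun := fun c => c - (-(k : ZMod r))⁻¹
              left_inv := fun c => by simp
              right_inv := fun c => by simp }
          have h2 := sh.sum_comp fun c : ZMod r => F.chi (-(c * k))
          have h3 : ∀ c, F.chi (-((sh c) * k)) = F.chi 1 * F.chi (-(c * k)) := fun c => by
            rw [← F.chi_add]; congr 1
            show -((c + (-(k : ZMod r))⁻¹) * k) = _
            field_simp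
            ring
          simp only [h3, ← Finset.mul_sum] at h2
          have hω : F.chi 1 ≠ 1 := fun h => one_ne_zero (F.chi_eq_one h)
          exact (mul_eq_zero.1 (show (F.chi 1 - 1) * _ = 0 by rw [sub_mul, h2, one_mul, sub_self])).resolve_left
            (sub_ne_zero.2 hω)
        rw [hS, zero_smul]
      · intro h; exact absurd (Finset.mem_range.2 (Fact.out : r.Prime).pos) h
    refine ⟨(F.tauT (Pi.single i (-c))) y, ?_, ?_, ?_⟩
    · obtain ⟨d, -, hd⟩ := F.tauT_scalar (Pi.single i (-c))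
      rw [hd]
      exact U.smul_mem _ (hU _ _ hy)
    · obtain ⟨d, hd', hd⟩ := F.tauT_scalar (Pi.single i (-c))
      rw [hd]
      exact smul_ne_zero (S.root_ne hd') (S.op_ne hy0)
    · intro j hj
      obtain ⟨d, hd', hd⟩ := F.tauT_scalar (Pi.single i (-c))
      rw [hd, LinearMap.smul_apply, map_smul, F.pair_l_op]
      congr 1
      rw [show F.ι.symm (F.T (Pi.single i (-c))) = ((Pi.single i (-c), 0), 0) from F.ι.symm_apply_apply _]
      by_cases hji : j = i
      · subst hji
        rw [show S.op (F.L (Pi.single j 1)) y = F.chi c • y from hey, map_smul, smul_smul, ← F.chi_add]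
        simp [chi]
      · rw [hyl j ((List.mem_cons.1 hj).resolve_left hji)]
        simp [hji, chi]

variable {x : V}

/-- The movement of the frame. -/
structure Move (F : Frame S m Q) (g : A) where
  b : (Fin m → ZMod r) →+ (Fin m → ZMod r)
  h : (Fin m → ZMod r) →+ Q
  d : (Fin m → ZMod r) → K
  κ : (Fin m → ZMod r) → K
  d_pow : ∀ a, d a ^ n = 1
  full : ∀ a z, g • F.tauT a z = κ a • F.tauT (F.proj g a) (S.op (F.L (b a)) (S.op (F.H (h a)) (g • z)))
  fixed : ∀ a z, F.LFix (g • z) → g • F.tauT a z = d a • F.tauT (F.proj g a) (S.op (F.H (h a)) (g • z))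

theorem exists_move (g : A) : Nonempty (F.Move g) := by
  classical
  let b : (Fin m → ZMod r) →+ (Fin m → ZMod r) :=
    AddMonoidHom.mk' (fun a => (F.ι.symm (g • F.T a)).1.2) fun a a' => by simp [map_add, smul_add]
  let h : (Fin m → ZMod r) →+ Q :=
    AddMonoidHom.mk' (fun a => (F.ι.symm (g • F.T a)).2) fun a a' => by simp [map_add, smul_add]
  have hk : ∀ a, ∃ κ d : K, d ^ n = 1 ∧
      (∀ z, g • F.tauT a z = κ • F.tauT (F.proj g a) (S.op (F.L (b a)) (S.op (F.H (h a)) (g • z)))) ∧
      ∀ z, F.LFix (g • z) → g • F.tauT a z = d • F.tauT (F.proj g a) (S.op (F.H (h a)) (g • z)) := by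
    intro a
    obtain ⟨c, hc, ec⟩ := F.tauT_scalar a
    obtain ⟨c', hc', ec'⟩ := F.tauT_scalar (F.proj g a)
    obtain ⟨k, hk, ek⟩ := S.conj g (F.T a)
    obtain ⟨u, hu, eu⟩ := S.op_mul (F.L (b a)) (F.H (h a))
    obtain ⟨u', hu', eu'⟩ := S.op_mul (F.T (F.proj g a)) (F.L (b a) + F.H (h a))
    obtain ⟨l, hl, el⟩ := F.op_L (b a)
    have hσ : S.σ g c ^ n = 1 := by rw [← map_pow, hc, map_one]
    have hsplit : g • F.T a = F.T (F.proj g a) + (F.L (b a) + F.H (h a)) := by
      rw [← add_assoc]; exact F.split (g • F.T a)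
    have hfull : ∀ z, g • F.tauT a z = (S.σ g c * k * u'⁻¹ * u⁻¹ * c'⁻¹) •
        F.tauT (F.proj g a) (S.op (F.L (b a)) (S.op (F.H (h a)) (g • z))) := fun z => by
      simp only [ec, ec', LinearMap.smul_apply, S.semi, ek, eu, map_smul, eu', hsplit, smul_smul]
      congr 1
      field_simp [S.root_ne hc', S.root_ne hu, S.root_ne hu']
    refine ⟨_, (S.σ g c * k * u'⁻¹ * u⁻¹ * c'⁻¹) * l, ?_, hfull, fun z hz => ?_⟩
    · simp only [mul_pow, hσ, hk, S.root_inv hu', S.root_inv hu, S.root_inv hc', hl, one_mul]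
    · rw [hfull, el _ (F.algH_lfix (Submodule.subset_span ⟨h a, rfl⟩) hz), map_smul, smul_smul]
  choose κ d hd hfull hfix using hk
  exact ⟨⟨b, h, d, κ, hd, hfull, hfix⟩⟩

variable [Finite A]

/-- The frame criterion. -/
theorem solve (hrK : (r : K) ≠ 0) (hx : x ≠ 0) (hl : F.LFix x)
    (hgen : ∀ (h : Q) (c : K), S.op (F.H h) x = c • x → h = 0)
    (PQ : Module.End K V) (hPQm : PQ ∈ S.alg) (hPQ : PQ x = x)
    (hPQH : ∀ h, ∃ k : K, PQ (S.op (F.H h) x) = k • x)
    (f0 : Module.End K V) (hf0 : f0 ∈ F.algH)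
    (Z : (Fin m → ZMod r) → Module.End K V) (hZ : ∀ a, Z a ∈ F.algH) (hZ0 : Z 0 = 0)
    (hin : ∀ g : A, g • x = x → ∀ s : K, g • f0 x - f0 x = s • x →
      s = 0 ∧ (S.σ g = RingEquiv.refl K → ∀ h, g • S.op (F.H h) x = S.op (F.H h) x))
    (hgood : ∀ g : A, g • x = x → ∀ (d : (Fin m → ZMod r) → K) (h : (Fin m → ZMod r) →+ Q),
      (∀ a, d a ^ n = 1) → d 0 = 1 → ((∀ a, h a = 0) → IsPhase r n d) →
      (∀ a, Z (F.proj g a) x = d a • S.op (F.H (h a)) (Z a x)) →
      (∀ a, F.proj g a = a) ∧ (∀ a, h a = 0) ∧ ∀ a, d a = 1) :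
    S.SolvedAt x := by
  classical
  have hr0 : r ≠ 0 := (Fact.out : r.Prime).ne_zero
  refine ⟨PQ * F.proj0, S.mul_mem_alg hPQm (F.projL_mem _),
    f0 + ∑ a, F.tauT a * Z a, add_mem (F.algH_le hf0)
      (Submodule.sum_mem _ fun a _ => S.mul_mem_alg (F.tauT_mem a) (F.algH_le (hZ a))), ?_, ?_, ?_⟩
  · have h0 := F.proj0_tauT hrK hl 0
    rw [if_pos rfl, F.tauT_zero, Module.End.one_apply] at h0
    rw [Module.End.mul_apply, h0, hPQ]
  · intro v
    obtain ⟨c, hc, ec⟩ := F.tauT_scalar (F.ι.symm v).1.1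
    obtain ⟨u, hu, eu⟩ := S.op_mul (F.H (F.ι.symm v).2) (F.L (F.ι.symm v).1.2)
    obtain ⟨u', hu', eu'⟩ := S.op_mul (F.T (F.ι.symm v).1.1) (F.H (F.ι.symm v).2 + F.L (F.ι.symm v).1.2)
    obtain ⟨l, hl', el⟩ := F.op_L (F.ι.symm v).1.2
    have hv : S.op v x = (u'⁻¹ * u⁻¹ * c⁻¹ * l) • F.tauT (F.ι.symm v).1.1 (S.op (F.H (F.ι.symm v).2) x) := by
      have h1 := eu x
      rw [el x hl, map_smul] at h1
      have h2 := eu' x
      rw [show F.T (F.ι.symm v).1.1 + (F.H (F.ι.symm v).2 + F.L (F.ι.symm v).1.2) = v by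
        rw [add_comm (F.H _), ← add_assoc]; exact (F.split v).symm] at h2
      have h3 := congrArg (S.op (F.T (F.ι.symm v).1.1)) h1
      rw [map_smul, map_smul, h2, smul_smul] at h3
      rw [ec, LinearMap.smul_apply, smul_smul,
        show u'⁻¹ * u⁻¹ * c⁻¹ * l * c = u'⁻¹ * u⁻¹ * l by field_simp [S.root_ne hc], mul_smul, h3, smul_smul,
        show u'⁻¹ * u⁻¹ * (u * u') = 1 by field_simp [S.root_ne hu, S.root_ne hu'], one_smul]
    obtain ⟨k, hk⟩ := hPQH (F.ι.symm v).2
    rw [hv, Module.End.mul_apply, map_smul, F.proj0_tauT hrK (F.lfix_H hl _)]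
    split_ifs
    · exact ⟨_, by rw [map_smul, hk, smul_smul]⟩
    · exact ⟨0, by simp⟩
  intro g hg s hs
  obtain ⟨M⟩ := F.exists_move g
  have hH : ∀ h : Q, F.LFix (g • S.op (F.H h) x) := by
    intro h
    obtain ⟨c, hc, e⟩ := S.conj g (F.H h)
    rw [e, hg]
    have hcc := F.ccoord hx hg hl hgen (w := F.H h)
      (by rw [show F.ι.symm (F.H h) = ((0, 0), h) from F.ι.symm_apply_apply _])
    obtain ⟨u, hu, eu⟩ := S.op_mul (F.H (F.ι.symm (g • F.H h)).2) (F.L (F.ι.symm (g • F.H h)).1.2)
    obtain ⟨l, hl', el⟩ := F.op_L (F.ι.symm (g • F.H h)).1.2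
    have h1 := eu x
    rw [el x hl, map_smul, add_comm (F.H _), ← F.iota_L_H _ hcc] at h1
    intro i
    rw [← inv_smul_smul₀ (S.root_ne hu) (S.op (g • F.H h) x), ← h1]
    simp only [map_smul]
    rw [F.lfix_H hl _ i]
  have hgalg : ∀ e ∈ F.algH, F.LFix (g • e x) := by
    intro e he
    induction he using Submodule.span_induction with
    | mem y hy => obtain ⟨h, rfl⟩ := hy; exact hH h
    | zero => intro i; simp
    | add a b _ _ ha hb => intro i; simp only [LinearMap.add_apply, smul_add, map_add]; rw [ha i, hb i]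
    | smul a b _ hb => intro i; simp only [LinearMap.smul_apply, S.semi, map_smul]; rw [hb i]
  have hginv : g⁻¹ • x = x := by rw [inv_smul_eq_iff, hg]
  let π : (Fin m → ZMod r) ≃ (Fin m → ZMod r) :=
    { toFun := F.proj g
      invFun := F.proj g⁻¹
      left_inv := fun a => by rw [← F.proj_mul x hx hginv hl hgen, inv_mul_cancel, F.proj_one]
      right_inv := fun a => by rw [← F.proj_mul x hx hg hl hgen, mul_inv_cancel, F.proj_one] }
  have hπ0 : ∀ a, F.proj g a = 0 ↔ a = 0 := fun a => by
    constructor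
    · intro h; exact π.injective (by show F.proj g a = F.proj g 0; rw [h, map_zero])
    · rintro rfl; exact map_zero _
  -- the components
  let w : (Fin m → ZMod r) → V := fun a =>
    (if a = 0 then g • f0 x - f0 x - s • x else 0) + g • F.tauT (π.symm a) (Z (π.symm a) x) - F.tauT a (Z a x)
  have hLneg : ∀ (i : Fin m) {y z : V} {c : K}, S.op (F.L (Pi.single i 1)) y = c • y →
      S.op (F.L (Pi.single i 1)) z = c • z → S.op (F.L (Pi.single i 1)) (y - z) = c • (y - z) :=
    fun i y z c hy hz => by rw [map_sub, hy, hz, smul_sub]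
  have hw : ∀ a ∈ (Finset.univ : Finset (Fin m → ZMod r)), ∀ i,
      S.op (F.L (Pi.single i 1)) (w a) = F.chi (a i) • w a := by
    intro a _ i
    refine hLneg i ?_ (F.l_tauT i a (F.algH_lfix (hZ a) hl))
    have h2 : S.op (F.L (Pi.single i 1)) (g • F.tauT (π.symm a) (Z (π.symm a) x)) =
        F.chi (a i) • g • F.tauT (π.symm a) (Z (π.symm a) x) := by
      rw [M.fixed _ _ (hgalg _ (hZ _)), show F.proj g (π.symm a) = a from π.apply_symm_apply a, map_smul,
        F.l_tauT i a (F.algH_lfix (Submodule.subset_span ⟨_, rfl⟩) (hgalg _ (hZ _))), smul_comm]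
    split_ifs with ha
    · subst ha
      simp only [map_add, map_sub, map_smul, h2, smul_add, (hgalg f0 hf0) i, (F.algH_lfix hf0 hl) i, hl i]
      simp [chi]
    · rw [zero_add, h2]
  have hsum : ∑ a, w a = 0 := by
    simp only [w, Finset.sum_sub_distrib, Finset.sum_add_distrib]
    rw [Finset.sum_ite_eq' Finset.univ (0 : Fin m → ZMod r), if_pos (Finset.mem_univ _),
      π.symm.sum_comp (fun a => g • F.tauT a (Z a x))]
    simp only [LinearMap.add_apply, LinearMap.sum_apply, Module.End.mul_apply, smul_add,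
      Finset.smul_sum] at hs
    rw [← hs]
    abel
  have hcomp := F.independent Finset.univ w hw hsum
  have h00 : g • f0 x - f0 x = s • x := by
    have := hcomp 0 (Finset.mem_univ _)
    have e0 : π.symm 0 = 0 := map_zero (F.proj g⁻¹)
    simp only [w, if_pos, e0, hZ0, LinearMap.zero_apply, map_zero, smul_zero, add_zero, sub_zero] at this
    exact sub_eq_zero.1 this
  obtain ⟨hs0, hfixH⟩ := hin g hg s h00
  refine ⟨hs0, fun hσ => ?_⟩
  have hlin : ∀ (c : K) (z : V), g • (c • z) = c • (g • z) := fun c z => by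
    rw [S.semi, hσ, RingEquiv.refl_apply]
  have hfixA : ∀ e ∈ F.algH, g • e x = e x := by
    intro e he
    induction he using Submodule.span_induction with
    | mem y hy => obtain ⟨h, rfl⟩ := hy; exact hfixH hσ h
    | zero => simp
    | add a b _ _ ha hb => simp only [LinearMap.add_apply, smul_add]; rw [ha, hb]
    | smul a b _ hb => simp only [LinearMap.smul_apply, hlin]; rw [hb]
  have hfixed : ∀ a, ∀ e ∈ F.algH,
      g • F.tauT a (e x) = M.d a • F.tauT (F.proj g a) (S.op (F.H (M.h a)) (e x)) := fun a e he => by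
    have := M.fixed a (e x) (hgalg e he)
    rwa [hfixA e he] at this
  have hd0 : M.d 0 = 1 := by
    have := hfixed 0 1 F.one_mem_algH
    simp only [map_zero, F.tauT_zero, S.op_zero, Module.End.one_apply, hg] at this
    exact PS.smul_inj hx (this.symm.trans (one_smul K x).symm)
  have hrel : ∀ a, Z (F.proj g a) x = M.d a • S.op (F.H (M.h a)) (Z a x) := by
    intro a
    by_cases ha : a = 0
    · subst ha; simp [hZ0]
    have := hcomp (F.proj g a) (Finset.mem_univ _)
    simp only [w, if_neg (fun h => ha ((hπ0 a).1 h)), zero_add,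
      show π.symm (F.proj g a) = a from π.symm_apply_apply a, hfixed a _ (hZ a), sub_eq_zero] at this
    obtain ⟨c, hc, ec⟩ := F.tauT_scalar (F.proj g a)
    simp only [ec, LinearMap.smul_apply] at this
    rw [smul_comm (M.d a) c, ← map_smul (S.op (F.T (F.proj g a)))] at this
    exact (S.op_inj _ (smul_right_injective V (S.root_ne hc) this)).symm
  have hphase : (∀ a, M.h a = 0) → IsPhase r n M.d := by
    intro hh0
    refine ⟨hd0, M.d_pow, fun a b => S.pair (F.L (M.b a)) (F.T (F.proj g b)), fun a b => S.pair_pow _ _,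
      fun a b c => by simp only [map_add, S.pair_add_left hr0],
      fun a b c => by simp only [map_add, S.pair_add_right hr0], fun a b => ?_⟩
    have hone : ∀ a, g • F.tauT a x = M.d a • F.tauT (F.proj g a) x := fun a => by
      have := hfixed a 1 F.one_mem_algH
      rwa [hh0, map_zero, S.op_zero, Module.End.one_apply, Module.End.one_apply] at this
    have hda : ∀ a, M.d a = M.κ a * (F.op_L (M.b a)).choose := by
      intro a
      have := M.full a x
      rw [hh0, map_zero, S.op_zero, Module.End.one_apply, hg, hone,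
        (F.op_L (M.b a)).choose_spec.2 x hl, map_smul, smul_smul] at this
      obtain ⟨c, hc, ec⟩ := F.tauT_scalar (F.proj g a)
      exact PS.smul_inj (by rw [ec]; exact smul_ne_zero (S.root_ne hc) (S.op_ne hx)) this
    have h1 := hone (a + b)
    rw [F.tauT_add, Module.End.mul_apply, M.full, hone b, hh0, map_zero, S.op_zero, Module.End.one_apply,
      map_smul] at h1
    obtain ⟨c, hc, ec⟩ := F.tauT_scalar (F.proj g b)
    have h2 : S.op (F.L (M.b a)) (F.tauT (F.proj g b) x) = (S.pair (F.L (M.b a)) (F.T (F.proj g b)) *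
        (F.op_L (M.b a)).choose) • F.tauT (F.proj g b) x := by
      rw [ec, LinearMap.smul_apply, map_smul, S.op_comm, (F.op_L (M.b a)).choose_spec.2 x hl, map_smul]
      simp only [smul_smul]
      congr 1; ring
    rw [h2, map_smul, map_smul, smul_smul, smul_smul, ← Module.End.mul_apply, ← F.tauT_add, ← map_add] at h1
    obtain ⟨c', hc', ec'⟩ := F.tauT_scalar (F.proj g (a + b))
    have h3 := PS.smul_inj (by rw [ec']; exact smul_ne_zero (S.root_ne hc') (S.op_ne hx)) h1
    rw [← h3, hda a]
    ring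
  obtain ⟨hπid, hh0, hd1⟩ := hgood g hg M.d M.h M.d_pow hd0 hphase hrel
  have hall : ∀ v, g • S.op v x = S.op v x := by
    intro v
    obtain ⟨c, hc, ec⟩ := F.tauT_scalar (F.ι.symm v).1.1
    obtain ⟨u, hu, eu⟩ := S.op_mul (F.H (F.ι.symm v).2) (F.L (F.ι.symm v).1.2)
    obtain ⟨u', hu', eu'⟩ := S.op_mul (F.T (F.ι.symm v).1.1) (F.H (F.ι.symm v).2 + F.L (F.ι.symm v).1.2)
    obtain ⟨l, hl', el⟩ := F.op_L (F.ι.symm v).1.2
    have key := hfixed (F.ι.symm v).1.1 _ (Submodule.subset_span ⟨(F.ι.symm v).2, rfl⟩ :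
      S.op (F.H (F.ι.symm v).2) ∈ F.algH)
    rw [hπid, hh0, hd1, one_smul, map_zero, S.op_zero, Module.End.one_apply, ec, LinearMap.smul_apply,
      hlin] at key
    have key' := smul_right_injective V (S.root_ne hc) key
    have h1 := eu x
    rw [el x hl, map_smul] at h1
    have h2 := eu' x
    rw [show F.T (F.ι.symm v).1.1 + (F.H (F.ι.symm v).2 + F.L (F.ι.symm v).1.2) = v by
      rw [add_comm (F.H _), ← add_assoc]; exact (F.split v).symm] at h2
    have h3 := congrArg (S.op (F.T (F.ι.symm v).1.1)) h1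
    rw [map_smul, map_smul, h2, smul_smul] at h3
    have h4 := congrArg (g • ·) h3
    simp only [hlin] at h4
    rw [key', h3] at h4
    exact (smul_right_injective V (mul_ne_zero (S.root_ne hu) (S.root_ne hu')) h4).symm
  intro v z
  obtain ⟨c, hc, ec⟩ := S.conj g v
  obtain ⟨e, he, ee⟩ := S.op_mul (g • v - v) v
  have hb : ∀ w, c • S.op (g • v) (S.op w x) = S.op v (S.op w x) := by
    intro w
    obtain ⟨q, hq, eq⟩ := S.op_mul v w
    have := ec (S.op w x)
    rw [eq, hlin, hall, hall] at this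
    rw [eq, ← this]
  have hδ : ∀ w, S.op (g • v - v) (S.op w x) = (e * c⁻¹) • S.op w x := by
    intro w
    obtain ⟨q, hq, eq⟩ := S.op_mul v (w - v)
    rw [add_sub_cancel] at eq
    have h1 := ee (S.op (w - v) x)
    rw [sub_add_cancel, eq, map_smul] at h1
    have h2 := hb (w - v)
    rw [eq] at h2
    rw [← inv_smul_smul₀ (S.root_ne hc) (S.op (g • v) (S.op (w - v) x)), h2, smul_smul, smul_smul] at h1
    have h3 : q • S.op (g • v - v) (S.op w x) = q • ((e * c⁻¹) • S.op w x) := by
      rw [h1, smul_smul]; congr 1; ring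
    exact smul_right_injective V (S.root_ne hq) h3
  have hgv : g • v = v := sub_eq_zero.1 (S.nondeg _ fun w => by
    have h0 := hδ 0
    rw [S.op_zero, Module.End.one_apply] at h0
    have hw := hδ w
    rw [S.op_comm, h0, map_smul, smul_smul] at hw
    have h4 := PS.smul_inj (S.op_ne hx) hw
    exact mul_right_cancel₀ (mul_ne_zero (S.root_ne he) (inv_ne_zero (S.root_ne hc)))
      (h4.trans (one_mul _).symm))
  have hc1 : c = 1 := by
    have h0 := hb 0
    rw [S.op_zero, Module.End.one_apply, hgv] at h0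
    exact PS.smul_inj (S.op_ne hx) (h0.trans (one_smul K _).symm)
  rw [ec, hgv, hc1, one_smul]

end Frame

end Cfsg.Agent.BaseTwo
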