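import Cfsg.Agent.BaseTwo.Chief

/-!
The elements of a chief factor have scalar multiples of small order.
-/

set_option autoImplicit false
set_option maxHeartbeats 1000000

namespace Cfsg.Agent.BaseTwo

theorem pow_mul_comm_scalar {K : Type*} [Field K] {R : Type*} [Ring R] [Algebra K R] {X Y : R} {q : K}
    (h : Y * X = q • (X * Y)) : ∀ k : ℕ, (X * Y) ^ k = q ^ (k * (k - 1) / 2) • (X ^ k * Y ^ k) := by
  have h1 : ∀ k : ℕ, Y ^ k * X = q ^ k • (X * Y ^ k) := by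
    intro k
    induction k with
    | zero => simp
    | succ k ih => rw [pow_succ, mul_assoc, h, mul_smul_comm, ← mul_assoc, ih, smul_mul_assoc, smul_smul,
        ← pow_succ', mul_assoc, ← pow_succ]
  intro k
  induction k with
  | zero => simp
  | succ k ih =>
    rw [pow_succ, ih, smul_mul_assoc, mul_assoc (X ^ k), ← mul_assoc (Y ^ k), h1, smul_mul_assoc,
      mul_smul_comm, smul_smul, ← mul_assoc, ← mul_assoc, ← pow_succ, mul_assoc, ← pow_succ, ← pow_add]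
    congr 2
    rw [Nat.add_sub_cancel, ← Nat.choose_two_right, show (k + 1) * k / 2 = (k + 1).choose 2 by
      rw [Nat.choose_two_right, Nat.add_sub_cancel], Nat.choose_succ_succ', Nat.choose_one_right, add_comm]

namespace Setting

variable {K V G : Type*} [Field K] [AddCommGroup V] [Module K V] [Group G] [DistribMulAction G V]
  (T : Setting K V G)

theorem L_mul (d e : T.C) : T.L (d * e) = T.L d * T.L e := LinearMap.ext fun z => mul_smul d.1 e.1 z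

theorem L_one : T.L 1 = 1 := LinearMap.ext fun z => one_smul G z

theorem L_pow (d : T.C) (k : ℕ) : T.L (d ^ k) = T.L d ^ k := by
  induction k with
  | zero => rw [pow_zero, pow_zero, T.L_one]
  | succ k ih => rw [pow_succ, pow_succ, T.L_mul, ih]

theorem L_scalar [Nontrivial V] (b : T.C) (hb : b.1 ∈ T.B) :
    ∃ k : K, k ≠ 0 ∧ T.L b = k • 1 := by
  obtain ⟨k, hk⟩ := T.scalar b.1 hb
  refine ⟨k, ?_, LinearMap.ext hk⟩
  rintro rfl
  obtain ⟨z, hz⟩ := exists_ne (0 : V)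
  exact hz ((smul_eq_zero_iff_eq b.1).1 ((hk z).trans (zero_smul K z)))

theorem smul_one_inj [Nontrivial V] {a b : K} (h : a • (1 : Module.End K V) = b • 1) : a = b := by
  obtain ⟨z, hz⟩ := exists_ne (0 : V)
  exact PS.smul_inj hz (LinearMap.congr_fun h z)

variable {T} {D : Subgroup G} (hD : T.Chief D) [Finite G] [Group.IsSolvable G] [Finite K] [Nontrivial V]

include hD in
/-- The value of the commutator. -/
theorem Chief.comm_scalar {r : ℕ} (hr : ∀ d ∈ D, d ^ r ∈ T.B) {a b : T.C} (ha : a.1 ∈ D) (hb : b.1 ∈ D) :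
    ∃ q : K, q ≠ 0 ∧ q ^ r = 1 ∧ T.L b * T.L a = q • (T.L a * T.L b) := by
  have hc : (b * a * b⁻¹ * a⁻¹ : T.C).1 ∈ T.B := Chief.commutator_mem hD hb ha
  obtain ⟨q, hq, eq⟩ := T.L_scalar _ hc
  have h1 : T.L b * T.L a = q • (T.L a * T.L b) := by
    rw [← T.L_mul, ← T.L_mul, ← one_mul (T.L (a * b)), ← smul_mul_assoc, ← eq, ← T.L_mul]
    congr 1; group
  refine ⟨q, hq, ?_, h1⟩
  have hpow : ∀ k : ℕ, T.L b * T.L a ^ k = q ^ k • (T.L a ^ k * T.L b) := by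
    intro k
    induction k with
    | zero => simp
    | succ k ih => rw [pow_succ, ← mul_assoc, ih, smul_mul_assoc, mul_assoc, h1, mul_smul_comm, smul_smul,
        ← pow_succ, ← mul_assoc, ← pow_succ]
  obtain ⟨k, hk, ek⟩ := T.L_scalar (a ^ r) (hr a.1 ha)
  have h2 := hpow r
  rw [← T.L_pow, ek, mul_smul_comm, smul_mul_assoc, mul_one, one_mul, smul_smul] at h2
  obtain ⟨z, hz⟩ := exists_ne (0 : V)
  have h3 := PS.smul_inj (fun e => hz ((smul_eq_zero_iff_eq b.1).1 e)) (LinearMap.congr_fun h2 z)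
  exact mul_right_cancel₀ hk (h3.symm.trans (one_mul k).symm)

include hD in
/-- A noncommuting pair gives a root of unity. -/
theorem Chief.prime_dvd {r : ℕ} (hrp : r.Prime) (hr : ∀ d ∈ D, d ^ r ∈ T.B) : r ∣ Nat.card K - 1 := by
  by_contra hno
  apply Chief.not_comm hD
  intro a ha b hb
  obtain ⟨q, hq, hqr, h⟩ := Chief.comm_scalar hD hr (a := ⟨a, hD.le ha⟩) (b := ⟨b, hD.le hb⟩) ha hb
  have hq1 : q = 1 := by_contra fun hne => hno (root_dvd hrp hqr hne)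
  refine inv_mul_eq_one.1 (T.faithful _ fun v => ?_)
  rw [mul_smul, inv_smul_eq_iff, mul_smul, mul_smul]
  have := LinearMap.congr_fun h v
  rw [hq1, one_smul] at this
  exact this

include hD in
/-- Scalar multiples with small order. -/
theorem Chief.exists_normal {r : ℕ} (hrp : r.Prime) (hr : ∀ d ∈ D, d ^ r ∈ T.B)
    (hN : ∀ q : K, q ^ r = 1 → ∃ k : K, q ^ (r * (r - 1) / 2) = k ^ r)
    (d : T.C) (hd : d.1 ∈ D) : ∃ k : K, k ≠ 0 ∧ (k • T.L d) ^ r = 1 := by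
  haveI := Fact.mk hrp
  haveI := hD.normal
  have hdvd := Chief.prime_dvd hD hrp hr
  let S : Subgroup G :=
    { carrier := {x | x ∈ D ∧ ∀ h : x ∈ T.C, ∃ k : K, k ≠ 0 ∧ T.L ⟨x, h⟩ ^ r = k ^ r • 1}
      one_mem' := ⟨D.one_mem, fun h => ⟨1, one_ne_zero, by
        rw [show (⟨1, h⟩ : T.C) = 1 from rfl, T.L_one, one_pow, one_pow, one_smul]⟩⟩
      mul_mem' := fun {x y} hx hy => ⟨D.mul_mem hx.1 hy.1, fun h => by
        obtain ⟨k, hk, ek⟩ := hx.2 (hD.le hx.1)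
        obtain ⟨l, hl, el⟩ := hy.2 (hD.le hy.1)
        obtain ⟨q, hq0, hq, eq⟩ := Chief.comm_scalar hD hr (a := ⟨x, hD.le hx.1⟩) (b := ⟨y, hD.le hy.1⟩) hx.1 hy.1
        obtain ⟨j, hj⟩ := hN q hq
        have hj0 : j ≠ 0 := fun e => pow_ne_zero (r * (r - 1) / 2) hq0 (by rw [hj, e, zero_pow hrp.ne_zero])
        refine ⟨j * (k * l), mul_ne_zero hj0 (mul_ne_zero hk hl), ?_⟩
        rw [show (⟨x * y, h⟩ : T.C) = ⟨x, hD.le hx.1⟩ * ⟨y, hD.le hy.1⟩ from rfl, T.L_mul,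
          pow_mul_comm_scalar eq, ek, el, hj, smul_mul_smul_comm, smul_smul, mul_one, mul_pow, mul_pow]⟩
      inv_mem' := fun {x} hx => ⟨D.inv_mem hx.1, fun h => by
        obtain ⟨k, hk, ek⟩ := hx.2 (hD.le hx.1)
        refine ⟨k⁻¹, inv_ne_zero hk, ?_⟩
        have h1 : T.L ⟨x⁻¹, h⟩ ^ r * T.L ⟨x, hD.le hx.1⟩ ^ r = 1 := by
          rw [← T.L_pow, ← T.L_pow, ← T.L_mul, show (⟨x⁻¹, h⟩ : T.C) = ⟨x, hD.le hx.1⟩⁻¹ from rfl, inv_pow,
            inv_mul_cancel, T.L_one]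
        rw [ek, mul_smul_comm, mul_one] at h1
        calc T.L ⟨x⁻¹, h⟩ ^ r = k⁻¹ ^ r • k ^ r • T.L ⟨x⁻¹, h⟩ ^ r := by
              rw [smul_smul, ← mul_pow, inv_mul_cancel₀ hk, one_pow, one_smul]
          _ = _ := by rw [h1]⟩ }
  have hBS : T.B ≤ S := fun b hb => ⟨hD.lt.le hb, fun h => by
    obtain ⟨k, hk, ek⟩ := T.L_scalar ⟨b, h⟩ hb
    exact ⟨k, hk, by rw [ek, smul_pow, one_pow]⟩⟩
  have hSn : S.Normal := by
    refine ⟨fun x hx g => ⟨hD.normal.conj_mem x hx.1 g, fun h => ?_⟩⟩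
    obtain ⟨k, hk, ek⟩ := hx.2 (hD.le hx.1)
    refine ⟨T.σ g k, fun e => hk ((T.σ g).injective (e.trans (map_zero _).symm)), LinearMap.ext fun z => ?_⟩
    rw [← T.L_pow]
    show (g * x * g⁻¹) ^ r • z = T.σ g k ^ r • z
    rw [conj_pow, mul_smul, mul_smul]
    have h2 := LinearMap.congr_fun ek (g⁻¹ • z)
    rw [← T.L_pow] at h2
    rw [show x ^ r • g⁻¹ • z = k ^ r • g⁻¹ • z from h2, T.semi, smul_inv_smul, map_pow]
  rcases hD.mini S hSn hBS (fun x hx => hx.1) with h | h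
  swap
  · obtain ⟨k, hk, ek⟩ := (h.symm ▸ hd : d.1 ∈ S).2 d.2
    refine ⟨k⁻¹, inv_ne_zero hk, ?_⟩
    rw [smul_pow, ek, smul_smul, ← mul_pow, inv_mul_cancel₀ hk, one_pow, one_smul]
  exfalso
  -- the classes modulo powers form a cyclic group
  obtain ⟨g, hg⟩ := IsCyclic.exists_generator (α := Kˣ)
  have hcls : ∀ x (hx : x ∈ D), ∃ e : ℕ, T.L ⟨x, hD.le hx⟩ ^ r = (g.1 ^ e) • 1 := by
    intro x hx
    obtain ⟨k, hk, ek⟩ := T.L_scalar (⟨x, hD.le hx⟩ ^ r) (hr x hx)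
    obtain ⟨e, he⟩ := mem_powers_iff_mem_zpowers.2 (hg (Units.mk0 k hk))
    refine ⟨e, ?_⟩
    rw [← T.L_pow, ek, show g.1 ^ e = k from congrArg Units.val he]
  have hwell : ∀ x, x ∈ D → (∃ e, r ∣ e ∧ ∀ h, T.L ⟨x, h⟩ ^ r = (g.1 ^ e) • 1) → x ∈ T.B := by
    rintro x hx ⟨e, ⟨o, rfl⟩, he⟩
    rw [← h]
    exact ⟨hx, fun hh => ⟨g.1 ^ o, pow_ne_zero _ g.ne_zero, by rw [he, ← pow_mul, mul_comm]⟩⟩
  obtain ⟨a, haD, haB⟩ : ∃ a, a ∈ D ∧ a ∉ T.B := Set.exists_of_ssubset hD.lt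
  obtain ⟨ea, hea⟩ := hcls a haD
  have hea0 : (ea : ZMod r) ≠ 0 := fun e => haB (hwell a haD ⟨ea, (ZMod.natCast_eq_zero_iff _ _).1 e, fun _ => hea⟩)
  have hgen : ∀ x ∈ D, ∃ (j : ℕ), x * a ^ j ∈ T.B := by
    intro x hx
    obtain ⟨ex, hex⟩ := hcls x hx
    obtain ⟨q, -, hq, eq⟩ := Chief.comm_scalar hD hr (a := ⟨x, hD.le hx⟩)
      (b := ⟨a, hD.le haD⟩ ^ (-(ex : ZMod r) * (ea : ZMod r)⁻¹).val) hx (D.pow_mem haD _)
    obtain ⟨j, hj⟩ := hN q hq
    have hqne : j ≠ 0 := fun e => by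
      rw [e, zero_pow hrp.ne_zero] at hj
      have : q = 0 := pow_eq_zero_iff'.1 hj |>.1
      rw [this, zero_pow hrp.ne_zero] at hq
      exact zero_ne_one hq
    obtain ⟨ej, hej⟩ := mem_powers_iff_mem_zpowers.2 (hg (Units.mk0 j hqne))
    set v := (-(ex : ZMod r) * (ea : ZMod r)⁻¹).val
    refine ⟨v, hwell _ (D.mul_mem hx (D.pow_mem haD v)) ⟨ej * r + (ex + ea * v), ?_, fun hh => ?_⟩⟩
    · rw [← ZMod.natCast_eq_zero_iff]
      push_cast
      rw [ZMod.natCast_self, mul_zero, zero_add, show ((v : ℕ) : ZMod r) = _ from ZMod.natCast_zmod_val _,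
        mul_comm (ea : ZMod r), mul_assoc, inv_mul_cancel₀ hea0, mul_one, add_neg_cancel]
    · rw [show (⟨x * a ^ v, hh⟩ : T.C) = ⟨x, hD.le hx⟩ * ⟨a, hD.le haD⟩ ^ v from rfl, T.L_mul,
        pow_mul_comm_scalar eq, T.L_pow, ← pow_mul, mul_comm v, pow_mul, hex, hea, smul_pow, one_pow,
        smul_mul_smul_comm, mul_one, smul_smul, hj, ← show g.1 ^ ej = j from congrArg Units.val hej,
        ← pow_mul, ← pow_mul, ← pow_add, ← pow_add]
  apply Chief.not_comm hD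
  intro x hx y hy
  obtain ⟨i, hi⟩ := hgen x hx
  obtain ⟨j, hj⟩ := hgen y hy
  have hcomm : ∀ (b : G), b ∈ T.B → ∀ k : ℕ, Commute b (a ^ k) := fun b hb k =>
    ((show Commute a b from T.mem_C.1 (hD.le haD) b hb).symm).pow_right k
  rw [show x = x * a ^ i * (a ^ i)⁻¹ by group, show y = y * a ^ j * (a ^ j)⁻¹ by group]
  exact (((show Commute (x * a ^ i) (y * a ^ j) from T.comm _ hi _ hj).mul_right (hcomm _ hi j).inv_right).mul_left
    ((hcomm _ hj i).inv_right.symm.mul_right ((Commute.refl a).pow_pow i j).inv_inv)).eq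

end Setting

end Cfsg.Agent.BaseTwo
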