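import Cfsg.Agent.BaseTwo.Affine

/-!
Coefficient functions on an elementary abelian group which are stabilised, up to a quadratic
phase, by the identity only: definitions and the case of an odd prime.
-/

set_option autoImplicit false
set_option maxHeartbeats 1000000

namespace Cfsg.Agent.BaseTwo

variable {K : Type*} [Field K]

/-- A quadratic phase with values in the `n`-th roots of unity. -/
def IsPhase (r n : ℕ) {Λ : Type*} [AddCommGroup Λ] (d : Λ → K) : Prop :=
  d 0 = 1 ∧ (∀ a, d a ^ n = 1) ∧ ∃ Φ : Λ → Λ → K, (∀ a b, Φ a b ^ r = 1) ∧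
    (∀ a b c, Φ (a + b) c = Φ a c * Φ b c) ∧ (∀ a b c, Φ a (b + c) = Φ a b * Φ a c) ∧
    ∀ a b, d (a + b) = d a * d b * Φ a b

/-- `c` is stabilised up to a phase by the identity only. -/
def Good (r n m : ℕ) (G : Type*) [Group G] [DistribMulAction G (Fin m → ZMod r)]
    (c : (Fin m → ZMod r) → K) : Prop :=
  c 0 = 0 ∧ AddSubgroup.closure {a | c a ≠ 0} = ⊤ ∧
    ∀ (g : G) (d : (Fin m → ZMod r) → K), IsPhase r n d →
      (∀ a : Fin m → ZMod r, c (g • a) = d a * c a) →
        (∀ a : Fin m → ZMod r, g • a = a) ∧ ∀ a, d a = 1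

/-- The `i`-th coordinate vector. -/
def sg (r : ℕ) {m : ℕ} (i : Fin m) : Fin m → ZMod r := Pi.single i 1

variable {r n m : ℕ} [Fact r.Prime]

theorem sg_inj : Function.Injective (sg r (m := m)) := fun i j h => by
  have := congrFun h i
  by_contra hne
  simp [sg, hne] at this

theorem sg_ne_zero (i : Fin m) : sg r i ≠ 0 := fun h => by
  simpa [sg] using congrFun h i

theorem closure_sg : AddSubgroup.closure (Set.range (sg r (m := m))) = ⊤ := by
  rw [eq_top_iff]
  intro a _
  rw [← Finset.univ_sum_single a]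
  refine AddSubgroup.sum_mem _ fun i _ => ?_
  have : Pi.single i (a i) = (a i).val • sg r i := by
    funext j
    rcases eq_or_ne j i with rfl | h
    · simp [sg]
    · simp [sg, h]
  rw [this]
  exact AddSubgroup.nsmul_mem _ (AddSubgroup.subset_closure (Set.mem_range_self i)) _

theorem closure_top {s : Set (Fin m → ZMod r)} (h : ∀ i, sg r i ∈ s) :
    AddSubgroup.closure s = ⊤ :=
  top_le_iff.1 (closure_sg.symm.le.trans (AddSubgroup.closure_mono (by rintro _ ⟨i, rfl⟩; exact h i)))

/-- A multiplicative function trivial on generators is trivial. -/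
theorem mult_eq_one {Λ : Type*} [AddCommGroup Λ] {s : Set Λ} (hs : AddSubgroup.closure s = ⊤)
    (f : Λ → K) (h0 : f 0 = 1) (hmul : ∀ a b, f (a + b) = f a * f b) (h : ∀ a ∈ s, f a = 1) (a : Λ) :
    f a = 1 := by
  have ha : a ∈ AddSubgroup.closure s := hs ▸ AddSubgroup.mem_top a
  induction ha using AddSubgroup.closure_induction with
  | mem x hx => exact h x hx
  | zero => exact h0
  | add x y _ _ hx hy => rw [hmul, hx, hy, one_mul]
  | neg x _ hx =>
    have := hmul x (-x)
    rw [add_neg_cancel, h0, hx, one_mul] at this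
    exact this.symm

theorem IsPhase.ne_zero {Λ : Type*} [AddCommGroup Λ] {r n : ℕ} {d : Λ → K} (hd : IsPhase r n d)
    (hn : n ≠ 0) (a : Λ) : d a ≠ 0 := fun h => by
  have := hd.2.1 a
  rw [h, zero_pow hn] at this
  exact zero_ne_one this

/-- A phase is determined by the singles, the doubles and the pairs. -/
theorem phase_eq_one {d : (Fin m → ZMod r) → K} (hd : IsPhase r n d)
    (h1 : ∀ i, d (sg r i) = 1) (h2 : ∀ i, d (sg r i + sg r i) = 1)
    (h3 : ∀ i j : Fin m, i < j → d (sg r i + sg r j) = 1) : ∀ a, d a = 1 := by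
  obtain ⟨h0, -, Φ, -, hl, hr, hq⟩ := hd
  have hgen : ∀ i j, Φ (sg r i) (sg r j) = 1 := by
    intro i j
    have e := hq (sg r i) (sg r j)
    rw [h1, h1, one_mul, one_mul] at e
    rw [← e]
    rcases lt_trichotomy i j with h | rfl | h
    · exact h3 i j h
    · exact h2 i
    · rw [add_comm]; exact h3 j i h
  have hz : ∀ a, Φ 0 a = 1 ∧ Φ a 0 = 1 := fun a => by
    have e1 := hq 0 a
    rw [zero_add, h0, one_mul] at e1
    have e2 := hq a 0
    rw [add_zero, h0, mul_one] at e2
    have key : ∀ x : K, d a = d a * x → x = 1 ∨ d a = 0 := fun x hx => by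
      rcases eq_or_ne (d a) 0 with h | h
      · exact Or.inr h
      · exact Or.inl (mul_left_cancel₀ h (by rw [mul_one, ← hx]))
    refine ⟨?_, ?_⟩
    · have := hl 0 0 a
      rw [zero_add] at this
      rcases key _ e1 with h | h
      · exact h
      · rcases eq_or_ne (Φ 0 a) 0 with hh | hh
        · exfalso
          have hzero : ∀ b, Φ b a = 0 := fun b => by
            have := hl 0 b a
            rwa [zero_add, hh, zero_mul] at this
          rcases isEmpty_or_nonempty (Fin m) with he | ⟨⟨i⟩⟩
          · have : a = 0 := funext fun i => (IsEmpty.false i).elim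
            rw [this, h0] at h
            exact one_ne_zero h
          · have ha := hzero (sg r i)
            have hne := mult_eq_one (s := Set.range (sg r (m := m))) closure_sg (fun b => Φ (sg r i) b)
              (by
                have e := hq (sg r i) 0
                rwa [add_zero, h0, mul_one, h1, one_mul, eq_comm] at e)
              (hr (sg r i)) (by rintro _ ⟨j, rfl⟩; exact hgen i j) a
            exact one_ne_zero (hne.symm.trans ha)
        · exact mul_left_cancel₀ hh (by rw [mul_one, ← this])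
    · have := hr a 0 0
      rw [zero_add] at this
      rcases key _ e2 with h | h
      · exact h
      · rcases eq_or_ne (Φ a 0) 0 with hh | hh
        · exfalso
          have hzero : ∀ b, Φ a b = 0 := fun b => by
            have := hr a 0 b
            rwa [zero_add, hh, zero_mul] at this
          rcases isEmpty_or_nonempty (Fin m) with he | ⟨⟨i⟩⟩
          · have : a = 0 := funext fun i => (IsEmpty.false i).elim
            rw [this, h0] at h
            exact one_ne_zero h
          · have ha := hzero (sg r i)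
            have hne := mult_eq_one (s := Set.range (sg r (m := m))) closure_sg (fun b => Φ b (sg r i))
              (by
                have e := hq 0 (sg r i)
                rwa [zero_add, h0, one_mul, h1, one_mul, eq_comm] at e)
              (fun x y => hl x y (sg r i)) (by rintro _ ⟨j, rfl⟩; exact hgen j i) a
            exact one_ne_zero (hne.symm.trans ha)
        · exact mul_left_cancel₀ hh (by rw [mul_one, ← this])
  have hcol : ∀ i a, Φ (sg r i) a = 1 := fun i =>
    mult_eq_one (s := Set.range (sg r (m := m))) closure_sg _ (hz (sg r i)).2 (hr (sg r i))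
      (by rintro _ ⟨j, rfl⟩; exact hgen i j)
  have hall : ∀ a b, Φ a b = 1 := fun a b =>
    mult_eq_one (s := Set.range (sg r (m := m))) closure_sg (fun a => Φ a b) (hz b).1
      (fun x y => hl x y b) (by rintro _ ⟨j, rfl⟩; exact hcol j b) a
  exact mult_eq_one (s := Set.range (sg r (m := m))) closure_sg d h0
    (fun a b => by rw [hq, hall, mul_one]) (by rintro _ ⟨i, rfl⟩; exact h1 i)

section Odd

variable {G : Type*} [Group G] [DistribMulAction G (Fin m → ZMod r)]

/-- The support in the odd case: singles, doubles, pairs and the directed path. -/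
def oddD (r m : ℕ) : Set (Fin m → ZMod r) :=
  {a | (∃ i, a = sg r i) ∨ (∃ i, a = sg r i + sg r i) ∨ (∃ i j : Fin m, i ≠ j ∧ a = sg r i + sg r j) ∨
    ∃ i j : Fin m, i.1 + 1 = j.1 ∧ a = sg r i + (sg r j + sg r j)}

open scoped Classical in
/-- The coefficient function in the odd case. -/
noncomputable def oddC (r m : ℕ) (γ : K) (a : Fin m → ZMod r) : K :=
  if a ∈ Set.range (sg r) then γ else if a ∈ oddD r m then 1 else 0

theorem two_ne (hr : r ≠ 2) : (2 : ZMod r) ≠ 0 := by
  have := (Fact.out : r.Prime).two_le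
  exact_mod_cast natCast_zmod_ne (p := r) (a := 2) (b := 0) (by omega) (by omega) (by omega)

/-- Coordinates of a supported vector off two given indices. -/
theorem oddD_zero (hr : r ≠ 2) (a : Fin m → ZMod r) (ha : a ∈ oddD r m) : a ≠ 0 := by
  have h2 := two_ne hr
  intro h
  subst h
  rcases ha with ⟨i, e⟩ | ⟨i, e⟩ | ⟨i, j, hij, e⟩ | ⟨i, j, hij, e⟩
  · exact sg_ne_zero i e.symm
  · have := congrFun e i; simp [sg, one_add_one_eq_two] at this; exact h2 this.symm
  · have := congrFun e i; simp [sg, hij.symm, hij] at this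
  · have hne : i ≠ j := fun h => by rw [h] at hij; omega
    have := congrFun e i; simp [sg, hne] at this

theorem oddC_zero (hr : r ≠ 2) (γ : K) : oddC r m γ 0 = 0 := by
  rw [oddC, if_neg (fun ⟨i, hi⟩ => sg_ne_zero i hi), if_neg (fun h => oddD_zero hr 0 h rfl)]

theorem oddC_ne (γ : K) (hγ : γ ≠ 0) {a : Fin m → ZMod r} (ha : a ∈ oddD r m) :
    oddC r m γ a ≠ 0 := by
  rw [oddC]
  split_ifs with h
  · exact hγ
  · exact one_ne_zero

theorem oddC_mem (γ : K) {a : Fin m → ZMod r} (ha : oddC r m γ a ≠ 0) : a ∈ oddD r m := by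
  rw [oddC] at ha
  split_ifs at ha with h1 h2
  · obtain ⟨i, rfl⟩ := h1; exact Or.inl ⟨i, rfl⟩
  · exact h2
  · exact absurd rfl ha

/-- A permutation of coordinates fixing the directed path is trivial. -/
theorem forward_rigid {m : ℕ} (s : Fin m → Fin m)
    (h : ∀ i j : Fin m, i.1 + 1 = j.1 → (s i).1 + 1 = (s j).1) : ∀ i, s i = i := by
  rcases Nat.eq_zero_or_pos m with hm | hm
  · subst hm; exact fun i => i.elim0
  have lin : ∀ k (hk : k < m), (s ⟨k, hk⟩).1 = (s ⟨0, hm⟩).1 + k := by
    intro k
    induction k with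
    | zero => intro hk; rfl
    | succ k ih =>
      intro hk
      rw [← h ⟨k, by omega⟩ ⟨k + 1, hk⟩ rfl, ih]
      omega
  intro i
  have := lin (m - 1) (by omega)
  have := (s ⟨m - 1, by omega⟩).2
  have := lin i.1 i.2
  apply Fin.ext
  simp only [Fin.eta] at *
  omega

/-- A pair of coordinates weighted `1, 2` in the support is a step of the path. -/
theorem oddD_path (hr : r ≠ 2) {a b : Fin m} (hab : a ≠ b)
    (h : sg r a + (sg r b + sg r b) ∈ oddD r m) : a.1 + 1 = b.1 ∨ (r = 3 ∧ b.1 + 1 = a.1 ∧ False) := by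
  left
  have h2 := two_ne hr
  have h1 : (1 : ZMod r) ≠ 2 := fun e => by
    have := (Fact.out : r.Prime).two_le
    exact natCast_zmod_ne (p := r) (a := 1) (b := 2) (by omega) (by omega) (by omega) (by exact_mod_cast e)
  rcases h with ⟨i, e⟩ | ⟨i, e⟩ | ⟨i, j, hij, e⟩ | ⟨i, j, hij, e⟩
  · have ea := congrFun e a
    have eb := congrFun e b
    by_cases hi : i = a
    · subst hi; simp [sg, hab, hab.symm, one_add_one_eq_two] at eb; exact absurd eb h2
    · simp [sg, hab, Ne.symm hi] at ea
  · have ea := congrFun e a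
    have eb := congrFun e b
    by_cases hi : i = a
    · subst hi; simp [sg, hab, hab.symm, one_add_one_eq_two] at eb; exact absurd eb h2
    · simp [sg, hab, Ne.symm hi] at ea
  · have ea := congrFun e a
    have eb := congrFun e b
    simp [sg, hab, hab.symm, one_add_one_eq_two, Pi.single_apply] at ea eb
    split_ifs at ea eb with c1 c2 c3 c4 <;>
      first
      | (subst_vars; exact absurd rfl hab) | exact absurd (c1.trans c2.symm).symm hij | exact absurd (c1.symm.trans c2) hij.symm
      | (simp at ea; done) | (simp at eb; done) | (simp only [zero_add, add_zero] at eb; exact absurd eb.symm h1) | exact absurd eb.symm h1 | exact absurd eb h1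
      | exact absurd eb h2 | (subst_vars; exact absurd rfl hab) | (subst_vars; simp_all [one_add_one_eq_two])
  · have hne : i ≠ j := fun h => by rw [h] at hij; omega
    have ea := congrFun e a
    have eb := congrFun e b
    by_cases hia : i = a
    · subst hia
      by_cases hjb : j = b
      · subst hjb; exact hij
      · simp [sg, hab, hab.symm, Ne.symm hjb, one_add_one_eq_two] at eb
        exact absurd eb h2
    · by_cases hja : j = a
      · subst hja
        simp [sg, hab, Ne.symm hia, one_add_one_eq_two] at ea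
        exact absurd ea h1
      · simp [sg, hab, Ne.symm hia, Ne.symm hja] at ea

/-- Two colours suffice. -/
theorem good_odd_two (hr : r ≠ 2) (γ : K) (hγ : γ ≠ 0) (hγr : γ ^ r ≠ 1) :
    Good r r m G (oddC r m γ) := by
  refine ⟨oddC_zero hr γ, closure_top fun i => oddC_ne γ hγ (Or.inl ⟨i, rfl⟩), fun g d hd hg => ?_⟩
  have hcls : ∀ i : Fin m, ∃ j : Fin m, g • (sg r i : Fin m → ZMod r) = sg r j := by
    intro i
    have h := hg (sg r i)
    rw [show oddC r m γ (sg r i) = γ by rw [oddC, if_pos ⟨i, rfl⟩]] at h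
    by_contra hne
    push_neg at hne
    rw [oddC, if_neg (fun ⟨j, hj⟩ => hne j hj.symm)] at h
    split_ifs at h with h'
    · have h2 := congrArg (· ^ r) h
      simp only [one_pow, mul_pow, hd.2.1, one_mul] at h2
      exact hγr h2.symm
    · exact mul_ne_zero (hd.ne_zero (Fact.out : r.Prime).ne_zero _) hγ h.symm
  choose s hs using hcls
  have hsi : Function.Injective s := fun i j e => sg_inj (r := r) (MulAction.injective g (by
    show g • sg r i = g • sg r j
    rw [hs, hs, e]))
  have hfix : ∀ i, s i = i := forward_rigid s fun i j hij => by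
    have hne : i ≠ j := fun h => by rw [h] at hij; omega
    have hmem : sg r i + (sg r j + sg r j) ∈ oddD r m := Or.inr (Or.inr (Or.inr ⟨i, j, hij, rfl⟩))
    have h := hg (sg r i + (sg r j + sg r j))
    have : g • (sg r i + (sg r j + sg r j)) ∈ oddD r m := oddC_mem γ (by
      rw [h]; exact mul_ne_zero (hd.ne_zero (Fact.out : r.Prime).ne_zero _) (oddC_ne γ hγ hmem))
    rw [smul_add, smul_add, hs, hs] at this
    exact (oddD_path hr (fun e => hne (hsi e)) this).elim id fun h => h.2.2.elim
  have hid : ∀ a, g • a = a := fun a => by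
    have ha : a ∈ AddSubgroup.closure (Set.range (sg r (m := m))) := closure_sg (r := r) ▸ AddSubgroup.mem_top a
    induction ha using AddSubgroup.closure_induction with
    | mem x hx => obtain ⟨i, rfl⟩ := hx; rw [hs, hfix]
    | zero => exact smul_zero g
    | add x y _ _ hx hy => rw [smul_add, hx, hy]
    | neg x _ hx => rw [smul_neg, hx]
  refine ⟨hid, ?_⟩
  have hone : ∀ a ∈ oddD r m, d a = 1 := fun a ha => by
    have h := hg a
    rw [hid] at h
    exact mul_right_cancel₀ (oddC_ne γ hγ ha) (by rw [one_mul, ← h])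
  exact phase_eq_one hd (fun i => hone _ (Or.inl ⟨i, rfl⟩)) (fun i => hone _ (Or.inr (Or.inl ⟨i, rfl⟩)))
    fun i j hij => hone _ (Or.inr (Or.inr (Or.inl ⟨i, j, hij.ne, rfl⟩)))

/-- Two nonzero coordinates of a supported vector. -/
theorem oddD_two (hr : r ≠ 2) {x : Fin m → ZMod r} (hx : x ∈ oddD r m) {a b : Fin m} (hab : a ≠ b)
    (ha : x a ≠ 0) (hb : x b ≠ 0) :
    (x a = 1 ∧ x b = 1) ∨ (a.1 + 1 = b.1 ∧ x a = 1 ∧ x b = 2) ∨ (b.1 + 1 = a.1 ∧ x b = 1 ∧ x a = 2) := by
  rcases hx with ⟨i, rfl⟩ | ⟨i, rfl⟩ | ⟨i, j, hij, rfl⟩ | ⟨i, j, hij, rfl⟩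
  · exfalso
    by_cases h : a = i
    · subst h; simp [sg, hab.symm] at hb
    · simp [sg, h] at ha
  · exfalso
    by_cases h : a = i
    · subst h; simp [sg, hab.symm] at hb
    · simp [sg, h] at ha
  · left
    by_cases h : a = i
    · subst h
      by_cases h' : b = j
      · subst h'; simp [sg, hab, hab.symm]
      · simp [sg, hab.symm, h'] at hb
    · by_cases h' : a = j
      · subst h'
        by_cases h'' : b = i
        · subst h''; simp [sg, hab, hab.symm]
        · simp [sg, hab.symm, h''] at hb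
      · simp [sg, h, h'] at ha
  · right
    by_cases h : a = i
    · subst h
      by_cases h' : b = j
      · subst h'; exact Or.inl ⟨hij, by simp [sg, hab], by simp [sg, hab.symm, one_add_one_eq_two]⟩
      · simp [sg, hab.symm, h'] at hb
    · by_cases h' : a = j
      · subst h'
        by_cases h'' : b = i
        · subst h''; exact Or.inr ⟨hij, by simp [sg, hab.symm], by simp [sg, hab, one_add_one_eq_two]⟩
        · simp [sg, hab.symm, h''] at hb
      · simp [sg, h, h'] at ha

/-- The nonzero supported vectors on a single coordinate. -/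
theorem oddD_one {x : Fin m → ZMod r} (hx : x ∈ oddD r m) (hr : r ≠ 2) :
    (∃ i, x = sg r i ∨ x = sg r i + sg r i) ∨ ∃ a b : Fin m, a ≠ b ∧ x a ≠ 0 ∧ x b ≠ 0 := by
  have h2 := two_ne hr
  rcases hx with ⟨i, rfl⟩ | ⟨i, rfl⟩ | ⟨i, j, hij, rfl⟩ | ⟨i, j, hij, rfl⟩
  · exact Or.inl ⟨i, Or.inl rfl⟩
  · exact Or.inl ⟨i, Or.inr rfl⟩
  · exact Or.inr ⟨i, j, hij, by simp [sg, hij], by simp [sg, hij.symm]⟩
  · have hne : i ≠ j := fun h => by rw [h] at hij; omega
    exact Or.inr ⟨i, j, hne, by simp [sg, hne], by simp [sg, hne.symm, one_add_one_eq_two, h2]⟩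

/-- One colour suffices for a group of odd order. -/
theorem good_odd_one [Finite G] (hr : r ≠ 2) (hodd : Odd (Nat.card G)) :
    Good r r m G (oddC r m (1 : K)) := by
  have h2 := two_ne hr
  have h21 : (2 : ZMod r) ≠ 1 := fun e => by
    have := (Fact.out : r.Prime).two_le
    exact natCast_zmod_ne (p := r) (a := 2) (b := 1) (by omega) (by omega) (by omega) (by exact_mod_cast e)
  have h4 : (2 : ZMod r) * 2 ≠ 0 := mul_ne_zero h2 h2
  have h42 : (2 : ZMod r) * 2 ≠ 2 := fun e => h21 (mul_left_cancel₀ h2 (by rw [e, mul_one]))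
  refine ⟨oddC_zero hr 1, closure_top fun i => oddC_ne 1 one_ne_zero (Or.inl ⟨i, rfl⟩),
    fun g d hd hg => ?_⟩
  have hDg : ∀ x ∈ oddD r m, g • x ∈ oddD r m := fun x hx => oddC_mem (K := K) 1 (by
    rw [hg]; exact mul_ne_zero (hd.ne_zero (Fact.out : r.Prime).ne_zero _) (oddC_ne 1 one_ne_zero hx))
  have hlin : ∀ (c : ZMod r) (x : Fin m → ZMod r), g • (c • x) = c • (g • x) := fun c x =>
    map_smul ((DistribMulAction.toAddMonoidHom (Fin m → ZMod r) g).toZModLinearMap r) c x
  have hdbl : ∀ i : Fin m, sg r i + sg r i = (2 : ZMod r) • (sg r i : Fin m → ZMod r) := fun i =>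
    (two_smul _ _).symm
  have hcls : ∀ i : Fin m, ∃ (j : Fin m) (ε : ZMod r), ε ≠ 0 ∧ ε * ε = 1 ∧
      g • (sg r i : Fin m → ZMod r) = ε • sg r j := by
    intro i
    have hx := hDg _ (Or.inl ⟨i, rfl⟩ : sg r i ∈ oddD r m)
    have hxx := hDg _ (Or.inr (Or.inl ⟨i, rfl⟩) : sg r i + sg r i ∈ oddD r m)
    rw [hdbl, hlin] at hxx
    rcases oddD_one hx hr with ⟨j, e | e⟩ | ⟨a, b, hab, ha, hb⟩
    · exact ⟨j, 1, one_ne_zero, mul_one 1, by rw [e, one_smul]⟩
    · refine ⟨j, 2, h2, ?_, by rw [e, hdbl]⟩
      rw [e, hdbl, smul_smul] at hxx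
      rcases oddD_one hxx hr with ⟨l, e' | e'⟩ | ⟨a, b, hab, ha, hb⟩
      · have := congrFun e' j
        by_cases hl : j = l
        · subst hl; simpa [sg] using this
        · simp [sg, hl, h2] at this
      · have := congrFun e' j
        by_cases hl : j = l
        · subst hl; simp [sg, one_add_one_eq_two] at this; exact absurd this h42
        · simp [sg, hl, h2] at this
      · exfalso
        by_cases ha' : a = j
        · subst ha'; simp [sg, hab.symm] at hb
        · simp [sg, ha'] at ha
    · exfalso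
      have h' : ∀ c, ((2 : ZMod r) • (g • (sg r i : Fin m → ZMod r))) c = 2 * (g • (sg r i : Fin m → ZMod r)) c :=
        fun c => rfl
      rcases oddD_two hr hx hab ha hb with ⟨e1, e2⟩ | ⟨he, e1, e2⟩ | ⟨he, e1, e2⟩ <;>
        rcases oddD_two hr hxx hab (by rw [h']; exact mul_ne_zero h2 ha)
          (by rw [h']; exact mul_ne_zero h2 hb) with ⟨f1, f2⟩ | ⟨hf, f1, f2⟩ | ⟨hf, f1, f2⟩ <;>
        simp only [h', e1, e2, mul_one] at f1 f2 <;>
        first | exact h21 f1 | exact h21 f2 | exact h42 f1 | exact h42 f2 | omega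
  choose s ε hε hε2 hs using hcls
  have hsi : Function.Injective s := fun i j e => by
    by_contra hne
    have : (ε j) • (sg r i : Fin m → ZMod r) = ε i • sg r j := MulAction.injective g (by
      show g • (ε j • (sg r i : Fin m → ZMod r)) = g • (ε i • (sg r j : Fin m → ZMod r))
      rw [hlin, hlin, hs, hs, e, smul_comm])
    have := congrFun this i
    simp [sg, hne, hε j] at this
  have hcoord : ∀ (i j : Fin m), i ≠ j → ∀ u v : ZMod r,
      (g • (u • sg r i + v • sg r j : Fin m → ZMod r)) (s i) = u * ε i ∧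
      (g • (u • sg r i + v • sg r j : Fin m → ZMod r)) (s j) = v * ε j := by
    intro i j hij u v
    have hne : s i ≠ s j := fun e => hij (hsi e)
    constructor <;> (simp only [smul_add, hlin, hs]; simp [sg, hne, hne.symm])
  have hadj : ∀ i j : Fin m, i.1 + 1 = j.1 → (s i).1 + 1 = (s j).1 ∨ (s j).1 + 1 = (s i).1 := by
    intro i j hij
    have hne : i ≠ j := fun h => by rw [h] at hij; omega
    have hne' : s i ≠ s j := fun e => hne (hsi e)
    by_cases h11 : ε i = 1 ∧ ε j = 1
    · have hmem := hDg _ (Or.inr (Or.inr (Or.inr ⟨i, j, hij, rfl⟩)) : sg r i + (sg r j + sg r j) ∈ oddD r m)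
      obtain ⟨c1, c2⟩ := hcoord i j hne 1 2
      rw [one_smul, ← hdbl, h11.1, mul_one] at c1
      rw [one_smul, ← hdbl, h11.2, mul_one] at c2
      rcases oddD_two hr hmem hne' (by rw [c1]; exact one_ne_zero) (by rw [c2]; exact h2) with ⟨-, e⟩ | e | e
      · exact absurd (c2.symm.trans e) h21
      · exact Or.inl e.1
      · exact Or.inr e.1
    · have hmem := hDg _ (Or.inr (Or.inr (Or.inl ⟨i, j, hne, rfl⟩)) : sg r i + sg r j ∈ oddD r m)
      obtain ⟨c1, c2⟩ := hcoord i j hne 1 1
      rw [one_smul, one_smul, one_mul] at c1 c2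
      rcases oddD_two hr hmem hne' (by rw [c1]; exact hε i) (by rw [c2]; exact hε j) with ⟨e, e'⟩ | e | e
      · exact absurd ⟨c1.symm.trans e, c2.symm.trans e'⟩ h11
      · exact Or.inl e.1
      · exact Or.inr e.1
  have hss := path_rigid s hsi hadj
  have hg4 : ∀ i : Fin m, g • g • g • g • (sg r i : Fin m → ZMod r) = sg r i := by
    intro i
    simp only [hs, hlin, hss]
    simp only [smul_smul (M := ZMod r)]
    rw [show ε i * (ε (s i) * (ε i * ε (s i))) = ε i * ε i * (ε (s i) * ε (s i)) by ring]
    simp only [hε2, one_mul, one_smul]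
  have hgen : ∀ (h : G), (∀ i : Fin m, h • (sg r i : Fin m → ZMod r) = sg r i) →
      ∀ a : Fin m → ZMod r, h • a = a := by
    intro h hh a
    have ha : a ∈ AddSubgroup.closure (Set.range (sg r (m := m))) := closure_sg (r := r) ▸ AddSubgroup.mem_top a
    induction ha using AddSubgroup.closure_induction with
    | mem x hx => obtain ⟨i, rfl⟩ := hx; exact hh i
    | zero => exact smul_zero h
    | add x y _ _ hx hy => rw [smul_add, hx, hy]
    | neg x _ hx => rw [smul_neg, hx]
  have h4' : ∀ (k : ℕ) (a : Fin m → ZMod r), (g ^ (4 * k)) • a = a := by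
    intro k
    have h := hgen (g ^ 4) fun i => by
      rw [show g ^ 4 = g * (g * (g * g)) by simp [pow_succ, mul_assoc], mul_smul, mul_smul, mul_smul]
      exact hg4 i
    induction k with
    | zero => simp
    | succ k ih => intro a; rw [Nat.mul_succ, pow_add, mul_smul, h, ih]
  obtain ⟨k, hk⟩ := hodd
  have hid : ∀ a : Fin m → ZMod r, g • a = a := by
    intro a
    have hN : ∀ t : ℕ, (g ^ (Nat.card G * t)) = 1 := fun t => by rw [pow_mul, pow_card_eq_one', one_pow]
    -- a multiple of the order is one more than a multiple of four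
    rcases Nat.even_or_odd' k with ⟨l, rfl | rfl⟩
    · have := hN 1
      rw [hk, show (2 * (2 * l) + 1) * 1 = 4 * l + 1 by ring, pow_succ] at this
      calc g • a = g ^ (4 * l) • g • a := (h4' l (g • a)).symm
        _ = a := by rw [← mul_smul, this, one_smul]
    · have := hN 3
      rw [hk, show (2 * (2 * l + 1) + 1) * 3 = 4 * (3 * l + 2) + 1 by ring, pow_succ] at this
      calc g • a = g ^ (4 * (3 * l + 2)) • g • a := (h4' _ (g • a)).symm
        _ = a := by rw [← mul_smul, this, one_smul]
  refine ⟨hid, ?_⟩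
  have hone : ∀ a ∈ oddD r m, d a = 1 := fun a ha => by
    have h := hg a
    rw [hid] at h
    exact mul_right_cancel₀ (oddC_ne 1 one_ne_zero ha) (by rw [one_mul, ← h])
  exact phase_eq_one hd (fun i => hone _ (Or.inl ⟨i, rfl⟩)) (fun i => hone _ (Or.inr (Or.inl ⟨i, rfl⟩)))
    fun i j hij => hone _ (Or.inr (Or.inr (Or.inl ⟨i, j, hij.ne, rfl⟩)))

end Odd

end Cfsg.Agent.BaseTwo
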