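import Cfsg.Agent.BaseTwo.PhaseTwo

/-!
The three- and four-dimensional cases over the field with two elements.
-/

set_option autoImplicit false
set_option maxHeartbeats 1000000

namespace Cfsg.Agent.BaseTwo

variable {K : Type*} [Field K] {n : ℕ} {G : Type*} [Group G]

attribute [local instance] fact_two

theorem three_partners : ∀ z : Fin 3 → ZMod 2, z ≠ 0 → ∃ a b : Fin 3 → ZMod 2,
    (a ≠ 0 ∧ a ≠ z) ∧ (b ≠ 0 ∧ b ≠ z) ∧ (a + b ≠ 0 ∧ a + b ≠ z) ∧ (a + z ≠ 0 ∧ a + z ≠ z) ∧
      (b + z ≠ 0 ∧ b + z ≠ z) ∧ (a + b + z ≠ 0 ∧ a + b + z ≠ z) := by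
  decide

theorem phase_point {d : (Fin 3 → ZMod 2) → K} (hd : IsPhase 2 n d) {z : Fin 3 → ZMod 2} (hz : z ≠ 0)
    (h : ∀ a, a ≠ 0 → a ≠ z → d a = 1) (a : Fin 3 → ZMod 2) : d a = 1 := by
  by_cases ha : a = 0
  · rw [ha]; exact hd.1
  by_cases haz : a = z
  swap
  · exact h a ha haz
  subst haz
  obtain ⟨x, y, hx, hy, hxy, hxz, hyz, hxyz⟩ := three_partners a hz
  have := phase_three hd x y a
  rw [h _ hx.1 hx.2, h _ hy.1 hy.2, h _ hxy.1 hxy.2, h _ hxz.1 hxz.2, h _ hyz.1 hyz.2,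
    h _ hxyz.1 hxyz.2] at this
  simpa using this

theorem closure_off {c : (Fin 3 → ZMod 2) → K} {z : Fin 3 → ZMod 2} (hz : z ≠ 0)
    (h : ∀ a, a ≠ 0 → a ≠ z → c a ≠ 0) : AddSubgroup.closure {a | c a ≠ 0} = ⊤ := by
  rw [eq_top_iff]
  intro x _
  by_cases hx : x = 0
  · rw [hx]; exact zero_mem _
  by_cases hxz : x = z
  · obtain ⟨a, b, ha, -, -, haz, -, -⟩ := three_partners z hz
    have := add_mem (AddSubgroup.subset_closure (show a ∈ {v | c v ≠ 0} from h a ha.1 ha.2))
      (AddSubgroup.subset_closure (show a + z ∈ {v | c v ≠ 0} from h _ haz.1 haz.2))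
    rwa [← add_assoc, vec_add_self, zero_add, ← hxz] at this
  · exact AddSubgroup.subset_closure (h x hx hxz)

section Three

variable [DistribMulAction G (Fin 3 → ZMod 2)]

theorem good_three_point (hn : n ≠ 0) {z : Fin 3 → ZMod 2} (hz : z ≠ 0)
    (hreg : ∀ g : G, g • z = z → ∀ a : Fin 3 → ZMod 2, g • a = a) :
    Good 2 n 3 G (col (K := K) z 0 z 0 z 0) := by
  have hne : ∀ v : Fin 3 → ZMod 2, v ≠ 0 → v ≠ z → col (K := K) z 0 z 0 z 0 v ≠ 0 := fun v hv hvz => by
    simp [col, hv, hvz]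
  refine ⟨if_pos rfl, closure_off hz hne, fun g d hd hg => ?_⟩
  have hfix : g • z = z := by
    by_contra hne'
    have h0 : g • z ≠ 0 := fun h => hz (MulAction.injective g (by show g • _ = g • _; rw [h, smul_zero]))
    exact (nonzero_class hn hd hg z).1 (hne _ h0 hne') (by simp [col])
  have hid := hreg g hfix
  exact ⟨hid, phase_point hd hz fun a ha haz => one_of_id hid hg (hne a ha haz)⟩

theorem sum_ne : ∀ i j : Fin 3, i < j → (sg 2 i + sg 2 j : Fin 3 → ZMod 2) ≠ 0 := by decide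

theorem good_three_three (hn : n ≠ 0) (x y : K) (hx : x ≠ 0) (hy : y ≠ 0) (hx1 : x ^ n ≠ 1)
    (hy1 : y ^ n ≠ 1) (hxy : x ^ n ≠ y ^ n) :
    Good 2 n 3 G (col (sg 2 0) x (sg 2 1) y (sg 2 2) 0) := by
  have e10 : (sg 2 1 : Fin 3 → ZMod 2) ≠ sg 2 0 := fun h => absurd (sg_inj h) (by decide)
  have e20 : (sg 2 2 : Fin 3 → ZMod 2) ≠ sg 2 0 := fun h => absurd (sg_inj h) (by decide)
  have e21 : (sg 2 2 : Fin 3 → ZMod 2) ≠ sg 2 1 := fun h => absurd (sg_inj h) (by decide)
  have hz2 : (sg 2 2 : Fin 3 → ZMod 2) ≠ 0 := sg_ne_zero 2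
  have hne : ∀ v : Fin 3 → ZMod 2, v ≠ 0 → v ≠ sg 2 2 → col (sg 2 0) x (sg 2 1) y (sg 2 2) 0 v ≠ 0 :=
    fun v hv hv2 => col_ne hv hx hy fun h => absurd h hv2
  refine ⟨if_pos rfl, closure_off hz2 hne, fun g d hd hg => ?_⟩
  have h0 : ∀ i : Fin 3, g • (sg 2 i : Fin 3 → ZMod 2) ≠ 0 := fun i h => sg_ne_zero (r := 2) i
    (MulAction.injective g (by show g • _ = g • _; rw [h, smul_zero]))
  have hfix : ∀ i : Fin 3, g • (sg 2 i : Fin 3 → ZMod 2) = sg 2 i := by
    intro i
    have hp := pow_class hd hg (sg 2 i)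
    simp only [col, if_neg (sg_ne_zero i), if_neg (h0 i)] at hp
    have h0n : (0 : K) ^ n = 0 := zero_pow hn
    fin_cases i
    · simp only [Fin.zero_eta] at hp ⊢
      simp only [if_true] at hp
      by_contra hne
      rw [if_neg hne] at hp
      split_ifs at hp
      · exact hxy hp.symm
      · rw [h0n] at hp; exact pow_ne_zero n hx hp.symm
      · exact hx1 (by rw [← hp, one_pow])
    · simp only [Fin.mk_one] at hp ⊢
      simp only [if_neg e10, if_true] at hp
      split_ifs at hp with c1 c2 c3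
      · exact absurd hp hxy
      · exact c2
      · rw [h0n] at hp; exact absurd hp.symm (pow_ne_zero n hy)
      · exact absurd hp.symm (by rwa [one_pow])
    · simp only [Fin.reduceFinMk] at hp ⊢
      simp only [if_neg e20, if_neg e21, if_true, h0n] at hp
      by_contra hne'
      split_ifs at hp <;> first
        | exact pow_ne_zero n hx hp | exact pow_ne_zero n hy hp
        | (rw [one_pow] at hp; exact one_ne_zero hp)
  have hid := id_of_sg g hfix
  exact ⟨hid, phase_point hd hz2 fun a ha haz => one_of_id hid hg (hne a ha haz)⟩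

theorem bv_cases_three : bv 3 1 = sg 2 0 ∧ bv 3 2 = sg 2 1 ∧ bv 3 4 = sg 2 2 := by decide

theorem good_three_coprime [Finite G] [Group.IsSolvable G] (hn : n ≠ 0)
    (h3 : (Nat.card G).Coprime 3) (γ : K) (hγ : γ ≠ 0) (hγn : γ ^ n ≠ 1) :
    ∃ c : (Fin 3 → ZMod 2) → K, Good 2 n 3 G c := by
  classical
  let R := img G 3
  by_cases h7 : 7 ∣ Nat.card R
  · haveI : Fact (Nat.Prime 7) := ⟨by norm_num⟩
    obtain ⟨r, hr⟩ := exists_prime_orderOf_dvd_card' (G := R) 7 h7
    obtain ⟨h, hh⟩ := r.2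
    have hex : ∃ h : G, (∃ x : Fin 3 → ZMod 2, h • x ≠ x) ∧ ∀ x : Fin 3 → ZMod 2, (h ^ 7) • x = x := by
      refine ⟨h, ?_, fun x => ?_⟩
      · by_contra hall
        push_neg at hall
        have : r = 1 := Subtype.ext (by rw [← hh]; exact Equiv.ext hall)
        rw [this, orderOf_one] at hr
        norm_num at hr
      · have h1 : (MulAction.toPermHom G (Fin 3 → ZMod 2) (h ^ 7)) x = x := by
          rw [map_pow, hh, ← SubgroupClass.coe_pow, ← hr, pow_orderOf_eq_one]
          rfl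
        exact h1
    exact ⟨_, good_three_point hn (sg_ne_zero 0) fun g hg =>
      gl3_semiregular vec_add_self (by simp [Nat.card_fun]) h3 hex (sg_ne_zero 0) g hg⟩
  have hR3 : (Nat.card R).Coprime 3 := Nat.Coprime.coprime_dvd_left (Subgroup.card_range_dvd _) h3
  have h2 : IsPGroup 2 R := by
    refine IsPGroup.of_card (n := (Nat.card R).primeFactorsList.length) ?_
    exact Nat.eq_prime_pow_of_unique_prime_dvd Nat.card_pos.ne' fun {d} hd hdd => by
      rcases img_primes (Or.inl rfl) hd hdd with h | h | h | h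
      · exact h
      · subst h; exact absurd (hR3 ▸ Nat.dvd_gcd hdd dvd_rfl : 3 ∣ 1) (by norm_num)
      · subst h; exact absurd hdd h7
      · exact absurd h.2 (by norm_num)
  obtain ⟨e, he⟩ := exists_flag h2
  let z := e (bv 3 7)
  let w := e (sg 2 1)
  have hz : z ≠ 0 := fun h => absurd (e.injective (h.trans (map_zero e).symm)) (by decide)
  have hw : w ≠ 0 := fun h => sg_ne_zero (r := 2) (1 : Fin 3) (e.injective (h.trans (map_zero e).symm))
  have hwz : w ≠ z := fun h => absurd (e.injective h) (by decide)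
  have hne : ∀ v : Fin 3 → ZMod 2, v ≠ 0 → v ≠ z → col w γ w γ z 0 v ≠ 0 :=
    fun v hv hvz => col_ne hv hγ hγ fun h => absurd h hvz
  refine ⟨col w γ w γ z 0, if_pos rfl, closure_off hz hne, fun g d hd hg => ?_⟩
  have h0 : ∀ v : Fin 3 → ZMod 2, v ≠ 0 → g • v ≠ 0 := fun v hv h => hv
    (MulAction.injective g (by show g • _ = g • _; rw [h, smul_zero]))
  have hgz : g • z = z := by
    by_contra hne'
    exact (nonzero_class hn hd hg z).1 (hne _ (h0 z hz) hne') (by simp [col, hz, Ne.symm hwz])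
  have hgw : g • w = w := by
    by_contra hne'
    have hp := pow_class hd hg w
    simp only [col, if_neg hw, if_neg (h0 w hw), if_true, if_neg hne'] at hp
    split_ifs at hp with hq
    · exact absurd hp.symm (by rw [zero_pow hn]; exact pow_ne_zero n hγ)
    · exact hγn (by rw [← hp, one_pow])
  obtain ⟨t, ht, ht0⟩ := he g 0
  have hg0 : g • e (sg 2 0) = e (sg 2 0) := by
    have : t = 0 := by simp at ht; omega
    subst this
    apply e.symm.injective
    rw [ht0, AddEquiv.symm_apply_apply, ← bv_two_pow]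
    rfl
  have hz' : z = e (sg 2 0) + e (sg 2 1) + e (sg 2 2) := by
    rw [← map_add, ← map_add]
    exact congrArg e (show bv 3 7 = _ by decide)
  have hg2 : g • e (sg 2 2) = e (sg 2 2) := by
    rw [hz', smul_add, smul_add, hg0, show g • e (sg 2 1) = e (sg 2 1) from hgw] at hgz
    exact add_left_cancel hgz
  have hall : ∀ i : Fin 3, g • e (sg 2 i) = e (sg 2 i) := by
    intro i
    fin_cases i
    · exact hg0
    · exact hgw
    · exact hg2
  have hid : ∀ a : Fin 3 → ZMod 2, g • a = a := by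
    intro a
    obtain ⟨b, rfl⟩ := e.surjective a
    have hb : b ∈ AddSubgroup.closure (Set.range (sg 2 (m := 3))) := closure_sg (r := 2) ▸ AddSubgroup.mem_top b
    induction hb using AddSubgroup.closure_induction with
    | mem x hx => obtain ⟨i, rfl⟩ := hx; exact hall i
    | zero => rw [map_zero, smul_zero]
    | add x y _ _ hx hy => rw [map_add, smul_add, hx, hy]
    | neg x _ hx => rw [map_neg, smul_neg, hx]
  exact ⟨hid, phase_point hd hz fun a ha haz => one_of_id hid hg (hne a ha haz)⟩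

end Three

/-! ### Dimension four -/

/-- The image of `v` under the map with the given images of the basis. -/
def lin4 (a b c e v : ℕ) : ℕ :=
  (if v.testBit 0 then a else 0) ^^^ (if v.testBit 1 then b else 0) ^^^
    (if v.testBit 2 then c else 0) ^^^ (if v.testBit 3 then e else 0)

theorem bv_lin4 (a b c e v : ℕ) : bv 4 (lin4 a b c e v) =
    (if v.testBit 0 then bv 4 a else 0) + (if v.testBit 1 then bv 4 b else 0) +
      (if v.testBit 2 then bv 4 c else 0) + (if v.testBit 3 then bv 4 e else 0) := by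
  simp only [lin4, bv_xor]
  split_ifs <;> simp [bv_zero]

theorem lin4_std : ∀ v < 16, lin4 1 2 4 8 v = v := by decide

theorem lin4_lt : ∀ v < 16, ∀ a b c e : ℕ, a < 16 → b < 16 → c < 16 → e < 16 → lin4 a b c e v < 16 := by
  intro v _ a b c e ha hb hc he
  have h0 : (0 : ℕ) < 2 ^ 4 := by norm_num
  refine Nat.xor_lt_two_pow (n := 4) (Nat.xor_lt_two_pow (Nat.xor_lt_two_pow ?_ ?_) ?_) ?_ <;>
    split_ifs <;> first | assumption | exact h0

/-- An additive map is `lin4` in the numbering. -/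
theorem apply_lin4 (f : (Fin 4 → ZMod 2) →+ (Fin 4 → ZMod 2)) {a b c e : ℕ} (ha : f (bv 4 1) = bv 4 a)
    (hb : f (bv 4 2) = bv 4 b) (hc : f (bv 4 4) = bv 4 c) (he : f (bv 4 8) = bv 4 e) (v : ℕ) (hv : v < 16) :
    f (bv 4 v) = bv 4 (lin4 a b c e v) := by
  conv_lhs => rw [← lin4_std v hv]
  rw [bv_lin4, bv_lin4]
  split_ifs <;> simp [map_add, ha, hb, hc, he]

theorem sg_four : bv 4 1 = sg 2 0 ∧ bv 4 2 = sg 2 1 ∧ bv 4 4 = sg 2 2 ∧ bv 4 8 = sg 2 3 := by decide

/-- The classes of the rigid colouring of the fifteen points. -/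
def cl4 (v : ℕ) : ℕ :=
  if v = 0 ∨ v = 11 ∨ v = 13 ∨ v = 15 then 0
  else if v = 1 ∨ v = 2 ∨ v = 8 ∨ v = 14 then 1 else 2

theorem lin4_basis (a b c e : ℕ) :
    lin4 a b c e 1 = a ∧ lin4 a b c e 2 = b ∧ lin4 a b c e 4 = c ∧ lin4 a b c e 8 = e := by
  refine ⟨?_, ?_, ?_, ?_⟩ <;> simp [lin4, Nat.testBit, Nat.shiftRight_eq_div_pow]

/-- The boolean rigidity test. -/
def rigidTest : Bool :=
  (List.range 16).all fun a => cl4 a != 1 || ((List.range 16).all fun b => cl4 b != 1 ||
    ((List.range 16).all fun c => cl4 c != 2 || ((List.range 16).all fun e => cl4 e != 1 ||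
      ((List.range 16).any fun v => cl4 (lin4 a b c e v) != cl4 v) ||
      (a == 1 && b == 2 && c == 4 && e == 8))))

set_option maxRecDepth 8000 in
theorem rigidTest_eq : rigidTest = true := by decide +kernel

theorem cl4_rigid (a : ℕ) (ha : a < 16) (ha' : cl4 a = 1) (b : ℕ) (hb : b < 16) (hb' : cl4 b = 1)
    (c : ℕ) (hc : c < 16) (hc' : cl4 c = 2) (e : ℕ) (he : e < 16) (he' : cl4 e = 1)
    (h : ∀ v < 16, cl4 (lin4 a b c e v) = cl4 v) : a = 1 ∧ b = 2 ∧ c = 4 ∧ e = 8 := by
  have t := rigidTest_eq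
  simp only [rigidTest, List.all_eq_true, List.mem_range, Bool.or_eq_true, bne_iff_ne, ne_eq,
    List.any_eq_true, Bool.and_eq_true, beq_iff_eq] at t
  rcases t a ha with t | t
  · exact absurd ha' t
  rcases t b hb with t | t
  · exact absurd hb' t
  rcases t c hc with t | t
  · exact absurd hc' t
  rcases t e he with (t | ⟨v, hv, t⟩) | t
  · exact absurd he' t
  · exact absurd (h v hv) t
  · exact ⟨t.1.1.1, t.1.1.2, t.1.2, t.2⟩

theorem cl4_small : ∀ i j : Fin 4, cl4 (2 ^ i.1) ≠ 0 ∧ (i < j → cl4 (2 ^ i.1 ^^^ 2 ^ j.1) ≠ 0) := by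
  decide

section Four

variable [DistribMulAction G (Fin 4 → ZMod 2)]

/-- The number of a vector. -/
noncomputable def num (a : Fin 4 → ZMod 2) : ℕ := (bv_surj a).choose

theorem num_spec (a : Fin 4 → ZMod 2) : num a < 16 ∧ bv 4 (num a) = a := (bv_surj a).choose_spec

theorem num_bv {v : ℕ} (hv : v < 16) : num (bv 4 v) = v :=
  bv_inj (num_spec _).1 hv (num_spec _).2

theorem good_four_two (hn : n ≠ 0) (γ : K) (hγ : γ ≠ 0) (hγn : γ ^ n ≠ 1) :
    ∃ c : (Fin 4 → ZMod 2) → K, Good 2 n 4 G c := by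
  classical
  let val : ℕ → K := fun k => if k = 0 then 0 else if k = 1 then 1 else γ
  have hval : ∀ i j : ℕ, i ≤ 2 → j ≤ 2 → val i ^ n = val j ^ n → i = j := by
    intro i j hi hj h
    interval_cases i <;> interval_cases j <;> simp [val, zero_pow hn] at h ⊢ <;>
      first
      | exact hγn h | exact hγn h.symm | exact pow_ne_zero n hγ h | exact pow_ne_zero n hγ h.symm
      | exact hγ h | exact hγ h.symm | exact hγ h.1 | exact absurd h hn
  have hcl : ∀ v, cl4 v ≤ 2 := fun v => by unfold cl4; split_ifs <;> omega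
  have hv0 : ∀ k, k ≠ 0 → k ≤ 2 → val k ≠ 0 := fun k h1 h2 => by
    interval_cases k <;> simp_all [val]
  let c : (Fin 4 → ZMod 2) → K := fun a => val (cl4 (num a))
  have hcb : ∀ v < 16, c (bv 4 v) = val (cl4 v) := fun v hv => by simp only [c, num_bv hv]
  have hsg : ∀ i : Fin 4, c (sg 2 i) ≠ 0 := fun i => by
    rw [← bv_two_pow, hcb _ (Nat.pow_lt_pow_right one_lt_two i.2)]
    exact hv0 _ (cl4_small i i).1 (hcl _)
  have hc0 : c 0 = 0 := by rw [← bv_zero, hcb 0 (by norm_num)]; simp [val, cl4]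
  refine ⟨c, hc0, closure_top hsg, fun g d hd hg => ?_⟩
  let f : (Fin 4 → ZMod 2) →+ (Fin 4 → ZMod 2) := DistribMulAction.toAddMonoidHom _ g
  obtain ⟨a, ha, hae⟩ := bv_surj (f (bv 4 1))
  obtain ⟨b, hb, hbe⟩ := bv_surj (f (bv 4 2))
  obtain ⟨x, hx, hxe⟩ := bv_surj (f (bv 4 4))
  obtain ⟨y, hy, hye⟩ := bv_surj (f (bv 4 8))
  have hlin := apply_lin4 f hae.symm hbe.symm hxe.symm hye.symm
  have hcls : ∀ v < 16, cl4 (lin4 a b x y v) = cl4 v := by
    intro v hv
    apply hval _ _ (hcl _) (hcl _)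
    have := pow_class hd hg (bv 4 v)
    rw [show g • bv 4 v = f (bv 4 v) from rfl, hlin v hv, hcb v hv, hcb _ (lin4_lt v hv _ _ _ _ ha hb hx hy)] at this
    exact this
  obtain ⟨rfl, rfl, rfl, rfl⟩ := cl4_rigid a ha (by have := hcls 1 (by norm_num); rwa [(lin4_basis a b x y).1] at this) b hb
    (by have := hcls 2 (by norm_num); rwa [(lin4_basis a b x y).2.1] at this) x hx (by have := hcls 4 (by norm_num); rwa [(lin4_basis a b x y).2.2.1] at this)
    y hy (by have := hcls 8 (by norm_num); rwa [(lin4_basis a b x y).2.2.2] at this) hcls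
  have hid : ∀ v : Fin 4 → ZMod 2, g • v = v := by
    intro v
    obtain ⟨k, hk, rfl⟩ := bv_surj v
    show f (bv 4 k) = _
    rw [hlin k hk, lin4_std k hk]
  refine ⟨hid, phase_one_of_id hd hid hg hsg fun i j hij => ?_⟩
  rw [← bv_two_pow, ← bv_two_pow, ← bv_xor,
    hcb _ (Nat.xor_lt_two_pow (n := 4) (Nat.pow_lt_pow_right one_lt_two i.2) (Nat.pow_lt_pow_right one_lt_two j.2))]
  exact hv0 _ ((cl4_small i j).2 hij) (hcl _)

/-- The support and the sign bit of a certificate. -/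
def inSupp (Z : List ℕ) (v : ℕ) : Bool := v != 0 && !Z.contains v

/-- The sign bit. -/
def sbit (N : List ℕ) (v : ℕ) : ℕ := if N.contains v then 1 else 0

/-- Points at which the signs cannot be changed by a quadratic phase. -/
def violated (Z N : List ℕ) (a b c e : ℕ) : Bool :=
  (List.range 16).any fun x => (List.range 16).any fun y => (List.range 16).any fun z =>
    [x ^^^ y ^^^ z, x, y, z, x ^^^ y, x ^^^ z, y ^^^ z].all (inSupp Z) &&
      ([x ^^^ y ^^^ z, x, y, z, x ^^^ y, x ^^^ z, y ^^^ z].map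
        fun v => sbit N v + sbit N (lin4 a b c e v)).sum % 2 == 1

/-- A candidate passes the test. -/
def passes (Z N : List ℕ) (a b c e : ℕ) : Bool :=
  ((List.range 16).any fun v => inSupp Z (lin4 a b c e v) != inSupp Z v) ||
    (a == 1 && b == 2 && c == 4 && e == 8) || violated Z N a b c e

/-- The companion matrix of the fifth roots of unity. -/
def c5 (v : ℕ) : ℕ := lin4 2 4 8 15 v

/-- The certificate for the unitriangular group. -/
def certU : Bool :=
  (List.range 2).all fun t => (List.range 4).all fun u => (List.range 8).all fun w =>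
    passes [7, 11] [14] 1 (2 ^^^ t) (4 ^^^ u) (8 ^^^ w)

/-- The certificate for the normaliser of a group of order five. -/
def certN : Bool :=
  (List.range 16).all fun w => (List.range 5).all fun k => k == 0 || w == 0 ||
    passes [7] [11] w (c5^[k] w) (c5^[k] (c5^[k] w)) (c5^[k] (c5^[k] (c5^[k] w)))

set_option maxRecDepth 8000 in
theorem certU_eq : certU = true := by decide +kernel

set_option maxRecDepth 8000 in
theorem certN_eq : certN = true := by decide +kernel

theorem neg_one_pow_inj (hK : (-1 : K) ≠ 1) {p q : ℕ} (h : (-1 : K) ^ p = (-1) ^ q) : p % 2 = q % 2 := by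
  rcases Nat.even_or_odd p with hp | hp <;> rcases Nat.even_or_odd q with hq | hq
  · rw [Nat.even_iff.1 hp, Nat.even_iff.1 hq]
  · rw [hp.neg_one_pow, hq.neg_one_pow] at h; exact absurd h.symm hK
  · rw [hp.neg_one_pow, hq.neg_one_pow] at h; exact absurd h hK
  · rw [Nat.odd_iff.1 hp, Nat.odd_iff.1 hq]

/-- A certificate gives a coefficient function. -/
theorem good_of_cert (hn : n = 2) (hK : (-1 : K) ≠ 1) (Z N : List ℕ)
    (hZ : ∀ i j : Fin 4, inSupp Z (2 ^ i.1) = true ∧ (i < j → inSupp Z (2 ^ i.1 ^^^ 2 ^ j.1) = true))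
    (e : (Fin 4 → ZMod 2) ≃+ (Fin 4 → ZMod 2))
    (hcand : ∀ g : G, ∃ a b c f : ℕ, a < 16 ∧ b < 16 ∧ c < 16 ∧ f < 16 ∧ passes Z N a b c f = true ∧
      e.symm (g • e (bv 4 1)) = bv 4 a ∧ e.symm (g • e (bv 4 2)) = bv 4 b ∧
      e.symm (g • e (bv 4 4)) = bv 4 c ∧ e.symm (g • e (bv 4 8)) = bv 4 f) :
    ∃ c : (Fin 4 → ZMod 2) → K, Good 2 n 4 G c := by
  classical
  subst hn
  let c : (Fin 4 → ZMod 2) → K := fun x =>
    if inSupp Z (num (e.symm x)) then (-1) ^ sbit N (num (e.symm x)) else 0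
  have hcb : ∀ v < 16, c (e (bv 4 v)) = if inSupp Z v then (-1) ^ sbit N v else 0 := fun v hv => by
    simp only [c, AddEquiv.symm_apply_apply, num_bv hv]
  have hs : ∀ v < 16, inSupp Z v = true → c (e (bv 4 v)) ≠ 0 := fun v hv h => by
    rw [hcb v hv, if_pos h]; exact pow_ne_zero _ (neg_ne_zero.2 one_ne_zero)
  have hc0 : c 0 = 0 := by
    rw [← map_zero e, ← bv_zero, hcb 0 (by norm_num)]
    simp [inSupp]
  have hclos : AddSubgroup.closure {a | c a ≠ 0} = ⊤ := by
    rw [eq_top_iff]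
    rintro x -
    obtain ⟨y, rfl⟩ := e.surjective x
    have hy : y ∈ AddSubgroup.closure (Set.range (sg 2 (m := 4))) := closure_sg (r := 2) ▸ AddSubgroup.mem_top y
    induction hy using AddSubgroup.closure_induction with
    | mem z hz =>
      obtain ⟨i, rfl⟩ := hz
      refine AddSubgroup.subset_closure ?_
      show c (e (sg 2 i)) ≠ 0
      rw [← bv_two_pow]
      exact hs _ (Nat.pow_lt_pow_right one_lt_two i.2) (hZ i i).1
    | zero => rw [map_zero]; exact zero_mem _
    | add u v _ _ hu hv => rw [map_add]; exact add_mem hu hv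
    | neg u _ hu => rw [map_neg]; exact neg_mem hu
  refine ⟨c, hc0, hclos, fun g d hd hg => ?_⟩
  obtain ⟨a, b, x, y, ha, hb, hx, hy, hpass, hae, hbe, hxe, hye⟩ := hcand g
  let f : (Fin 4 → ZMod 2) →+ (Fin 4 → ZMod 2) :=
    (e.symm.toAddMonoidHom.comp (DistribSMul.toAddMonoidHom _ g)).comp e.toAddMonoidHom
  have hlin := apply_lin4 f hae hbe hxe hye
  have hgv : ∀ v < 16, g • e (bv 4 v) = e (bv 4 (lin4 a b x y v)) := fun v hv => by
    rw [← hlin v hv]
    exact (e.apply_symm_apply _).symm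
  have hl : ∀ v < 16, lin4 a b x y v < 16 := fun v hv => lin4_lt v hv _ _ _ _ ha hb hx hy
  have hsupp : ∀ v < 16, inSupp Z (lin4 a b x y v) = inSupp Z v := by
    intro v hv
    have h := nonzero_class (n := 2) two_ne_zero hd hg (e (bv 4 v))
    rw [hgv v hv, hcb v hv, hcb _ (hl v hv)] at h
    cases h1 : inSupp Z v <;> cases h2 : inSupp Z (lin4 a b x y v) <;> simp_all
  have hd' : ∀ v < 16, inSupp Z v = true → d (e (bv 4 v)) = (-1) ^ (sbit N v + sbit N (lin4 a b x y v)) := by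
    intro v hv hsv
    have h := hg (e (bv 4 v))
    rw [hgv v hv, hcb v hv, hcb _ (hl v hv), if_pos hsv, if_pos ((hsupp v hv).trans hsv)] at h
    have hsq : ((-1 : K) ^ sbit N v) * (-1) ^ sbit N v = 1 := by
      rw [← mul_pow, neg_one_mul, neg_neg, one_pow]
    rw [pow_add, h, mul_comm (d _), ← mul_assoc, hsq, one_mul]
  simp only [passes, Bool.or_eq_true, List.any_eq_true, List.mem_range, bne_iff_ne, ne_eq,
    Bool.and_eq_true, beq_iff_eq] at hpass
  rcases hpass with (⟨v, hv, hne⟩ | h) | hviol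
  · exact absurd (hsupp v hv) hne
  · obtain ⟨⟨⟨rfl, rfl⟩, rfl⟩, rfl⟩ := h
    have hid : ∀ v : Fin 4 → ZMod 2, g • v = v := by
      intro v
      obtain ⟨k, hk, hkv⟩ := bv_surj (e.symm v)
      have := hgv k hk
      rwa [lin4_std k hk, hkv, AddEquiv.apply_symm_apply] at this
    refine ⟨hid, fun v => ?_⟩
    -- transport the phase to the coordinates of `e`
    have hd2 : IsPhase 2 2 (fun u => d (e u)) := by
      obtain ⟨h0, h1, Φ, h2, h3, h4, h5⟩ := hd
      exact ⟨by simp [h0], fun u => h1 _, fun u w => Φ (e u) (e w), fun u w => h2 _ _,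
        fun u w z => by simp [h3], fun u w z => by simp [h4], fun u w => by simp [h5]⟩
    have hone : ∀ w < 16, inSupp Z w = true → d (e (bv 4 w)) = 1 := fun w hw hsw =>
      one_of_id hid hg (hs w hw hsw)
    have := phase_eq_one hd2
      (fun i => by
        show d (e (sg 2 i)) = 1
        rw [← bv_two_pow]; exact hone _ (Nat.pow_lt_pow_right one_lt_two i.2) (hZ i i).1)
      (fun i => by rw [vec_add_self]; exact hd2.1)
      (fun i j hij => by
        show d (e (sg 2 i + sg 2 j)) = 1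
        rw [← bv_two_pow, ← bv_two_pow, ← bv_xor]
        exact hone _ (Nat.xor_lt_two_pow (n := 4) (Nat.pow_lt_pow_right one_lt_two i.2)
          (Nat.pow_lt_pow_right one_lt_two j.2)) ((hZ i j).2 hij))
      (e.symm v)
    simpa using this
  · exfalso
    simp only [violated, List.any_eq_true, List.mem_range, Bool.and_eq_true, List.all_eq_true,
      List.mem_cons, List.not_mem_nil, or_false, forall_eq_or_imp, forall_eq, List.map_cons, List.map_nil,
      List.sum_cons, List.sum_nil, add_zero, beq_iff_eq] at hviol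
    obtain ⟨u, hu, v, hv, w, hw, ⟨s1, s2, s3, s4, s5, s6, s7⟩, hodd⟩ := hviol
    have hxor : ∀ p q : ℕ, p < 16 → q < 16 → p ^^^ q < 16 := fun p q hp hq => Nat.xor_lt_two_pow (n := 4) hp hq
    have h3 := phase_three hd (e (bv 4 u)) (e (bv 4 v)) (e (bv 4 w))
    rw [← map_add, ← map_add, ← map_add, ← map_add, ← bv_xor, ← bv_xor, ← bv_xor, ← bv_xor] at h3
    rw [hd' _ (hxor _ _ (hxor _ _ hu hv) hw) s1, hd' u hu s2, hd' v hv s3, hd' w hw s4,
      hd' _ (hxor _ _ hu hv) s5, hd' _ (hxor _ _ hu hw) s6, hd' _ (hxor _ _ hv hw) s7] at h3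
    simp only [← pow_add] at h3
    have := neg_one_pow_inj hK h3
    omega

theorem suppU : ∀ i j : Fin 4, inSupp [7, 11] (2 ^ i.1) = true ∧
    (i < j → inSupp [7, 11] (2 ^ i.1 ^^^ 2 ^ j.1) = true) := by decide

theorem suppN : ∀ i j : Fin 4, inSupp [7] (2 ^ i.1) = true ∧
    (i < j → inSupp [7] (2 ^ i.1 ^^^ 2 ^ j.1) = true) := by decide

theorem bv_c5 : ∀ v < 16, (fun i => ![bv 4 v 3, bv 4 v 0 + bv 4 v 3, bv 4 v 1 + bv 4 v 3, bv 4 v 2 + bv 4 v 3] i)
    = bv 4 (c5 v) := by decide +kernel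

theorem c5_lt : ∀ v < 16, c5 v < 16 := by decide +kernel

/-- Field with three elements in dimension four. -/
theorem good_four_three [Finite G] [Group.IsSolvable G] (hn : n = 2) (hK : (-1 : K) ≠ 1)
    (h3 : (Nat.card G).Coprime 3) (h7 : ¬ 7 ∣ Nat.card (img G 4)) :
    ∃ c : (Fin 4 → ZMod 2) → K, Good 2 n 4 G c := by
  rcases four_cases h3 h7 with hR | ⟨e, he⟩
  · obtain ⟨e, he⟩ := exists_flag hR
    refine good_of_cert hn hK [7, 11] [14] suppU e fun g => ?_
    obtain ⟨t0, ht0, he0⟩ := he g 0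
    obtain ⟨t1, ht1, he1⟩ := he g 1
    obtain ⟨t2, ht2, he2⟩ := he g 2
    obtain ⟨t3, ht3, he3⟩ := he g 3
    have e0 : t0 = 0 := by simp at ht0; omega
    subst e0
    have hb : ∀ j : Fin 4, bv 4 (2 ^ j.1) = sg 2 j := fun j => bv_two_pow j
    have hc := certU_eq
    simp only [certU, List.all_eq_true, List.mem_range] at hc
    refine ⟨1, 2 ^^^ t1, 4 ^^^ t2, 8 ^^^ t3, by norm_num,
      Nat.xor_lt_two_pow (n := 4) (by norm_num) (lt_of_lt_of_le ht1 (by decide)),
      Nat.xor_lt_two_pow (n := 4) (by norm_num) (lt_of_lt_of_le ht2 (by decide)),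
      Nat.xor_lt_two_pow (n := 4) (by norm_num) (lt_of_lt_of_le ht3 (by decide)),
      hc t1 ht1 t2 ht2 t3 ht3, ?_, ?_, ?_, ?_⟩
    · conv_lhs => rw [sg_four.1, he0]
      rfl
    · conv_lhs => rw [sg_four.2.1, he1]
      rfl
    · conv_lhs => rw [sg_four.2.2.1, he2]
      rfl
    · conv_lhs => rw [sg_four.2.2.2, he3]
      rfl
  · refine good_of_cert hn hK [7] [11] suppN e fun g => ?_
    obtain ⟨k, hk1, hk4, hk⟩ := he g
    obtain ⟨w, hw, hwe⟩ := bv_surj (e.symm (g • e (bv 4 1)))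
    have hit : ∀ (j : ℕ) (v : ℕ), v < 16 →
        (fun b i => ![b 3, b 0 + b 3, b 1 + b 3, b 2 + b 3] i)^[j] (bv 4 v) = bv 4 (c5^[j] v) ∧ c5^[j] v < 16 := by
      intro j v hv
      induction j with
      | zero => exact ⟨rfl, hv⟩
      | succ j ih =>
        rw [Function.iterate_succ_apply', Function.iterate_succ_apply', ih.1]
        exact ⟨bv_c5 _ ih.2, c5_lt _ ih.2⟩
    have hstep : ∀ v u : ℕ, v < 16 → u < 16 → e.symm (g • e (bv 4 v)) = bv 4 u →
        e.symm (g • e (bv 4 (c5 v))) = bv 4 (c5^[k] u) := by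
      intro v u hv hu h
      rw [← bv_c5 v hv, hk, h]
      exact (hit k u hu).1
    have w1 := (hit k w hw).2
    have w2 := (hit k _ w1).2
    have h2 := hstep 1 w (by norm_num) hw hwe.symm
    have h4 := hstep 2 _ (by norm_num) w1 h2
    have h8 := hstep 4 _ (by norm_num) w2 h4
    have hc := certN_eq
    simp only [certN, List.all_eq_true, List.mem_range, Bool.or_eq_true, beq_iff_eq] at hc
    have hw0 : w ≠ 0 := fun h0 => by
      subst h0
      rw [bv_zero, eq_comm, AddEquiv.map_eq_zero_iff] at hwe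
      have h1 := (smul_eq_zero_iff_eq g).1 hwe
      rw [AddEquiv.map_eq_zero_iff, sg_four.1] at h1
      exact sg_ne_zero (0 : Fin 4) h1
    rcases hc w hw k (by omega) with (h | h) | h
    · omega
    · exact absurd h hw0
    · exact ⟨w, _, _, _, hw, w1, w2, (hit k _ w2).2, h, hwe.symm, h2, h4, h8⟩

end Four

end Cfsg.Agent.BaseTwo
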