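import Cfsg.Agent.BaseTwo.Scalar

/-!
Systems with a quaternion middle part over a field without a square root of minus one.
-/

set_option autoImplicit false
set_option maxHeartbeats 1000000

namespace Cfsg.Agent.BaseTwo.Frame

variable {m : ℕ} {K V A Ω : Type*} [Field K] [AddCommGroup V] [Module K V] [Group A]
  [DistribMulAction A V] [AddCommGroup Ω] [DistribMulAction A Ω] [Nontrivial V] [Finite A]

local instance : Fact (Nat.Prime 2) := ⟨Nat.prime_two⟩

variable {S : PS 2 2 K V A Ω} (F : Frame S m (ZMod 2 × ZMod 2))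

theorem zmod_pairs : ∀ h : ZMod 2 × ZMod 2, h = 0 ∨ h = (1, 0) ∨ h = (0, 1) ∨ h = (1, 0) + (0, 1) := by
  decide

theorem iterate_shift {g : A} {x y : V} {s : K} (hgx : g • x = x) (hgy : g • y = y + s • x)
    (hσ : S.σ g s = s) : ∀ k : ℕ, g ^ k • y = y + (k * s) • x := by
  have hk : ∀ k : ℕ, S.σ g (k * s) = k * s := fun k => by rw [map_mul, map_natCast, hσ]
  intro k
  induction k with
  | zero => simp
  | succ k ih =>
    rw [pow_succ', mul_smul, ih, smul_add, hgy, S.semi, hk, hgx, Nat.cast_succ, add_mul, one_mul, add_smul]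
    abel

theorem root_two {c : K} (hc : c ^ 2 = 1) : c = 1 ∨ c = -1 := sq_eq_one_iff.1 hc

/-- A quaternion system with good colourings. -/
theorem solvable_quaternion (h2 : (2 : K) ≠ 0) (hA : (Nat.card A : K) ≠ 0) (hsq : ∀ k : K, k * k ≠ -1)
    (s t : K) (hst : s * s + t * t = -1) (hs : ∀ g, S.σ g s = s) (ht : ∀ g, S.σ g t = t)
    (hAA : ∀ z, S.op (F.H (1, 0)) (S.op (F.H (1, 0)) z) = -z)
    (hBB : ∀ z, S.op (F.H (0, 1)) (S.op (F.H (0, 1)) z) = -z)
    (hAB : ∀ z, S.op (F.H (0, 1)) (S.op (F.H (1, 0)) z) = -S.op (F.H (1, 0)) (S.op (F.H (0, 1)) z))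
    (hgood : ∀ (x : V) (hx : x ≠ 0) (hl : F.LFix x)
      (hgen : ∀ (h : ZMod 2 × ZMod 2) (c : K), S.op (F.H h) x = c • x → h = 0),
      letI := F.stabAction hx hl hgen
      ∃ c : (Fin m → ZMod 2) → K, Good 2 2 m (MulAction.stabilizer A x) c) :
    S.Solvable := by
  have h2' : ((2 : ℕ) : K) ≠ 0 := by exact_mod_cast h2
  set a := S.op (F.H (1, 0)) with ha
  set b := S.op (F.H (0, 1)) with hb
  have ht0 : t ≠ 0 := fun h => hsq s (by rw [← hst, h, mul_zero, add_zero])
  have hs0 : s ≠ 0 := fun h => hsq t (by rw [← hst, h, mul_zero, zero_add])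
  let u : Module.End K V := s • a + t • b
  have hua : a ∈ F.algH := Submodule.subset_span ⟨_, rfl⟩
  have hub : b ∈ F.algH := Submodule.subset_span ⟨_, rfl⟩
  have humem : u ∈ F.algH := add_mem (Submodule.smul_mem _ _ hua) (Submodule.smul_mem _ _ hub)
  have huv : ∀ z, u z = s • a z + t • b z := fun z => rfl
  have huu : ∀ z, u (u z) = z := fun z => by
    simp only [huv, map_add, map_smul, smul_add, smul_smul, hAA, hBB, hAB, smul_neg, ← neg_smul]
    match_scalars
    · linear_combination -hst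
    · ring
  refine ⟨insert u (Set.range fun i => S.op (F.L (Pi.single i 1))), ?_, ?_, ?_⟩
  · rintro e (rfl | ⟨i, rfl⟩)
    · exact F.algH_le humem
    · exact S.op_mem _
  · intro U hU hne
    obtain ⟨z, hzU, hz, hl⟩ := F.exists_lfix h2' U hU hne
    have hfix : ∀ w, F.LFix w → u w = w → ∀ e ∈ insert u (Set.range fun i => S.op (F.L (Pi.single i 1))), e w = w := by
      rintro w hw hu e (rfl | ⟨i, rfl⟩)
      exacts [hu, hw i]
    have haU : ∀ w ∈ U, a w ∈ U ∧ b w ∈ U ∧ u w ∈ U := fun w hw =>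
      ⟨hU _ _ hw, hU _ _ hw, huv w ▸ add_mem (U.smul_mem _ (hU _ _ hw)) (U.smul_mem _ (hU _ _ hw))⟩
    by_cases h0 : z + u z = 0
    · refine ⟨a (b z), (haU _ (haU z hzU).2.1).1, fun h => hz ?_, hfix _ (F.algH_lfix hua (F.algH_lfix hub hl)) ?_⟩
      · exact S.op_inj (F.H (0, 1)) ((S.op_inj (F.H (1, 0)) (h.trans (map_zero _).symm)).trans (map_zero _).symm)
      · have hzu : u z = -z := eq_neg_of_add_eq_zero_right h0
        rw [huv]
        have e := congrArg (fun w => a (b w)) hzu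
        simp only [huv, map_add, map_smul, map_neg] at e
        simp only [hAA, hBB, hAB, map_neg, smul_neg] at e ⊢
        linear_combination (norm := module) -e
    · refine ⟨z + u z, add_mem hzU (haU z hzU).2.2, h0, hfix _ (fun i => ?_) ?_⟩
      · rw [map_add, hl i, F.algH_lfix humem hl i]
      · rw [map_add, huu, add_comm]
  intro x hx hfix
  have hl : F.LFix x := fun i => hfix _ (Or.inr ⟨i, rfl⟩)
  have hux : u x = x := hfix _ (Or.inl rfl)
  rw [huv] at hux
  -- the middle operators on the fixed vector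
  have hbx : b x = t⁻¹ • x + (-(t⁻¹ * s)) • a x := by
    have : t • b x = x - s • a x := eq_sub_of_add_eq' hux
    calc b x = t⁻¹ • t • b x := (inv_smul_smul₀ ht0 _).symm
      _ = _ := by rw [this, smul_sub, smul_smul, neg_smul, sub_eq_add_neg]
  have habx : a (b x) = (t⁻¹ * s) • x + t⁻¹ • a x := by
    rw [hbx, map_add, map_smul, map_smul, hAA, smul_neg, ← neg_smul, neg_neg, add_comm]
  have hindep : ∀ α β : K, α • x + β • a x = 0 → α = 0 ∧ β = 0 := by
    intro α β h
    by_cases hβ : β = 0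
    · rw [hβ, zero_smul, add_zero] at h
      exact ⟨(smul_eq_zero.1 h).resolve_right hx, hβ⟩
    exfalso
    have hax : a x = (-(β⁻¹ * α)) • x := by
      have : β • a x = -(α • x) := eq_neg_of_add_eq_zero_right h
      calc a x = β⁻¹ • β • a x := (inv_smul_smul₀ hβ _).symm
        _ = _ := by rw [this, smul_neg, smul_smul, neg_smul]
    have h1 := hAA x
    rw [hax, map_smul, hax, smul_smul, ← neg_one_smul K x] at h1
    exact hsq _ (PS.smul_inj hx h1)
  have hspan : ∀ h : ZMod 2 × ZMod 2, ∃ α β : K, (∀ g, S.σ g α = α ∧ S.σ g β = β) ∧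
      S.op (F.H h) x = α • x + β • a x := by
    intro h
    have hti : ∀ g, S.σ g t⁻¹ = t⁻¹ := fun g => by rw [map_inv₀, ht]
    rcases zmod_pairs h with rfl | rfl | rfl | rfl
    · exact ⟨1, 0, fun g => ⟨map_one _, map_zero _⟩, by
        rw [map_zero, S.op_zero, one_smul, zero_smul, add_zero]; rfl⟩
    · exact ⟨0, 1, fun g => ⟨map_zero _, map_one _⟩, by rw [zero_smul, one_smul, zero_add]⟩
    · exact ⟨_, _, fun g => ⟨hti g, by rw [map_neg, map_mul, hti, hs]⟩, hbx⟩
    · obtain ⟨c, hc, hcc⟩ := S.op_mul (F.H (1, 0)) (F.H (0, 1))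
      have hx' := hcc x
      rw [← map_add] at hx'
      refine ⟨c * (t⁻¹ * s), c * t⁻¹, fun g => ?_, ?_⟩
      · rcases root_two hc with rfl | rfl <;> simp [hti, hs]
      · have hcc1 : c * c = 1 := by rw [← pow_two, hc]
        rw [mul_smul c, mul_smul c, ← smul_add, ← habx, hx', smul_smul, hcc1, one_smul]
  have hgen : ∀ (h : ZMod 2 × ZMod 2) (c : K), S.op (F.H h) x = c • x → h = 0 := by
    intro h c hc
    by_contra hne
    have hax : a x = 0 • x + (1 : K) • a x := by simp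
    rcases zmod_pairs h with rfl | rfl | rfl | rfl
    · exact hne rfl
    · exact one_ne_zero (hindep (-c) 1 (by rw [one_smul, neg_smul, ← hc]; exact neg_add_cancel _)).2
    · have h1 := (hindep (t⁻¹ - c) (-(t⁻¹ * s)) (by rw [sub_smul, ← hc, ← hb, hbx]; abel)).2
      exact mul_ne_zero (inv_ne_zero ht0) hs0 (neg_eq_zero.1 h1)
    · obtain ⟨d, hd, hdd⟩ := S.op_mul (F.H (1, 0)) (F.H (0, 1))
      have hx' := hdd x
      rw [← map_add, hc, smul_smul, ← ha, ← hb, habx] at hx'
      have h1 := (hindep (t⁻¹ * s - d * c) t⁻¹ (by rw [sub_smul, ← hx']; abel)).2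
      exact inv_ne_zero ht0 h1
  refine F.solve_scalar h2' hx hl hgen ((2 : K)⁻¹ • (1 + u))
    (Submodule.smul_mem _ _ (add_mem S.one_mem_alg (F.algH_le humem))) ?_ ?_ a hua ?_ (hgood x hx hl hgen)
  · simp only [LinearMap.smul_apply, LinearMap.add_apply, Module.End.one_apply, huv, hux]
    rw [← two_smul K x, smul_smul, inv_mul_cancel₀ h2, one_smul]
  · intro h
    obtain ⟨α, β, -, e⟩ := hspan h
    refine ⟨α - β * s, ?_⟩
    have hab : b (a x) = (-(t⁻¹ * s)) • x + (-t⁻¹) • a x := by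
      rw [hAB, habx]; module
    simp only [e, LinearMap.smul_apply, LinearMap.add_apply, Module.End.one_apply, map_add, map_smul, huv, hux,
      hAA, hab, smul_add, smul_smul, smul_neg, ← neg_smul]
    match_scalars <;> field_simp <;> ring
  intro g hg c hgc
  obtain ⟨κ, hκ, eκ⟩ := S.conj g (F.H (1, 0))
  have hga : g • a x = κ • S.op (g • F.H (1, 0)) x := by rw [ha, eκ, hg]
  have hT := F.ccoord hx hg hl hgen (w := F.H (1, 0))
    (by rw [show F.ι.symm (F.H (1, 0)) = ((0, 0), (1, 0)) from F.ι.symm_apply_apply _])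
  obtain ⟨d, hd, ed⟩ := S.op_mul (F.H (F.ι.symm (g • F.H (1, 0))).2) (F.L (F.ι.symm (g • F.H (1, 0))).1.2)
  obtain ⟨l, hl', el⟩ := F.op_L (F.ι.symm (g • F.H (1, 0))).1.2
  have h1 := ed x
  rw [el x hl, map_smul, add_comm (F.H _), ← F.iota_L_H _ hT] at h1
  obtain ⟨α, β, hαβ, e⟩ := hspan (F.ι.symm (g • F.H (1, 0))).2
  have hfixed : ∀ k : K, k ^ 2 = 1 → S.σ g k = k := fun k hk => by
    rcases root_two hk with rfl | rfl <;> simp
  have hga' : g • a x = (κ * d⁻¹ * l * α) • x + (κ * d⁻¹ * l * β) • a x := by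
    rw [hga, ← inv_smul_smul₀ (S.root_ne hd) (S.op (g • F.H (1, 0)) x), ← h1, e]
    module
  have hco : κ * d⁻¹ * l * α = c ∧ κ * d⁻¹ * l * β = 1 := by
    have := hindep (κ * d⁻¹ * l * α - c) (κ * d⁻¹ * l * β - 1) (by
      rw [← sub_eq_zero.2 hgc, hga']; module)
    exact ⟨sub_eq_zero.1 this.1, sub_eq_zero.1 this.2⟩
  have hσc : S.σ g c = c := by
    rw [← hco.1, map_mul, hfixed _ (by rw [mul_pow, mul_pow, hκ, hl', S.root_inv hd, one_mul, one_mul]), (hαβ g).1]
  have hgc' : g • a x = a x + c • x := by rw [← hgc]; abel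
  have hN := iterate_shift (S := S) hg hgc' hσc (Nat.card A)
  rw [pow_card_eq_one', one_smul, left_eq_add] at hN
  have hc0 : c = 0 := (mul_eq_zero.1 ((smul_eq_zero.1 hN).resolve_right hx)).resolve_left hA
  refine ⟨hc0, fun hσ h => ?_⟩
  obtain ⟨α', β', -, e'⟩ := hspan h
  rw [e', smul_add, S.semi, S.semi, hσ, RingEquiv.refl_apply, RingEquiv.refl_apply, hg, hgc', hc0, zero_smul,
    add_zero]

end Cfsg.Agent.BaseTwo.Frame
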