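import Cfsg.Agent.BaseTwo.Local
import Mathlib.GroupTheory.GroupAction.SubMulAction

/-!
Local solutions with scalar coefficients on the frame: the systems whose middle part is
trivial or quaternion.
-/

set_option autoImplicit false
set_option maxHeartbeats 1000000

namespace Cfsg.Agent.BaseTwo.Frame

variable {r n m : ℕ} [Fact r.Prime] {K V A Ω Q : Type*} [Field K] [AddCommGroup V] [Module K V] [Group A]
  [DistribMulAction A V] [AddCommGroup Ω] [DistribMulAction A Ω] [AddCommGroup Q] [Nontrivial V]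
  {S : PS r n K V A Ω} (F : Frame S m Q)

/-- The stabiliser of a generic fixed vector acts on the frame. -/
@[reducible] def stabAction {x : V} (hx : x ≠ 0) (hl : F.LFix x)
    (hgen : ∀ (h : Q) (c : K), S.op (F.H h) x = c • x → h = 0) :
    DistribMulAction (MulAction.stabilizer A x) (Fin m → ZMod r) where
  smul g a := F.proj g.1 a
  one_smul a := F.proj_one a
  mul_smul g h a := F.proj_mul x hx g.2 hl hgen a
  smul_zero g := map_zero (F.proj g.1)
  smul_add g a b := map_add (F.proj g.1) a b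

variable [Finite A]

/-- A frame with a good scalar colouring. -/
theorem solve_scalar (hrK : (r : K) ≠ 0) {x : V} (hx : x ≠ 0) (hl : F.LFix x)
    (hgen : ∀ (h : Q) (c : K), S.op (F.H h) x = c • x → h = 0)
    (PQ : Module.End K V) (hPQm : PQ ∈ S.alg) (hPQ : PQ x = x)
    (hPQH : ∀ h, ∃ k : K, PQ (S.op (F.H h) x) = k • x)
    (f0 : Module.End K V) (hf0 : f0 ∈ F.algH)
    (hin : ∀ g : A, g • x = x → ∀ s : K, g • f0 x - f0 x = s • x →
      s = 0 ∧ (S.σ g = RingEquiv.refl K → ∀ h, g • S.op (F.H h) x = S.op (F.H h) x))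
    (hgood : letI := F.stabAction hx hl hgen
      ∃ c : (Fin m → ZMod r) → K, Good r n m (MulAction.stabilizer A x) c) :
    S.SolvedAt x := by
  letI := F.stabAction hx hl hgen
  obtain ⟨c, hc0, hcl, hc⟩ := hgood
  refine F.solve hrK hx hl hgen PQ hPQm hPQ hPQH f0 hf0 (fun a => c a • 1)
    (fun a => Submodule.smul_mem _ _ F.one_mem_algH) (by simp [hc0]) hin ?_
  intro g hg d h hd hd0 hphase hrel
  simp only [LinearMap.smul_apply, Module.End.one_apply, map_smul, smul_smul] at hrel
  have hh : ∀ a, c a ≠ 0 → h a = 0 := by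
    intro a ha
    refine hgen _ ((d a * c a)⁻¹ * c (F.proj g a)) ?_
    rw [mul_smul, hrel a, inv_smul_smul₀ (mul_ne_zero (S.root_ne (hd a)) ha)]
  have hh0 : ∀ a, h a = 0 := by
    intro a
    have ha : a ∈ AddSubgroup.closure {a | c a ≠ 0} := hcl ▸ AddSubgroup.mem_top a
    exact (AddSubgroup.closure_le h.ker).2 hh ha
  obtain ⟨hid, hd1⟩ := hc ⟨g, hg⟩ d (hphase hh0) fun a => by
    have := hrel a
    rw [hh0, map_zero, S.op_zero, Module.End.one_apply] at this
    exact PS.smul_inj hx this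
  exact ⟨hid, hh0, hd1⟩

theorem h_zero [Subsingleton Q] (h : Q) : F.H h = 0 := by
  rw [Subsingleton.elim h 0, map_zero]

/-- A split system with good colourings. -/
theorem solvable_split [Subsingleton Q] (hrK : (r : K) ≠ 0)
    (hgood : ∀ (x : V) (hx : x ≠ 0) (hl : F.LFix x)
      (hgen : ∀ (h : Q) (c : K), S.op (F.H h) x = c • x → h = 0),
      letI := F.stabAction hx hl hgen
      ∃ c : (Fin m → ZMod r) → K, Good r n m (MulAction.stabilizer A x) c) :
    S.Solvable := by
  refine ⟨Set.range fun i => S.op (F.L (Pi.single i 1)), ?_, ?_, ?_⟩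
  · rintro _ ⟨i, rfl⟩; exact S.op_mem _
  · intro U hU hne
    obtain ⟨x, hxU, hx, hl⟩ := F.exists_lfix hrK U hU hne
    exact ⟨x, hxU, hx, by rintro _ ⟨i, rfl⟩; exact hl i⟩
  intro x hx hfix
  have hl : F.LFix x := fun i => hfix _ ⟨i, rfl⟩
  have hgen : ∀ (h : Q) (c : K), S.op (F.H h) x = c • x → h = 0 := fun h _ _ => Subsingleton.elim h 0
  refine F.solve_scalar hrK hx hl hgen 1 S.one_mem_alg rfl
    (fun h => ⟨1, by rw [F.h_zero, S.op_zero, one_smul]; rfl⟩) 0 (zero_mem _) ?_ (hgood x hx hl hgen)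
  intro g hg s hs
  simp only [LinearMap.zero_apply, smul_zero, sub_zero] at hs
  exact ⟨(smul_eq_zero.1 hs.symm).resolve_right hx, fun _ h => by rw [F.h_zero, S.op_zero]; exact hg⟩

end Cfsg.Agent.BaseTwo.Frame
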