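import Mathlib
import Cfsg.Agent.Core.MinimalNormal
import Cfsg.Agent.PrimReduce.Basic

/-!
Small facts for base size two: the permutations preserving the interval triples, the conjugates
of the reversal, and coprime groups on a space with eight elements.
-/

set_option autoImplicit false
set_option maxHeartbeats 1000000

namespace Cfsg.Agent.BaseTwo

/-- `s` is one of the triples of consecutive elements. -/
def IsTriple {k : ℕ} (s : Finset (Fin k)) : Prop :=
  ∃ i : ℕ, i + 2 < k ∧ s = Finset.univ.filter fun j : Fin k => i ≤ j.1 ∧ j.1 ≤ i + 2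

/-- The triple starting at `i`. -/
def triple (k i : ℕ) : Finset (Fin k) :=
  Finset.univ.filter fun j : Fin k => i ≤ j.1 ∧ j.1 ≤ i + 2

theorem mem_triple {k i : ℕ} {j : Fin k} : j ∈ triple k i ↔ i ≤ j.1 ∧ j.1 ≤ i + 2 := by
  simp [triple]

theorem triple_inj {k i i' : ℕ} (hi : i + 2 < k) (hi' : i' + 2 < k)
    (h : triple k i = triple k i') : i = i' := by
  have h1 : (⟨i, by omega⟩ : Fin k) ∈ triple k i' := by
    rw [← h, mem_triple]; simp
  have h2 : (⟨i', by omega⟩ : Fin k) ∈ triple k i := by
    rw [h, mem_triple]; simp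
  rw [mem_triple] at h1 h2
  simp only at h1 h2
  omega

/-- A permutation preserving the triples of consecutive elements fixes them or reverses them. -/
theorem intervals_rigid {k : ℕ} (hk : 5 ≤ k) (π : Equiv.Perm (Fin k))
    (hπ : ∀ i, i + 2 < k → ∃ i', i' + 2 < k ∧ (triple k i).map π.toEmbedding = triple k i') :
    π = 1 ∨ π = Fin.revPerm := by
  classical
  let f : Fin (k - 2) → Fin (k - 2) := fun i =>
    ⟨(hπ i.1 (by omega)).choose, by
      have := (hπ i.1 (by omega)).choose_spec.1
      omega⟩
  have hf : ∀ i : Fin (k - 2), (triple k i.1).map π.toEmbedding = triple k (f i).1 := fun i =>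
    (hπ i.1 (by omega)).choose_spec.2
  have hfi : Function.Injective f := fun i j h => by
    have h1 := hf i
    rw [h, ← hf j] at h1
    exact Fin.ext (triple_inj (by omega) (by omega) (Finset.map_injective _ h1))
  have hfs : Function.Surjective f := Finite.injective_iff_surjective.1 hfi
  have hmem : ∀ (i : Fin (k - 2)) (j : Fin k), π j ∈ triple k (f i).1 ↔ j ∈ triple k i.1 := by
    intro i j
    rw [← hf i]
    exact Finset.mem_map' _
  have h0 : ∀ (σ : Equiv.Perm (Fin k)) (f : Fin (k - 2) → Fin (k - 2)), Function.Surjective f →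
      (∀ (i : Fin (k - 2)) (j : Fin k), σ j ∈ triple k (f i).1 ↔ j ∈ triple k i.1) →
      (σ ⟨0, by omega⟩).1 = 0 → σ = 1 := by
    intro σ f hfs hmem h00
    have hf0 : (f ⟨0, by omega⟩).1 = 0 := by
      have := (hmem ⟨0, by omega⟩ ⟨0, by omega⟩).2 (by rw [mem_triple]; simp)
      rw [mem_triple, h00] at this
      omega
    have key : ∀ n (hn : n < k), (σ ⟨n, hn⟩).1 = n := by
      intro n
      induction n using Nat.strong_induction_on with
      | _ n ih =>
        intro hn
        have hge : n ≤ (σ ⟨n, hn⟩).1 := by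
          by_contra hlt
          push_neg at hlt
          have h1 := ih _ hlt (by omega)
          have h2 : σ ⟨(σ ⟨n, hn⟩).1, by omega⟩ = σ ⟨n, hn⟩ := Fin.ext h1
          have := congrArg Fin.val (σ.injective h2)
          simp only at this
          omega
        rcases Nat.lt_or_ge n 3 with h3 | h3
        · rcases Nat.eq_zero_or_pos n with rfl | hpos
          · exact h00
          have hle : (σ ⟨n, hn⟩).1 ≤ 2 := by
            have := (hmem ⟨0, by omega⟩ ⟨n, hn⟩).2 (by rw [mem_triple]; simp only; omega)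
            rw [mem_triple, hf0] at this
            omega
          rcases Nat.lt_or_ge n 2 with h2 | h2
          · -- `n = 1`
            obtain rfl : n = 1 := by omega
            by_contra hne
            have hval : (σ ⟨1, hn⟩).1 = 2 := by omega
            -- the triple going to the one starting at 2 contains `1`, so it is one of the first two
            obtain ⟨i, hi⟩ := hfs ⟨2, by omega⟩
            obtain ⟨i', hi'⟩ := hfs ⟨1, by omega⟩
            have e1 := (hmem i ⟨1, hn⟩).1 (by rw [mem_triple, hi, hval]; simp)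
            have e2 := (hmem i' ⟨1, hn⟩).1 (by rw [mem_triple, hi', hval]; simp)
            rw [mem_triple] at e1 e2
            simp only at e1 e2
            have hi0 : i.1 ≠ 0 := fun h => by
              have : f i = f ⟨0, by omega⟩ := congrArg f (Fin.ext h)
              rw [hi] at this
              have := congrArg Fin.val this
              simp only [hf0] at this
              omega
            have hi0' : i'.1 ≠ 0 := fun h => by
              have : f i' = f ⟨0, by omega⟩ := congrArg f (Fin.ext h)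
              rw [hi'] at this
              have := congrArg Fin.val this
              simp only [hf0] at this
              omega
            have hii : i = i' := Fin.ext (by omega)
            rw [hii, hi'] at hi
            exact absurd (congrArg Fin.val hi) (by simp)
          · omega
        · -- the triples containing `n - 2, n - 1`
          have ha := ih (n - 2) (by omega) (by omega)
          have hb := ih (n - 1) (by omega) (by omega)
          have hc := ih (n - 3) (by omega) (by omega)
          set i : Fin (k - 2) := ⟨n - 2, by omega⟩ with hi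
          have e1 := (hmem i ⟨n - 2, by omega⟩).2 (by rw [mem_triple, hi]; simp)
          have e2 := (hmem i ⟨n - 1, by omega⟩).2 (by rw [mem_triple, hi]; simp only; omega)
          have e3 := (hmem i ⟨n, hn⟩).2 (by rw [mem_triple, hi]; simp only; omega)
          have e4 : ¬ (σ ⟨n - 3, by omega⟩ ∈ triple k (f i).1) := fun h => by
            have := (hmem i ⟨n - 3, by omega⟩).1 h
            rw [mem_triple, hi] at this
            simp only at this
            omega
          rw [mem_triple] at e1 e2 e3 e4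
          rw [ha] at e1
          rw [hb] at e2
          rw [hc] at e4
          omega
    exact Equiv.ext fun j => Fin.ext (key j.1 j.2)
  -- the image of `0` lies in one triple only
  have hend : (π ⟨0, by omega⟩).1 = 0 ∨ (π ⟨0, by omega⟩).1 = k - 1 := by
    by_contra hne
    push_neg at hne
    set v := (π ⟨0, by omega⟩).1 with hv
    have hvk : v < k := (π ⟨0, by omega⟩).2
    have hab : ∃ a b : ℕ, a ≠ b ∧ a + 2 < k ∧ b + 2 < k ∧ a ≤ v ∧ v ≤ a + 2 ∧ b ≤ v ∧ v ≤ b + 2 := by
      by_cases h : v ≤ k - 3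
      · exact ⟨v, v - 1, by omega, by omega, by omega, by omega, by omega, by omega, by omega⟩
      · exact ⟨k - 3, k - 4, by omega, by omega, by omega, by omega, by omega, by omega, by omega⟩
    obtain ⟨a, b, hne', ha, hb, ha1, ha2, hb1, hb2⟩ := hab
    obtain ⟨i, hi⟩ := hfs ⟨a, by omega⟩
    obtain ⟨i', hi'⟩ := hfs ⟨b, by omega⟩
    have e1 := (hmem i ⟨0, by omega⟩).1 (by rw [mem_triple, hi]; simp only; omega)
    have e2 := (hmem i' ⟨0, by omega⟩).1 (by rw [mem_triple, hi']; simp only; omega)
    rw [mem_triple] at e1 e2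
    simp only at e1 e2
    have hii : i = i' := Fin.ext (by omega)
    rw [hii, hi'] at hi
    exact hne' (congrArg Fin.val hi).symm
  rcases hend with h | h
  · exact Or.inl (h0 π f hfs hmem h)
  · right
    let r : Fin (k - 2) → Fin (k - 2) := fun i => ⟨k - 3 - i.1, by omega⟩
    have hr : Function.Surjective r := fun i => ⟨⟨k - 3 - i.1, by omega⟩, Fin.ext (by
      simp only [r]; omega)⟩
    have hres := h0 (π.trans Fin.revPerm) (r ∘ f) (hr.comp hfs) (fun i j => by
      rw [← hmem i j]
      simp only [Equiv.trans_apply, Fin.revPerm_apply, mem_triple, Fin.val_rev, Function.comp_apply, r]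
      have := (π j).2
      have := (f i).2
      omega) (by
      simp only [Equiv.trans_apply, Fin.revPerm_apply, Fin.val_rev]
      omega)
    refine Equiv.ext fun j => ?_
    have := Equiv.congr_fun hres j
    simp only [Equiv.trans_apply, Equiv.Perm.one_apply, Fin.revPerm_apply] at this
    rw [Fin.revPerm_apply, ← Fin.rev_rev (π j), this]

/-- A solvable subgroup of a symmetric group of degree at least five misses a conjugate of each
non-trivial permutation. -/
theorem exists_conj_notMem {α : Type*} [DecidableEq α] [Fintype α] (hα : 5 ≤ Nat.card α)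
    (T : Subgroup (Equiv.Perm α)) [Group.IsSolvable T] {s : Equiv.Perm α} (hs : s ≠ 1) :
    ∃ σ : Equiv.Perm α, σ * s * σ⁻¹ ∉ T := by
  by_contra hall
  push_neg at hall
  have hle : Subgroup.normalClosure ({s} : Set (Equiv.Perm α)) ≤ T := by
    rw [Subgroup.normalClosure, Subgroup.closure_le]
    intro x hx
    obtain ⟨a, ha, hc⟩ := Group.mem_conjugatesOfSet_iff.1 hx
    rw [Set.mem_singleton_iff] at ha
    subst ha
    obtain ⟨c, rfl⟩ := isConj_iff.1 hc
    exact hall c
  have hnt : Nontrivial (Subgroup.normalClosure ({s} : Set (Equiv.Perm α))) := by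
    rw [Subgroup.nontrivial_iff_ne_bot]
    intro h
    have : s ∈ Subgroup.normalClosure ({s} : Set (Equiv.Perm α)) :=
      Subgroup.subset_normalClosure (Set.mem_singleton s)
    rw [h, Subgroup.mem_bot] at this
    exact hs this
  have hA := (Equiv.Perm.alternatingGroup_le_of_normal hα hnt).trans hle
  haveI := alternatingGroup.isSimpleGroup (α := α) hα
  haveI : Group.IsSolvable (alternatingGroup α) :=
    Group.isSolvable_of_isSolvable_injective (Subgroup.inclusion_injective hA)
  have hcomm : ∀ a b : alternatingGroup α, a * b = b * a :=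
    IsSimpleGroup.comm_iff_isSolvable.2 inferInstance
  have h4 : 4 ≤ Nat.card α := by omega
  obtain ⟨e⟩ : Nonempty (Fin 4 ↪ α) :=
    Function.Embedding.nonempty_of_card_le (by rw [Fintype.card_fin, ← Nat.card_eq_fintype_card]; exact h4)
  let a : Equiv.Perm α := Equiv.swap (e 0) (e 1) * Equiv.swap (e 1) (e 2)
  let b : Equiv.Perm α := Equiv.swap (e 1) (e 2) * Equiv.swap (e 2) (e 3)
  have hne : ∀ i j : Fin 4, i ≠ j → e i ≠ e j := fun i j h h' => h (e.injective h')
  have ha : a ∈ alternatingGroup α := by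
    simp [a, Equiv.Perm.mem_alternatingGroup, Equiv.Perm.sign_swap, hne]
  have hb : b ∈ alternatingGroup α := by
    simp [b, Equiv.Perm.mem_alternatingGroup, Equiv.Perm.sign_swap, hne]
  have := congrArg (fun g : alternatingGroup α => (g : Equiv.Perm α) (e 3)) (hcomm ⟨a, ha⟩ ⟨b, hb⟩)
  simp [a, b, Equiv.Perm.mul_apply, Equiv.swap_apply_def, hne] at this

/-- An additive involution of a group of order eight fixes two distinct nonzero elements. -/
theorem exists_two_fixed {E : Type*} [AddCommGroup E] [Finite E] (hE : ∀ v : E, v + v = 0)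
    (h8 : Nat.card E = 8) (τ : E ≃+ E) (hτ : ∀ v, τ (τ v) = v) :
    ∃ a b : E, a ≠ 0 ∧ b ≠ 0 ∧ a ≠ b ∧ τ a = a ∧ τ b = b := by
  classical
  let f : E →+ E := AddMonoidHom.id E + τ.toAddMonoidHom
  have hker : ∀ v, v ∈ f.ker ↔ τ v = v := by
    intro v
    rw [AddMonoidHom.mem_ker]
    show v + τ v = 0 ↔ _
    rw [add_eq_zero_iff_neg_eq, neg_eq_of_add_eq_zero_left (hE v)]
    exact eq_comm
  have hle : f.range ≤ f.ker := by
    rintro _ ⟨v, rfl⟩
    rw [hker]
    show τ (v + τ v) = v + τ v
    rw [map_add, hτ, add_comm]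
  have hprod : Nat.card f.ker * Nat.card f.range = 8 := by
    rw [← h8, f.ker.card_eq_card_quotient_mul_card_addSubgroup, mul_comm]
    rw [Nat.card_congr (QuotientAddGroup.quotientKerEquivRange f).toEquiv]
  have hcard : 3 ≤ Nat.card f.ker := by
    have h1 := Nat.le_of_dvd Nat.card_pos (AddSubgroup.card_dvd_of_le hle)
    nlinarith
  haveI := Fintype.ofFinite f.ker
  rw [Nat.card_eq_fintype_card] at hcard
  obtain ⟨x, y, z, hxy, hxz, hyz⟩ := Fintype.two_lt_card_iff.1 (by omega : 2 < Fintype.card f.ker)
  have fx := (hker _).1 x.2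
  have fy := (hker _).1 y.2
  have fz := (hker _).1 z.2
  have exy : (x : E) ≠ y := fun h => hxy (Subtype.ext h)
  have exz : (x : E) ≠ z := fun h => hxz (Subtype.ext h)
  have eyz : (y : E) ≠ z := fun h => hyz (Subtype.ext h)
  by_cases h0 : (x : E) = 0
  · exact ⟨y, z, fun h => exy (h0.trans h.symm), fun h => exz (h0.trans h.symm), eyz, fy, fz⟩
  · by_cases h1 : (y : E) = 0
    · exact ⟨x, z, h0, fun h => eyz (h1.trans h.symm), exz, fx, fz⟩
    · exact ⟨x, y, h0, h1, exy, fx, fy⟩

/-- A solvable group of automorphisms of a space of order eight, of order prime to three and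
transitive on the nonzero vectors through an element of order seven, is semiregular on them. -/
theorem gl3_semiregular {E : Type*} [AddCommGroup E] [Finite E] (hE : ∀ v : E, v + v = 0)
    (h8 : Nat.card E = 8) {H : Type*} [Group H] [Finite H] [Group.IsSolvable H]
    [DistribMulAction H E] (h3 : (Nat.card H).Coprime 3)
    (h7 : ∃ h : H, (∃ x : E, h • x ≠ x) ∧ ∀ x : E, (h ^ 7) • x = x) {v : E} (hv : v ≠ 0) (h : H)
    (hhv : h • v = v) : ∀ x : E, h • x = x := by
  classical
  haveI := Fintype.ofFinite E
  let X := {x : E // x ≠ 0}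
  let pr : H →* Equiv.Perm X :=
    { toFun := fun g => (MulAction.toPerm g).subtypeEquiv fun x => (smul_ne_zero_iff_ne g).symm
      map_one' := Equiv.ext fun x => Subtype.ext (one_smul H x.1)
      map_mul' := fun a b => Equiv.ext fun x => Subtype.ext (mul_smul a b x.1) }
  have hc7 : Fintype.card X = 7 := by
    rw [Fintype.card_subtype_compl, Fintype.card_subtype_eq, ← Nat.card_eq_fintype_card, h8]
  let R := pr.range
  haveI : Group.IsSolvable R := Group.isSolvable_of_surjective pr.rangeRestrict_surjective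
  haveI : Fact (Nat.Prime 7) := ⟨by norm_num⟩
  have hR3 : (Nat.card R).Coprime 3 :=
    Nat.Coprime.coprime_dvd_left (Subgroup.card_range_dvd pr) h3
  obtain ⟨z, ⟨x₀, hx₀⟩, hz7⟩ := h7
  let σ : R := pr.rangeRestrict z
  have hσ1 : σ.1 ≠ 1 := fun e => by
    by_cases hx : x₀ = 0
    · subst hx; exact hx₀ (smul_zero z)
    · exact hx₀ (congrArg Subtype.val (Equiv.congr_fun e ⟨x₀, hx⟩))
  have hσ7 : orderOf σ.1 = 7 := orderOf_eq_prime (by
    show pr z ^ 7 = 1
    rw [← map_pow]
    exact Equiv.ext fun x => Subtype.ext (hz7 x.1)) hσ1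
  have hcyc : σ.1.IsCycle := Equiv.Perm.isCycle_of_prime_order'' (by rw [hc7]; norm_num)
    (by rw [hσ7, hc7])
  have hsupp : ∀ x : X, σ.1 x ≠ x := by
    have : σ.1.support = Finset.univ := by
      rw [← Finset.card_eq_iff_eq_univ, ← hcyc.orderOf, hσ7, hc7]
    intro x
    rw [← Equiv.Perm.mem_support, this]
    exact Finset.mem_univ x
  haveI htr : MulAction.IsPretransitive R X := ⟨fun a b => by
    obtain ⟨i, hi⟩ := hcyc.exists_zpow_eq (hsupp a) (hsupp b)
    exact ⟨σ ^ i, by rw [Subgroup.smul_def, Equiv.Perm.smul_def, SubgroupClass.coe_zpow]; exact hi⟩⟩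
  haveI : Nontrivial X := Fintype.one_lt_card_iff_nontrivial.1 (by omega)
  haveI : Nontrivial R := ⟨σ, 1, fun e => hσ1 (congrArg Subtype.val e)⟩
  obtain ⟨M, hM⟩ := Cfsg.Agent.Core.exists_isMinNormal (G := R)
  haveI := hM.normal
  haveI : IsMulCommutative M := hM.isMulCommutative
  have hprim : MulAction.IsPreprimitive R X :=
    MulAction.IsPreprimitive.of_prime_card (by rw [Nat.card_eq_fintype_card, hc7]; norm_num)
  have hMtr := PrimReduce.transitive_of_normal hprim hM.ne_bot
  have hMst := PrimReduce.stabilizer_eq_bot_of_abelian hprim hM.ne_bot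
  have hMc : Nat.card M = 7 := by
    haveI := PrimReduce.isPretransitive_of_normal hprim hM.ne_bot
    have := MulAction.index_stabilizer_of_transitive (G := M) (⟨v, hv⟩ : X)
    rw [hMst, Subgroup.index_bot, Nat.card_eq_fintype_card (α := X), hc7] at this
    exact this
  haveI : IsCyclic M := isCyclic_of_prime_card hMc
  obtain ⟨m, hm⟩ := IsCyclic.exists_generator (α := M)
  let g : R := pr.rangeRestrict h
  let w : X := ⟨v, hv⟩
  have hgw : g • w = w := Subtype.ext hhv
  have hgm : g * m.1 * g⁻¹ ∈ M := hM.normal.conj_mem _ m.2 g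
  obtain ⟨k, hk⟩ := hm ⟨_, hgm⟩
  have hk' : g * m.1 * g⁻¹ = m.1 ^ k := by
    have := congrArg Subtype.val hk
    simpa using this.symm
  have hm7 : orderOf m.1 = 7 := by
    rw [Subgroup.orderOf_coe, orderOf_eq_card_of_forall_mem_zpowers hm, hMc]
  have hiter : ∀ n : ℕ, g ^ n * m.1 * (g ^ n)⁻¹ = m.1 ^ (k ^ n) := by
    intro n
    induction n with
    | zero => simp
    | succ n ih =>
      calc g ^ (n + 1) * m.1 * (g ^ (n + 1))⁻¹ = g * (g ^ n * m.1 * (g ^ n)⁻¹) * g⁻¹ := by group
        _ = g * m.1 ^ (k ^ n) * g⁻¹ := by rw [ih]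
        _ = (g * m.1 * g⁻¹) ^ (k ^ n) := conj_zpow.symm
        _ = m.1 ^ (k ^ (n + 1)) := by rw [hk', ← zpow_mul, pow_succ']
  have hk1 : ((k : ℤ) : ZMod 7) ^ orderOf g = 1 := by
    have := hiter (orderOf g)
    rw [pow_orderOf_eq_one, one_mul, inv_one, mul_one] at this
    nth_rw 1 [← zpow_one m.1] at this
    rw [zpow_eq_zpow_iff_modEq, hm7] at this
    have e := (ZMod.intCast_eq_intCast_iff _ _ 7).2 this
    push_cast at e
    exact e.symm
  have hk0 : ((k : ℤ) : ZMod 7) ≠ 0 := fun e => by
    rw [e, zero_pow (orderOf_pos g).ne'] at hk1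
    exact zero_ne_one hk1
  have hk2 : ((k : ℤ) : ZMod 7) ^ 2 = 1 := by
    have h6 : ((k : ℤ) : ZMod 7) ^ 6 = 1 := ZMod.pow_card_sub_one_eq_one hk0
    have hd := Nat.dvd_gcd (orderOf_dvd_of_pow_eq_one hk1) (orderOf_dvd_of_pow_eq_one h6)
    have hg3 : Nat.Coprime (orderOf g) 3 := Nat.Coprime.coprime_dvd_left (orderOf_dvd_natCard g) hR3
    have h6' : Nat.gcd (orderOf g) 6 ∣ 2 :=
      Nat.Coprime.dvd_of_dvd_mul_right (Nat.Coprime.coprime_dvd_left (Nat.gcd_dvd_left _ _) hg3)
        (Nat.gcd_dvd_right (orderOf g) (2 * 3))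
    exact orderOf_dvd_iff_pow_eq_one.1 (hd.trans h6')
  have hmove : ∀ x : X, ∃ i : ℤ, x = m.1 ^ i • w := by
    intro x
    obtain ⟨c, hc, hcx⟩ := hMtr w x
    obtain ⟨i, hi⟩ := hm ⟨c, hc⟩
    exact ⟨i, by rw [← hcx]; exact (congrArg (fun t : M => t.1 • w) hi).symm⟩
  have hgX : ∀ i : ℤ, g • (m.1 ^ i • w) = m.1 ^ (k * i) • w := by
    intro i
    calc g • (m.1 ^ i • w) = (g * m.1 * g⁻¹) ^ i • (g • w) := by
          rw [conj_zpow, ← mul_smul, ← mul_smul, inv_mul_cancel_right]
      _ = m.1 ^ (k * i) • w := by rw [hgw, hk', ← zpow_mul]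
  have heq : ∀ i j : ℤ, ((i : ℤ) : ZMod 7) = j → m.1 ^ i = m.1 ^ j := by
    intro i j e
    rw [zpow_eq_zpow_iff_modEq, hm7]
    exact (ZMod.intCast_eq_intCast_iff _ _ 7).1 e
  intro x
  by_cases hx : x = 0
  · subst hx; exact smul_zero h
  obtain ⟨i, hi⟩ := hmove ⟨x, hx⟩
  rcases sq_eq_one_iff.1 hk2 with hk1' | hk1'
  · -- `g` centralises `m`
    have : g • (⟨x, hx⟩ : X) = ⟨x, hx⟩ := by
      rw [hi, hgX, heq (k * i) i (by push_cast; rw [hk1', one_mul])]
    exact congrArg Subtype.val this
  · -- an inversion has one fixed nonzero vector, an additive involution has at least three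
    exfalso
    have hfix : ∀ y : X, g • y = y → y = w := by
      intro y hy
      obtain ⟨j, hj⟩ := hmove y
      rw [hj, hgX] at hy
      have h2 : m.1 ^ (k * j - j) • w = w := by
        rw [sub_eq_neg_add, zpow_add, mul_smul, hy, ← mul_smul, ← zpow_add, neg_add_cancel,
          zpow_zero, one_smul]
      have h3 : (⟨_, M.zpow_mem m.2 (k * j - j)⟩ : M) ∈ MulAction.stabilizer M w := h2
      rw [hMst, Subgroup.mem_bot] at h3
      have h4 := congrArg Subtype.val h3
      rw [Subgroup.coe_one] at h4
      simp only at h4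
      rw [← zpow_zero m.1, zpow_eq_zpow_iff_modEq, hm7] at h4
      have h5 := (ZMod.intCast_eq_intCast_iff _ _ 7).2 h4
      push_cast at h5
      rw [hk1'] at h5
      have h70 : (7 : ZMod 7) = 0 := rfl
      have hj0 : ((j : ℤ) : ZMod 7) = 0 := by linear_combination (3 : ZMod 7) * h5 + (j : ZMod 7) * h70
      rw [hj, heq j 0 (by push_cast; exact hj0), zpow_zero, one_smul]
    have hg2 : ∀ y : E, h • (h • y) = y := by
      intro y
      by_cases hy : y = 0
      · subst hy; simp
      obtain ⟨j, hj⟩ := hmove ⟨y, hy⟩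
      have : g • g • (⟨y, hy⟩ : X) = ⟨y, hy⟩ := by
        rw [hj, hgX, hgX, heq (k * (k * j)) j (by push_cast; rw [← mul_assoc, ← pow_two, hk2, one_mul])]
      exact congrArg Subtype.val this
    obtain ⟨a, b, ha, hb, hab, fa, fb⟩ :=
      exists_two_fixed hE h8 (DistribMulAction.toAddEquiv E h) hg2
    have ea := hfix ⟨a, ha⟩ (Subtype.ext fa)
    have eb := hfix ⟨b, hb⟩ (Subtype.ext fb)
    exact hab ((congrArg Subtype.val ea).trans (congrArg Subtype.val eb).symm)

end Cfsg.Agent.BaseTwo
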