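import Cfsg.Agent.BaseTwo.Colour
import Cfsg.Agent.AltPPair.SolvShift
import Mathlib.GroupTheory.SpecificGroups.Cyclic
import Mathlib.GroupTheory.Perm.Cycle.Type

/-!
Solvable irreducible groups of order prime to three of small orthogonal spaces over two elements.
-/

set_option autoImplicit false
set_option maxHeartbeats 1000000

namespace Cfsg.Agent.BaseTwo.Small3

local instance : Fact (Nat.Prime 2) := ⟨Nat.prime_two⟩

/-- An irreducible faithful solvable action of order prime to three preserving a quadratic function. -/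
structure Data (H Ω : Type*) [Group H] [AddCommGroup Ω] [DistribMulAction H Ω] where
  β : Ω → ZMod 2
  B : Ω → Ω → ZMod 2
  two : ∀ v : Ω, v + v = 0
  polar : ∀ u v, β (u + v) = β u + β v + B u v
  add_left : ∀ u v w, B (u + v) w = B u w + B v w
  nondeg : ∀ v, (∀ w, B v w = 0) → v = 0
  inv : ∀ (h : H) v, β (h • v) = β v
  irred : ∀ U : AddSubgroup Ω, (∀ (h : H), ∀ u ∈ U, h • u ∈ U) → U = ⊥ ∨ U = ⊤
  faithful : ∀ h : H, (∀ v : Ω, h • v = v) → h = 1
  cop : (Nat.card H).Coprime 3

namespace Data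

variable {H Ω : Type*} [Group H] [AddCommGroup Ω] [DistribMulAction H Ω] (D : Data H Ω)

theorem B_comm (u v : Ω) : D.B u v = D.B v u := by
  have h1 := D.polar u v
  have h2 := D.polar v u
  rw [add_comm v u] at h2
  linear_combination h2 - h1

theorem add_right (u v w : Ω) : D.B u (v + w) = D.B u v + D.B u w := by
  rw [D.B_comm, D.add_left, D.B_comm v, D.B_comm w]

theorem B_zero (v : Ω) : D.B 0 v = 0 := by
  have := D.add_left 0 0 v
  rw [add_zero] at this
  linear_combination -this

theorem β_zero : D.β 0 = 0 := by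
  have := D.polar 0 0
  rw [add_zero, D.B_zero] at this
  linear_combination -this

theorem B_self (v : Ω) : D.B v v = 0 := by
  have := D.polar v v
  rw [D.two, D.β_zero, CharTwo.add_self_eq_zero, zero_add] at this
  exact this.symm

theorem B_inv (h : H) (u v : Ω) : D.B (h • u) (h • v) = D.B u v := by
  have h1 := D.polar (h • u) (h • v)
  rw [← smul_add, D.inv, D.inv, D.inv, D.polar] at h1
  linear_combination -h1

include D in
theorem orderOf_two {v : Ω} (hv : v ≠ 0) : addOrderOf v = 2 :=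
  addOrderOf_eq_prime (by rw [two_nsmul]; exact D.two v) hv

end Data

variable {H Ω : Type*} [Group H] [AddCommGroup Ω] [DistribMulAction H Ω]

/-- The fixed subgroup of a set. -/
def fixed (Ω : Type*) [AddCommGroup Ω] [DistribMulAction H Ω] (P : Subgroup H) : AddSubgroup Ω where
  carrier := {v | ∀ z ∈ P, z • v = v}
  add_mem' := fun {a b} ha hb z hz => by rw [smul_add, ha z hz, hb z hz]
  zero_mem' := fun z _ => smul_zero z
  neg_mem' := fun {a} ha z hz => by rw [smul_neg, ha z hz]

variable [Finite Ω]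

/-- Counting modulo the prime of an acting group. -/
theorem modEq_fixed {s : ℕ} [Fact s.Prime] {P : Subgroup H} (hP : IsPGroup s P) (q : Ω → Prop)
    (hq : ∀ z ∈ P, ∀ v, q v → q (z • v)) :
    Nat.card {v : Ω // q v} ≡ Nat.card {v : Ω // q v ∧ v ∈ fixed (H := H) Ω P} [MOD s] := by
  letI : MulAction P {v : Ω // q v} :=
    { smul := fun z v => ⟨z.1 • v.1, hq z.1 z.2 v.1 v.2⟩
      one_smul := fun v => Subtype.ext (one_smul H v.1)
      mul_smul := fun z z' v => Subtype.ext (mul_smul z.1 z'.1 v.1) }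
  refine (hP.card_modEq_card_fixedPoints {v : Ω // q v}).trans (Eq.congr_left ?_ |>.2 rfl)
  congr 1
  refine Nat.card_congr ⟨fun v => ⟨v.1.1, v.1.2, fun z hz => Subtype.ext_iff.1 (v.2 ⟨z, hz⟩)⟩,
    fun v => ⟨⟨v.1, v.2.1⟩, fun z => Subtype.ext (v.2.2 z.1 z.2)⟩, fun _ => rfl, fun _ => rfl⟩

theorem zpowers_pGroup {s : ℕ} {z : H} (hz : z ^ s = 1) :
    IsPGroup s (Subgroup.zpowers z) := by
  rintro ⟨_, k, rfl⟩
  refine ⟨1, Subtype.ext ?_⟩
  show (z ^ k) ^ (s ^ 1) = 1
  rw [pow_one, ← zpow_natCast, ← zpow_mul, mul_comm, zpow_mul, zpow_natCast, hz, one_zpow]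

/-- An invariant subgroup without fixed points. -/
theorem card_modEq_one {s : ℕ} [Fact s.Prime] {P : Subgroup H} (hP : IsPGroup s P) (W : AddSubgroup Ω)
    (hW : ∀ z ∈ P, ∀ v ∈ W, z • v ∈ W) (hfix : ∀ v ∈ W, v ∈ fixed (H := H) Ω P → v = 0) :
    Nat.card W ≡ 1 [MOD s] := by
  refine (modEq_fixed hP (· ∈ W) hW).trans ?_
  rw [show Nat.card {v : Ω // v ∈ W ∧ v ∈ fixed (H := H) Ω P} = 1 from ?_]
  exact Nat.card_eq_one_iff_unique.2 ⟨⟨fun a b => Subtype.ext ((hfix _ a.2.1 a.2.2).trans (hfix _ b.2.1 b.2.2).symm)⟩,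
    ⟨⟨0, W.zero_mem, (fixed (H := H) Ω P).zero_mem⟩⟩⟩

theorem card_fix_modEq {s : ℕ} [Fact s.Prime] {z : H} (hz : z ^ s = 1) :
    Nat.card Ω ≡ Nat.card (fixed (H := H) Ω (Subgroup.zpowers z)) [MOD s] := by
  have := modEq_fixed (Ω := Ω) (zpowers_pGroup hz) (fun _ => True) (fun _ _ _ _ => trivial)
  rw [Nat.card_congr (Equiv.subtypeUnivEquiv fun _ => trivial)] at this
  refine this.trans (Eq.congr_left ?_ |>.2 rfl)
  congr 1
  exact Nat.card_congr (Equiv.subtypeEquivRight fun v => true_and _ ▸ Iff.rfl)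

theorem mem_fixed_zpowers {z : H} {v : Ω} :
    v ∈ fixed (H := H) Ω (Subgroup.zpowers z) ↔ z • v = v := by
  refine ⟨fun h => h z (Subgroup.mem_zpowers z), fun h y hy => ?_⟩
  have : Subgroup.zpowers z ≤ MulAction.stabilizer H v := Subgroup.zpowers_le.2 h
  exact this hy

variable [Finite H] [Group.IsSolvable H] (D : Data H Ω)

include D in
theorem card_pow (W : AddSubgroup Ω) : ∃ d, Nat.card W = 2 ^ d := by
  have : IsPGroup 2 (Multiplicative W) := fun w => ⟨1, by
    rw [pow_one, pow_two]; exact Subtype.ext (D.two (Multiplicative.toAdd w).1)⟩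
  obtain ⟨d, hd⟩ := this.exists_card_eq
  exact ⟨d, hd⟩

/-- The minimal normal subgroup. -/
structure Core (s : ℕ) (N : Subgroup H) : Prop where
  pr : s.Prime
  normal : N.Normal
  comm : ∀ a ∈ N, ∀ b ∈ N, a * b = b * a
  exp : ∀ a ∈ N, a ^ s = 1
  ne : N ≠ ⊥
  fix : fixed (H := H) Ω N = ⊥

include D in
theorem exists_core (S c : ℕ) (hc : 4 ≤ c) (hcard : Nat.card Ω = c)
    (hS : Nat.card {v : Ω // v ≠ 0 ∧ D.β v = 0} = S) :
    ∃ (s : ℕ) (N : Subgroup H), Core (Ω := Ω) s N ∧ s ≠ 2 ∧ s ≠ 3 ∧ s ∣ S ∧ s ∣ c - 1 := by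
  have hnt : Nontrivial H := by
    by_contra hH
    rw [not_nontrivial_iff_subsingleton] at hH
    obtain ⟨v, hv⟩ : ∃ v : Ω, v ≠ 0 := by
      by_contra h
      push_neg at h
      haveI : Subsingleton Ω := ⟨fun a b => by rw [h a, h b]⟩
      rw [Nat.card_unique] at hcard
      omega
    rcases D.irred (AddSubgroup.zmultiples v) (fun h u hu => by rw [Subsingleton.elim h 1, one_smul]; exact hu)
      with h | h
    · exact hv (AddSubgroup.zmultiples_eq_bot.1 h)
    · have : Nat.card (AddSubgroup.zmultiples v) = c := by rw [h, AddSubgroup.card_top, hcard]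
      rw [Nat.card_zmultiples, D.orderOf_two hv] at this
      omega
  obtain ⟨s, N, hs, hN, hne, hcomm, hexp⟩ := AltPPair.exists_elementary_normal H inferInstance
  haveI := Fact.mk hs
  have hPN : IsPGroup s N := fun a => ⟨1, Subtype.ext (by simpa using hexp a.1 a.2)⟩
  have hfix : fixed (H := H) Ω N = ⊥ := by
    refine (D.irred (fixed (H := H) Ω N) ?_).resolve_right fun htop => hne ?_
    · intro h u hu z hz
      have := hu _ (hN.conj_mem z hz h⁻¹)
      rw [inv_inv, mul_smul, mul_smul, inv_smul_eq_iff] at this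
      exact this
    · refine (Subgroup.eq_bot_iff_forall N).2 fun z hz => D.faithful z fun v => ?_
      have : v ∈ fixed (H := H) Ω N := htop ▸ AddSubgroup.mem_top v
      exact this z hz
  obtain ⟨z, hz, hz1⟩ := (Subgroup.ne_bot_iff_exists_ne_one).1 hne |>.elim fun a ha =>
    (⟨a.1, a.2, fun h => ha (Subtype.ext h)⟩ : ∃ z ∈ N, z ≠ 1)
  have hsH : s ∣ Nat.card H := by
    rw [← orderOf_eq_prime (hexp z hz) hz1]; exact orderOf_dvd_natCard z
  have hs2 : s ≠ 2 := by
    rintro rfl
    have h1 := card_modEq_one hPN (⊤ : AddSubgroup Ω) (fun _ _ _ _ => trivial)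
      (fun v _ hv => by rw [hfix] at hv; exact hv)
    obtain ⟨d, hd⟩ := card_pow D (⊤ : AddSubgroup Ω)
    rw [hd] at h1
    rw [AddSubgroup.card_top, hcard] at hd
    rcases Nat.eq_zero_or_pos d with rfl | h0
    · simp at hd; omega
    · rw [Nat.ModEq, Nat.pow_mod, Nat.mod_self, zero_pow h0.ne'] at h1
      simp at h1
  have hs3 : s ≠ 3 := by
    rintro rfl
    exact absurd (Nat.Coprime.coprime_dvd_left hsH D.cop) (by decide)
  refine ⟨s, N, ⟨hs, hN, hcomm, hexp, hne, hfix⟩, hs2, hs3, ?_, ?_⟩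
  · refine Nat.modEq_zero_iff_dvd.1 (hS ▸ (modEq_fixed hPN _ fun z _ v hv => ?_).trans ?_)
    · exact ⟨fun h => hv.1 (smul_eq_zero_iff_eq _ |>.1 h), by rw [D.inv]; exact hv.2⟩
    · rw [show Nat.card {v : Ω // (v ≠ 0 ∧ D.β v = 0) ∧ v ∈ fixed (H := H) Ω N} = 0 from ?_]
      haveI : IsEmpty {v : Ω // (v ≠ 0 ∧ D.β v = 0) ∧ v ∈ fixed (H := H) Ω N} :=
        ⟨fun v => v.2.1.1 ((AddSubgroup.eq_bot_iff_forall _).1 hfix v.1 v.2.2)⟩
      exact Nat.card_of_isEmpty
  · refine (Nat.modEq_iff_dvd' (by omega)).1 (Nat.ModEq.symm ?_)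
    have h1 := card_modEq_one hPN (⊤ : AddSubgroup Ω) (fun _ _ _ _ => trivial)
      (fun v _ hv => by rw [hfix] at hv; exact hv)
    rwa [AddSubgroup.card_top, hcard] at h1

include D in
/-- The impossible types. -/
theorem impossible (S c : ℕ) (hcases : (c = 16 ∧ S = 9) ∨ (c = 64 ∧ S = 27)) (hcard : Nat.card Ω = c)
    (hS : Nat.card {v : Ω // v ≠ 0 ∧ D.β v = 0} = S) : False := by
  obtain ⟨s, N, hN, h2, h3, hdS, hdc⟩ := exists_core D S c (by omega) hcard hS
  have hd9 : s ∣ 9 := by
    rcases hcases with ⟨rfl, rfl⟩ | ⟨rfl, rfl⟩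
    · exact hdS
    · exact (Nat.dvd_gcd hdS hdc).trans (by norm_num)
  have : s ≤ 9 := Nat.le_of_dvd (by norm_num) hd9
  have := hN.pr.two_le
  interval_cases s <;> first | omega | (norm_num at hd9; done) | exact absurd hN.pr (by norm_num)

theorem alt_three : ∀ x y z : ZMod 2, ∃ v : Fin 3 → ZMod 2, v ≠ 0 ∧
    v 1 * x + v 2 * y = 0 ∧ v 0 * x + v 2 * z = 0 ∧ v 0 * y + v 1 * z = 0 := by decide

/-- No nondegenerate alternating form on a space of order eight. -/
theorem no_alt_eight {E : Type*} [AddCommGroup E] [Finite E] (h8 : Nat.card E = 8) (h2 : ∀ v : E, v + v = 0)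
    (B : E → E → ZMod 2) (hl : ∀ u v w, B (u + v) w = B u w + B v w)
    (hr : ∀ u v w, B u (v + w) = B u v + B u w) (halt : ∀ u, B u u = 0)
    (hnd : ∀ v, (∀ w, B v w = 0) → v = 0) : False := by
  obtain ⟨m, ⟨e⟩⟩ := exists_coord (r := 2) (M := E) fun x => by rw [two_nsmul]; exact h2 x
  have hm : m = 3 := by
    have := Nat.card_congr e.toEquiv
    rw [h8, Nat.card_eq_fintype_card, Fintype.card_fun, ZMod.card, Fintype.card_fin] at this
    exact Nat.pow_right_injective le_rfl (this.trans (show (8 : ℕ) = 2 ^ 3 from rfl))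
  subst hm
  let f : Fin 3 → E := fun i => e (Pi.single i 1)
  have hsym : ∀ u v, B v u = B u v := fun u v => by
    have := halt (u + v)
    rw [hl, hr, hr, halt, halt, zero_add, add_zero] at this
    have h2 : ∀ a b : ZMod 2, a + b = 0 → b = a := by decide
    exact h2 _ _ this
  obtain ⟨v, hv, h0, h1, h2'⟩ := alt_three (B (f 0) (f 1)) (B (f 0) (f 2)) (B (f 1) (f 2))
  let Bl : E → (E →+ ZMod 2) := fun u => AddMonoidHom.mk' (B u) (hr u)
  let Br : E → (E →+ ZMod 2) := fun w => AddMonoidHom.mk' (fun u => B u w) (fun a b => hl a b w)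
  have hexp : ∀ (j : Fin 3), B (e v) (f j) = v 0 * B (f 0) (f j) + v 1 * B (f 1) (f j) + v 2 * B (f 2) (f j) := by
    intro j
    let φ : (Fin 3 → ZMod 2) →+ ZMod 2 := (Br (f j)).comp e.toAddMonoidHom
    have hφ : ∀ a, φ a = B (e a) (f j) := fun a => rfl
    have hk : ∀ (c : ZMod 2) (i : Fin 3), φ (Pi.single i c) = c * B (f i) (f j) := by
      intro c i
      rcases (show c = 0 ∨ c = 1 by revert c; decide) with rfl | rfl
      · rw [Pi.single_zero, map_zero, zero_mul]
      · rw [one_mul]; rfl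
    rw [← hφ, ← Finset.univ_sum_single v, map_sum, Fin.sum_univ_three, hk, hk, hk, Finset.univ_sum_single]
  have hz : ∀ j, B (e v) (f j) = 0 := by
    intro j
    rw [hexp j]
    fin_cases j
    · simp only [Fin.zero_eta, halt, hsym (f 0) (f 1), hsym (f 0) (f 2), mul_zero, zero_add]
      exact h0
    · simp only [Fin.mk_one, halt, hsym (f 1) (f 2), mul_zero, add_zero]
      exact h1
    · simp only [Fin.reduceFinMk, halt, mul_zero, add_zero]
      exact h2'
  refine hv (e.injective ((hnd _ fun w => ?_).trans (map_zero e).symm))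
  obtain ⟨a, rfl⟩ := e.surjective w
  rw [show B (e v) (e a) = ((Bl (e v)).comp e.toAddMonoidHom) a from rfl, ← Finset.univ_sum_single a, map_sum]
  refine Finset.sum_eq_zero fun i _ => ?_
  rcases (show a i = 0 ∨ a i = 1 by generalize a i = c; revert c; decide) with h | h
  · rw [h, Pi.single_zero, map_zero]
  · rw [h]; exact hz i

include D in
theorem exists_prime (S c s0 g : ℕ) (hc : 4 ≤ c) (hcard : Nat.card Ω = c)
    (hS : Nat.card {v : Ω // v ≠ 0 ∧ D.β v = 0} = S) (hg : Nat.gcd S (c - 1) = g)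
    (hs : ∀ s, s.Prime → s ≠ 2 → s ≠ 3 → s ∣ g → s = s0) :
    ∃ N : Subgroup H, Core (Ω := Ω) s0 N := by
  obtain ⟨s, N, hN, h2, h3, hdS, hdc⟩ := exists_core D S c hc hcard hS
  obtain rfl := hs s hN.pr h2 h3 (hg ▸ Nat.dvd_gcd hdS hdc)
  exact ⟨N, hN⟩

omit [Group.IsSolvable H] in
theorem fix_invariant {s : ℕ} {N : Subgroup H} (hN : Core (Ω := Ω) s N) {z : H} (hz : z ∈ N) :
    ∀ y ∈ N, ∀ v ∈ fixed (H := H) Ω (Subgroup.zpowers z), y • v ∈ fixed (H := H) Ω (Subgroup.zpowers z) := by
  intro y hy v hv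
  rw [mem_fixed_zpowers] at hv ⊢
  rw [← mul_smul, hN.comm z hz y hy, mul_smul, hv]

omit [Group.IsSolvable H] in
theorem core_pGroup {s : ℕ} {N : Subgroup H} (hN : Core (Ω := Ω) s N) : IsPGroup s N :=
  fun a => ⟨1, Subtype.ext (by simpa using hN.exp a.1 a.2)⟩

omit [Group.IsSolvable H] in
theorem core_modEq {s : ℕ} [Fact s.Prime] {N : Subgroup H} (hN : Core (Ω := Ω) s N) (W : AddSubgroup Ω)
    (hW : ∀ z ∈ N, ∀ v ∈ W, z • v ∈ W) : Nat.card W ≡ 1 [MOD s] :=
  card_modEq_one (core_pGroup hN) W hW fun v _ hv => (AddSubgroup.eq_bot_iff_forall _).1 hN.fix v hv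

include D in
/-- Dimensions of fixed spaces. -/
theorem fix_dim {n : ℕ} (hcard : Nat.card Ω = 2 ^ n) {s : ℕ} [Fact s.Prime] {z : H} (hz : z ^ s = 1)
    (hz1 : z ≠ 1) : ∃ d < n, Nat.card (fixed (H := H) Ω (Subgroup.zpowers z)) = 2 ^ d ∧ 2 ^ n ≡ 2 ^ d [MOD s] := by
  obtain ⟨d, hd⟩ := card_pow D (fixed (H := H) Ω (Subgroup.zpowers z))
  refine ⟨d, ?_, hd, hcard ▸ hd ▸ card_fix_modEq hz⟩
  have hle : Nat.card (fixed (H := H) Ω (Subgroup.zpowers z)) ≤ Nat.card Ω :=
    Nat.card_le_card_of_injective Subtype.val Subtype.val_injective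
  rw [hd, hcard] at hle
  refine lt_of_le_of_ne ((Nat.pow_le_pow_iff_right (le_refl 2)).1 hle) fun e => hz1 (D.faithful z fun v => ?_)
  have htop : fixed (H := H) Ω (Subgroup.zpowers z) = ⊤ :=
    AddSubgroup.eq_top_of_card_eq _ (by rw [hd, e, hcard])
  exact mem_fixed_zpowers.1 (htop ▸ AddSubgroup.mem_top v)

theorem card_le_of_free {s : ℕ} {N : Subgroup H} (hN : Core (Ω := Ω) s N) (v : Ω)
    (hfree : ∀ z ∈ N, z • v = v → z = 1) : Nat.card N ≤ Nat.card Ω :=
  Nat.card_le_card_of_injective (fun z : N => z.1 • v) fun a b e => Subtype.ext (by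
    have := hfree _ (N.mul_mem (N.inv_mem b.2) a.2) (by
      rw [mul_smul, show a.1 • v = b.1 • v from e, inv_smul_smul])
    exact (inv_mul_eq_one.1 this).symm)

include D in
theorem semiregular_seven (hcard : Nat.card Ω = 64) {N : Subgroup H} (hN : Core (Ω := Ω) 7 N) {z : H}
    (hz : z ∈ N) (hz1 : z ≠ 1) : fixed (H := H) Ω (Subgroup.zpowers z) = ⊥ := by
  haveI : Fact (Nat.Prime 7) := ⟨hN.pr⟩
  obtain ⟨d, hd6, hW, hmod⟩ := fix_dim D (n := 6) hcard (hN.exp z hz) hz1
  set W := fixed (H := H) Ω (Subgroup.zpowers z) with hWdef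
  have hd : d = 0 ∨ d = 3 := by
    interval_cases d <;> revert hmod <;> decide
  rcases hd with rfl | rfl
  · exact AddSubgroup.eq_bot_of_card_eq _ hW
  exfalso
  let φ : Ω →+ Ω := AddMonoidHom.mk' (fun v => z • v + v) fun a b => by simp only [smul_add]; abel
  have hker : φ.ker = W := by
    ext v
    rw [AddMonoidHom.mem_ker, hWdef, mem_fixed_zpowers]
    show z • v + v = 0 ↔ _
    exact ⟨fun e => by rw [← add_zero (z • v), ← D.two v, ← add_assoc, e, zero_add], fun e => by rw [e]; exact D.two v⟩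
  have horth : ∀ w ∈ W, ∀ u, D.B w (φ u) = 0 := by
    intro w hw u
    show D.B w (z • u + u) = 0
    rw [D.add_right]
    conv_lhs => arg 1; rw [← mem_fixed_zpowers.1 hw, D.B_inv]
    exact CharTwo.add_self_eq_zero _
  have hdisj : W ⊓ φ.range = ⊥ := by
    refine (AddSubgroup.eq_bot_iff_forall _).2 ?_
    rintro w ⟨hw, u, rfl⟩
    have hpow : ∀ k : ℕ, z ^ k • φ u = φ u := fun k => by
      induction k with
      | zero => rw [pow_zero, one_smul]
      | succ k ih => rw [pow_succ', mul_smul, ih, mem_fixed_zpowers.1 hw]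
    have h1 : (∑ k ∈ Finset.range 7, z ^ k • φ u) = φ u := by
      simp only [hpow, Finset.sum_const, Finset.card_range]
      rw [succ_nsmul, show 6 • φ u = 3 • (φ u + φ u) by abel, D.two, smul_zero, zero_add]
    rw [← h1]
    have h2 : ∀ k, z ^ k • φ u = z ^ (k + 1) • u - z ^ k • u := fun k => by
      show z ^ k • (z • u + u) = _
      rw [smul_add, ← mul_smul, ← pow_succ, sub_eq_add_neg,
        neg_eq_of_add_eq_zero_left (D.two (z ^ k • u))]
    simp only [h2]
    rw [Finset.sum_range_sub (fun k => z ^ k • u), hN.exp z hz, pow_zero, sub_self]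
  have hcardR : Nat.card φ.range = 8 := by
    have h := AddSubgroup.card_eq_card_quotient_mul_card_addSubgroup φ.ker
    rw [Nat.card_congr (QuotientAddGroup.quotientKerEquivRange φ).toEquiv, hker, hW, hcard] at h
    omega
  have hsum : ∀ v : Ω, ∃ w ∈ W, ∃ r ∈ φ.range, v = w + r := by
    have hinj : Function.Injective (fun p : W × φ.range => p.1.1 + p.2.1) := by
      intro p q e
      have h1 : p.1.1 - q.1.1 = q.2.1 - p.2.1 := sub_eq_sub_iff_add_eq_add.2 (e.trans (add_comm _ _))
      have h2 : p.1.1 - q.1.1 ∈ W ⊓ φ.range := ⟨W.sub_mem p.1.2 q.1.2, h1 ▸ φ.range.sub_mem q.2.2 p.2.2⟩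
      rw [hdisj, AddSubgroup.mem_bot, sub_eq_zero] at h2
      simp only [h2] at e
      exact Prod.ext (Subtype.ext h2) (Subtype.ext (add_left_cancel e))
    have hbij : Function.Bijective (fun p : W × φ.range => p.1.1 + p.2.1) :=
      (Nat.bijective_iff_injective_and_card _).2 ⟨hinj, by rw [Nat.card_prod, hW, hcardR, hcard]; norm_num⟩
    intro v
    obtain ⟨p, hp⟩ := hbij.2 v
    exact ⟨p.1, p.1.2, p.2, p.2.2, hp.symm⟩
  refine no_alt_eight (E := W) (by rw [hW]; norm_num) (fun v => Subtype.ext (D.two v.1))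
    (fun u v => D.B u.1 v.1) (fun u v w => D.add_left _ _ _) (fun u v w => D.add_right _ _ _)
    (fun u => D.B_self _) fun v hv => Subtype.ext (D.nondeg _ fun x => ?_)
  obtain ⟨w, hw, r, ⟨u, rfl⟩, rfl⟩ := hsum x
  rw [D.add_right, hv ⟨w, hw⟩, horth _ v.2, add_zero]

include D in
theorem semiregular_of_dim {n s : ℕ} (hcard : Nat.card Ω = 2 ^ n) {N : Subgroup H} (hN : Core (Ω := Ω) s N)
    (hd : ∀ d < n, 2 ^ n ≡ 2 ^ d [MOD s] → d = 0) {z : H}
    (hz : z ∈ N) (hz1 : z ≠ 1) : fixed (H := H) Ω (Subgroup.zpowers z) = ⊥ := by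
  haveI : Fact s.Prime := ⟨hN.pr⟩
  obtain ⟨d, hdn, hW, hmod⟩ := fix_dim D hcard (hN.exp z hz) hz1
  exact AddSubgroup.eq_bot_of_card_eq _ (by rw [hW, hd d hdn hmod, pow_zero])

include D in
theorem card_core {s : ℕ} {N : Subgroup H} (hN : Core (Ω := Ω) s N)
    (hfree : ∀ z ∈ N, z ≠ 1 → fixed (H := H) Ω (Subgroup.zpowers z) = ⊥) :
    ∃ k, Nat.card N = s ^ k ∧ 0 < k ∧ s ^ k ∣ Nat.card Ω - 1 := by
  haveI : Fact s.Prime := ⟨hN.pr⟩
  obtain ⟨k, hk⟩ := (core_pGroup hN).exists_card_eq
  refine ⟨k, hk, Nat.pos_of_ne_zero fun e => hN.ne (Subgroup.card_eq_one.1 (by rw [hk, e, pow_zero])), ?_⟩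
  rw [← hk]
  letI : MulAction N {v : Ω // v ≠ 0} :=
    { smul := fun z v => ⟨z.1 • v.1, fun h => v.2 ((smul_eq_zero_iff_eq _).1 h)⟩
      one_smul := fun v => Subtype.ext (one_smul H v.1)
      mul_smul := fun z z' v => Subtype.ext (mul_smul z.1 z'.1 v.1) }
  have hst : ∀ v : {v : Ω // v ≠ 0}, MulAction.stabilizer N v = ⊥ := by
    intro v
    refine (Subgroup.eq_bot_iff_forall _).2 fun z hz => by_contra fun hne => v.2 ?_
    have h1 : v.1 ∈ fixed (H := H) Ω (Subgroup.zpowers z.1) := mem_fixed_zpowers.2 (Subtype.ext_iff.1 hz)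
    rw [hfree z.1 z.2 fun e => hne (Subtype.ext e)] at h1
    exact h1
  have e : {v : Ω // v ≠ 0} ≃ Quotient (MulAction.orbitRel N {v : Ω // v ≠ 0}) × N :=
    (MulAction.selfEquivSigmaOrbitsQuotientStabilizer N {v : Ω // v ≠ 0}).trans
      ((Equiv.sigmaCongrRight fun ω => by
        rw [hst]; exact QuotientGroup.quotientBot.toEquiv).trans (Equiv.sigmaEquivProd _ _))
  classical
  haveI := Fintype.ofFinite Ω
  have h1 := Nat.card_congr e
  rw [Nat.card_prod, Nat.card_eq_fintype_card, Fintype.card_subtype_compl, Fintype.card_subtype_eq,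
    ← Nat.card_eq_fintype_card] at h1
  rw [h1]
  exact dvd_mul_left _ _

include D in
/-- A cyclic action on the core forces cyclic two-subgroups. -/
theorem two_cyclic (hcases : (Nat.card Ω = 64 ∧ Nat.card {v : Ω // v ≠ 0 ∧ D.β v = 0} = 35) ∨
    (Nat.card Ω = 256 ∧ Nat.card {v : Ω // v ≠ 0 ∧ D.β v = 0} = 119))
    (R : Subgroup H) (hR : IsPGroup 2 R) : IsCyclic R := by
  classical
  obtain ⟨s, N, hN, hfree, hcardN, hkey⟩ : ∃ (s : ℕ) (N : Subgroup H), Core (Ω := Ω) s N ∧
      (∀ z ∈ N, z ≠ 1 → fixed (H := H) Ω (Subgroup.zpowers z) = ⊥) ∧ Nat.card N = s ∧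
      ∀ d, 0 < d → 2 ^ d ≡ 1 [MOD s] → (2 ^ d) * (2 ^ d) ≤ Nat.card Ω → s = 7 ∧ d = 3 ∧ Nat.card Ω = 64 := by
    rcases hcases with ⟨hc, hS⟩ | ⟨hc, hS⟩
    · obtain ⟨N, hN⟩ := exists_prime D 35 64 7 7 (by norm_num) hc hS (by norm_num)
        (fun s hs _ _ h => (Nat.prime_dvd_prime_iff_eq hs (by norm_num)).1 h)
      have hfree := fun z (hz : z ∈ N) h1 => semiregular_seven D hc hN hz h1
      refine ⟨7, N, hN, hfree, ?_, fun d h0 hd hle => ⟨rfl, ?_, hc⟩⟩
      · obtain ⟨k, hk, hk0, hkd⟩ := card_core D hN hfree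
        rw [hc] at hkd
        have : k ≤ 2 := by
          by_contra h
          have := Nat.le_of_dvd (by norm_num) hkd
          have := Nat.pow_le_pow_right (show 0 < 7 by norm_num) (show 3 ≤ k by omega)
          omega
        interval_cases k
        · simpa using hk
        · norm_num at hkd
      · rw [hc, ← pow_add, show (64 : ℕ) = 2 ^ 6 from rfl, Nat.pow_le_pow_iff_right Nat.one_lt_two] at hle
        have : d ≤ 3 := by omega
        interval_cases d <;> revert hd <;> decide
    · obtain ⟨N, hN⟩ := exists_prime D 119 256 17 17 (by norm_num) hc hS (by norm_num)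
        (fun s hs _ _ h => (Nat.prime_dvd_prime_iff_eq hs (by norm_num)).1 h)
      have hfree := fun z (hz : z ∈ N) h1 => semiregular_of_dim D (n := 8) hc hN
        (fun d hd => by interval_cases d <;> decide) hz h1
      refine ⟨17, N, hN, hfree, ?_, fun d h0 hd hle => ?_⟩
      · obtain ⟨k, hk, hk0, hkd⟩ := card_core D hN hfree
        rw [hc] at hkd
        have : k ≤ 1 := by
          by_contra h
          have := Nat.le_of_dvd (by norm_num) hkd
          have := Nat.pow_le_pow_right (show 0 < 17 by norm_num) (show 2 ≤ k by omega)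
          omega
        interval_cases k
        simpa using hk
      · rw [hc, ← pow_add, show (256 : ℕ) = 2 ^ 8 from rfl, Nat.pow_le_pow_iff_right Nat.one_lt_two] at hle
        have : d ≤ 4 := by omega
        exfalso
        interval_cases d <;> revert hd <;> decide
  haveI : Fact s.Prime := ⟨hN.pr⟩
  haveI := hN.normal
  haveI : IsCyclic N := isCyclic_of_prime_card hcardN
  -- conjugation of the core
  let c : R →* MulAut N := (MulAut.conjNormal (H := N)).comp R.subtype
  have hinj : Function.Injective c := by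
    refine (injective_iff_map_eq_one c).2 fun a ha => ?_
    by_contra hne
    obtain ⟨k, hk⟩ := hR a
    have hex : ∃ j, a ^ 2 ^ j = 1 := ⟨k, hk⟩
    obtain ⟨j, hj⟩ : ∃ j, Nat.find hex = j + 1 := ⟨Nat.find hex - 1, by
      rcases Nat.eq_zero_or_pos (Nat.find hex) with h0 | h0
      · have := Nat.find_spec hex; rw [h0, pow_zero, pow_one] at this; exact absurd this hne
      · omega⟩
    set g : H := ((a ^ 2 ^ j : R) : H) with hg
    have hg1 : g ≠ 1 := fun e => Nat.find_min hex (show j < Nat.find hex by omega) (Subtype.ext e)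
    have hg2 : ∀ v : Ω, g • g • v = v := by
      intro v
      have h2 := Nat.find_spec hex
      rw [hj, pow_succ, pow_mul] at h2
      rw [← mul_smul, ← pow_two]
      exact (congrArg (fun x : R => (x : H) • v) h2).trans (one_smul H v)
    have hgN : ∀ z ∈ N, g * z = z * g := by
      intro z hz
      have h1 : c (a ^ 2 ^ j) = 1 := by rw [map_pow, ha, one_pow]
      have h2 := congrArg (fun f : MulAut N => ((f ⟨z, hz⟩ : N) : H)) h1
      simp only [c, MonoidHom.comp_apply, Subgroup.coe_subtype, MulAut.conjNormal_apply, MulAut.one_apply] at h2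
      exact mul_inv_eq_iff_eq_mul.1 h2
    let φ : Ω →+ Ω := AddMonoidHom.mk' (fun v => g • v + v) fun a b => by simp only [smul_add]; abel
    have hUfix : φ.range ≤ φ.ker := by
      rintro _ ⟨v, rfl⟩
      show g • (g • v + v) + (g • v + v) = 0
      rw [smul_add, hg2, add_comm v (g • v)]
      exact D.two _
    have hmod : Nat.card φ.range ≡ 1 [MOD s] := core_modEq hN φ.range (by
      rintro z hz _ ⟨v, rfl⟩
      refine ⟨z • v, ?_⟩
      show g • (z • v) + z • v = z • (g • v + v)
      rw [smul_add, ← mul_smul, hgN z hz, mul_smul])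
    obtain ⟨d, hd⟩ := card_pow D φ.range
    have hcount : Nat.card φ.range * Nat.card φ.ker = Nat.card Ω := by
      rw [AddSubgroup.card_eq_card_quotient_mul_card_addSubgroup φ.ker,
        Nat.card_congr (QuotientAddGroup.quotientKerEquivRange φ).toEquiv]
    have hle : Nat.card φ.range ≤ Nat.card φ.ker :=
      Nat.card_le_card_of_injective (AddSubgroup.inclusion hUfix) (AddSubgroup.inclusion_injective hUfix)
    have hd0 : 0 < d := Nat.pos_of_ne_zero fun e => hg1 (D.faithful g fun v => by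
      have hb : φ.range = ⊥ := AddSubgroup.eq_bot_of_card_eq _ (by rw [hd, e, pow_zero])
      have : φ v ∈ φ.range := ⟨v, rfl⟩
      rw [hb] at this
      have h0 : g • v + v = 0 := this
      rw [← add_zero (g • v), ← D.two v, ← add_assoc, h0, zero_add])
    obtain ⟨rfl, rfl, h64⟩ := hkey d hd0 (hd ▸ hmod) (by rw [← hd, ← hcount]; exact Nat.mul_le_mul_left _ hle)
    have hkerR : φ.range = φ.ker := AddSubgroup.eq_of_le_of_card_ge hUfix (by rw [hd]; rw [hd, h64] at hcount; omega)
    -- the image is totally singular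
    have hBr : ∀ u v, D.B (φ u) (φ v) = 0 := by
      intro u v
      show D.B (g • u + u) (g • v + v) = 0
      rw [D.add_left, D.add_right, D.add_right, D.B_inv, ← D.B_inv g u (g • v), hg2]
      have : ∀ a b : ZMod 2, a + b + (b + a) = 0 := by decide
      exact this _ _
    obtain ⟨z, hz, hz1⟩ := (Subgroup.ne_bot_iff_exists_ne_one).1 hN.ne |>.elim fun a ha =>
      (⟨a.1, a.2, fun h => ha (Subtype.ext h)⟩ : ∃ z ∈ N, z ≠ 1)
    let ψ : Ω →+ Ω := AddMonoidHom.mk' (fun v => z • v + v) fun a b => by simp only [smul_add]; abel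
    have hψ : Function.Injective ψ := by
      refine (injective_iff_map_eq_zero ψ).2 fun v hv => ?_
      have h0 : z • v + v = 0 := hv
      have h1 : z • v = v := by rw [← add_zero (z • v), ← D.two v, ← add_assoc, h0, zero_add]
      have h2 : v ∈ fixed (H := H) Ω (Subgroup.zpowers z) := mem_fixed_zpowers.2 h1
      rwa [hfree z hz hz1] at h2
    have hsing : ∀ v, D.β (φ v) = 0 := by
      have hcomm : ∀ v, z • φ v = φ (z • v) := fun v => by
        show z • (g • v + v) = g • (z • v) + z • v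
        rw [smul_add, ← mul_smul, ← hgN z hz, mul_smul]
      intro v
      obtain ⟨w, rfl⟩ := (Finite.injective_iff_surjective.1 hψ) v
      show D.β (φ (z • w + w)) = 0
      rw [map_add, D.polar, hBr, add_zero, ← hcomm, D.inv, CharTwo.add_self_eq_zero]
    have halt : ∀ u, D.B (φ u) u = 0 := by
      intro u
      show D.B (g • u + u) u = 0
      rw [D.add_left, D.B_self, add_zero]
      have := D.polar (g • u) u
      rw [show g • u + u = φ u from rfl, hsing, D.inv, CharTwo.add_self_eq_zero, zero_add] at this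
      exact this.symm
    have hswap : ∀ u v, D.B (φ u) v = D.B u (φ v) := by
      intro u v
      show D.B (g • u + u) v = D.B u (g • v + v)
      rw [D.add_left, D.add_right, ← D.B_inv g (g • u) v, hg2]
    -- descend to the quotient by the fixed vectors
    have hwd : ∀ (u u' v v' : Ω), φ u = φ u' → φ v = φ v' → D.B (φ u) v = D.B (φ u') v' := by
      intro u u' v v' hu hv
      rw [hu, hswap, hswap, hv]
    choose sec hsec using fun w : φ.range => w.2
    refine no_alt_eight (E := φ.range) (by rw [hd]; norm_num) (fun v => Subtype.ext (D.two v.1))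
      (fun a b => D.B a.1 (sec b)) (fun a b c => D.add_left _ _ _) (fun a b c => ?_) (fun a => ?_)
      (fun a ha => Subtype.ext (D.nondeg _ fun v => ?_))
    · obtain ⟨u, hu⟩ := a.2
      rw [← D.add_right, ← hu]
      exact hwd _ _ _ _ rfl (by rw [map_add, hsec, hsec, hsec]; rfl)
    · show D.B a.1 (sec a) = 0
      rw [show D.B a.1 (sec a) = D.B (φ (sec a)) (sec a) by rw [hsec]]
      exact halt _
    · have h0 := ha ⟨φ v, v, rfl⟩
      obtain ⟨u, hu⟩ := a.2
      rw [← h0, ← hu]
      exact hwd _ _ _ _ rfl (hsec ⟨φ v, v, rfl⟩).symm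
  haveI : IsCyclic (MulAut N) := by
    haveI : NeZero (Nat.card N) := ⟨by rw [hcardN]; exact hN.pr.ne_zero⟩
    haveI : Fact (Nat.card N).Prime := ⟨by rw [hcardN]; exact hN.pr⟩
    exact isCyclic_of_injective (IsCyclic.mulAutMulEquiv (G := N)).toMonoidHom (IsCyclic.mulAutMulEquiv (G := N)).injective
  exact isCyclic_of_injective c hinj

include D in
/-- No element of order seven in the larger cases. -/
theorem no_seven (hcases : (Nat.card Ω = 256 ∧ Nat.card {v : Ω // v ≠ 0 ∧ D.β v = 0} = 135) ∨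
    (Nat.card Ω = 1024 ∧ Nat.card {v : Ω // v ≠ 0 ∧ D.β v = 0} = 495)) : ¬ 7 ∣ Nat.card H := by
  classical
  intro h7
  haveI : Fact (Nat.Prime 7) := ⟨by norm_num⟩
  obtain ⟨u, hu⟩ := exists_prime_orderOf_dvd_card' 7 h7
  have hu7 : u ^ 7 = 1 := by rw [← hu]; exact pow_orderOf_eq_one u
  have hu1 : u ≠ 1 := fun e => by rw [e, orderOf_one] at hu; omega
  obtain ⟨n, s, N, hc, hN, hk, hbad⟩ : ∃ (n s : ℕ) (N : Subgroup H), Nat.card Ω = 2 ^ n ∧ Core (Ω := Ω) s N ∧
      (∃ k, Nat.card N = s ^ k ∧ ∀ j ≤ k, s ^ j ≡ s ^ k [MOD 7] → j = k) ∧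
      ∀ d < n, 2 ^ n ≡ 2 ^ d [MOD 7] → 2 ^ d ≡ 1 [MOD s] → False := by
    rcases hcases with ⟨hc, hS⟩ | ⟨hc, hS⟩
    · obtain ⟨N, hN⟩ := exists_prime D 135 256 5 15 (by norm_num) hc hS (by norm_num) (fun s hs _ h3 h => by
        have h15 : s ≤ 15 := Nat.le_of_dvd (by norm_num) h
        have := hs.two_le
        interval_cases s <;> first | rfl | omega | (norm_num at h; done) | exact absurd hs (by norm_num))
      haveI : Fact (Nat.Prime 5) := ⟨hN.pr⟩
      refine ⟨8, 5, N, hc, hN, ?_, fun d hd h1 h2 => by interval_cases d <;> revert h1 h2 <;> decide⟩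
      obtain ⟨k, hk⟩ := (core_pGroup hN).exists_card_eq
      refine ⟨k, hk, ?_⟩
      suffices hb : Nat.card N ≤ 3840 by
        have : k ≤ 5 := by
          by_contra h
          have := Nat.pow_le_pow_right (show 0 < 5 by norm_num) (show 6 ≤ k by omega)
          omega
        intro j hj
        interval_cases k <;> interval_cases j <;> decide
      -- the orbit of a vector
      obtain ⟨v, hv⟩ : ∃ v : Ω, v ≠ 0 := by
        by_contra h
        push_neg at h
        haveI : Subsingleton Ω := ⟨fun a b => by rw [h a, h b]⟩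
        rw [Nat.card_unique] at hc
        omega
      by_cases hfree : ∀ z ∈ N, z • v = v → z = 1
      · exact (card_le_of_free hN v hfree).trans (by rw [hc]; norm_num)
      push_neg at hfree
      obtain ⟨z, hz, hzv, hz1⟩ := hfree
      set W := fixed (H := H) Ω (Subgroup.zpowers z) with hWdef
      have hvW : v ∈ W := mem_fixed_zpowers.2 hzv
      have hW16 : ∀ t ∈ N, t ≠ 1 → t • v = v → Nat.card (fixed (H := H) Ω (Subgroup.zpowers t)) = 16 := by
        intro t ht ht1 htv
        obtain ⟨d, hd8, hd, hmod⟩ := fix_dim D (n := 8) hc (hN.exp t ht) ht1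
        have : d = 0 ∨ d = 4 := by interval_cases d <;> revert hmod <;> decide
        rcases this with rfl | rfl
        · exact absurd ((AddSubgroup.eq_bot_iff_forall _).1 (AddSubgroup.eq_bot_of_card_eq _ hd) v
            (mem_fixed_zpowers.2 htv)) hv
        · exact hd
      have hsame : ∀ t ∈ N, t ≠ 1 → t • v = v → fixed (H := H) Ω (Subgroup.zpowers t) = W := by
        intro t ht ht1 htv
        have hI := core_modEq hN (fixed (H := H) Ω (Subgroup.zpowers t) ⊓ W) fun y hy x hx =>
          ⟨fix_invariant hN ht y hy x hx.1, fix_invariant hN hz y hy x hx.2⟩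
        obtain ⟨d, hd⟩ := card_pow D (fixed (H := H) Ω (Subgroup.zpowers t) ⊓ W)
        have hle : Nat.card (fixed (H := H) Ω (Subgroup.zpowers t) ⊓ W : AddSubgroup Ω) ≤ 16 :=
          (Nat.card_le_card_of_injective (AddSubgroup.inclusion inf_le_right)
            (AddSubgroup.inclusion_injective _)).trans (hW16 z hz hz1 hzv).le
        rw [hd, show (16 : ℕ) = 2 ^ 4 from rfl, Nat.pow_le_pow_iff_right Nat.one_lt_two] at hle
        rw [hd] at hI
        have hd0 : d = 0 ∨ d = 4 := by interval_cases d <;> revert hI <;> decide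
        rcases hd0 with rfl | rfl
        · exact absurd ((AddSubgroup.eq_bot_iff_forall _).1 (AddSubgroup.eq_bot_of_card_eq _ hd) v
            ⟨mem_fixed_zpowers.2 htv, hvW⟩) hv
        · have e1 : fixed (H := H) Ω (Subgroup.zpowers t) ⊓ W = fixed (H := H) Ω (Subgroup.zpowers t) :=
            AddSubgroup.eq_of_le_of_card_ge inf_le_left (by rw [hd, hW16 t ht ht1 htv]; norm_num)
          have e2 : fixed (H := H) Ω (Subgroup.zpowers t) ⊓ W = W :=
            AddSubgroup.eq_of_le_of_card_ge inf_le_right (by rw [hd, hWdef, hW16 z hz hz1 hzv]; norm_num)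
          exact e1.symm.trans e2
      obtain ⟨x, hx⟩ : ∃ x, x ∉ W := by
        by_contra h
        push_neg at h
        have h16 := hW16 z hz hz1 hzv
        rw [← hWdef, (AddSubgroup.eq_top_iff' W).2 h, AddSubgroup.card_top, hc] at h16
        omega
      let f : N → {y : Ω // y ∈ W ∧ y ≠ 0} × Ω := fun t =>
        (⟨t.1 • v, fix_invariant hN hz t.1 t.2 v hvW, fun h => hv ((smul_eq_zero_iff_eq _).1 h)⟩, t.1 • x)
      have hf : Function.Injective f := by
        intro a b e
        have e1 : a.1 • v = b.1 • v := Subtype.ext_iff.1 (congrArg Prod.fst e)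
        have e2 : a.1 • x = b.1 • x := congrArg Prod.snd e
        by_contra hne
        set t := b.1⁻¹ * a.1
        have ht : t ∈ N := N.mul_mem (N.inv_mem b.2) a.2
        have ht1 : t ≠ 1 := fun h => hne (Subtype.ext (inv_mul_eq_one.1 h).symm)
        have htv : t • v = v := by rw [mul_smul, e1, inv_smul_smul]
        refine hx (hsame t ht ht1 htv ▸ mem_fixed_zpowers.2 ?_)
        rw [mul_smul, e2, inv_smul_smul]
      refine (Nat.card_le_card_of_injective f hf).trans ?_
      rw [Nat.card_prod, hc]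
      have hsub : Nat.card {y : Ω // y ∈ W ∧ y ≠ 0} ≤ 15 := by
        have hlt : Nat.card {y : Ω // y ∈ W ∧ y ≠ 0} < Nat.card W := by
          rw [← Nat.card_congr (Equiv.refl W)]
          haveI := Fintype.ofFinite Ω
          rw [Nat.card_eq_fintype_card, Nat.card_eq_fintype_card]
          exact Fintype.card_lt_of_injective_not_surjective (fun y => (⟨y.1, y.2.1⟩ : W))
            (fun a b h => Subtype.ext (Subtype.ext_iff.1 h :)) fun hs => by
              obtain ⟨y, hy⟩ := hs 0
              exact y.2.2 (Subtype.ext_iff.1 hy)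
        have := hW16 z hz hz1 hzv
        rw [← hWdef] at this
        omega
      omega
    · obtain ⟨N, hN⟩ := exists_prime D 495 1024 11 33 (by norm_num) hc hS (by norm_num) (fun s hs _ h3 h => by
        have h33 : s ≤ 33 := Nat.le_of_dvd (by norm_num) h
        have := hs.two_le
        interval_cases s <;> first | rfl | omega | (norm_num at h; done) | exact absurd hs (by norm_num))
      refine ⟨10, 11, N, hc, hN, ?_, fun d hd h1 h2 => by interval_cases d <;> revert h1 h2 <;> decide⟩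
      have hfree := fun z (hz : z ∈ N) h1 => semiregular_of_dim D (n := 10) hc hN
        (fun d hd => by interval_cases d <;> decide) hz h1
      obtain ⟨k, hk, -, hkd⟩ := card_core D hN hfree
      refine ⟨k, hk, ?_⟩
      rw [hc] at hkd
      have : k ≤ 2 := by
        by_contra h
        have := Nat.le_of_dvd (by norm_num) hkd
        have := Nat.pow_le_pow_right (show 0 < 11 by norm_num) (show 3 ≤ k by omega)
        omega
      intro j hj
      interval_cases k <;> interval_cases j <;> decide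
  haveI : Fact s.Prime := ⟨hN.pr⟩
  haveI := hN.normal
  obtain ⟨k, hk, hkj⟩ := hk
  -- the element centralises the core
  have hcent : ∀ z ∈ N, u * z = z * u := by
    letI : MulAction (Subgroup.zpowers u) N :=
      MulAction.compHom N ((MulAut.conjNormal (H := N)).comp (Subgroup.zpowers u).subtype)
    have hP : IsPGroup 7 (Subgroup.zpowers u) := zpowers_pGroup hu7
    let C : Subgroup N := (Subgroup.centralizer {u}).subgroupOf N
    have hC : Nat.card (MulAction.fixedPoints (Subgroup.zpowers u) N) = Nat.card C := by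
      refine Nat.card_congr (Equiv.subtypeEquivRight fun a => ?_)
      show (∀ g : Subgroup.zpowers u, _ = a) ↔ (a : H) ∈ Subgroup.centralizer {u}
      rw [Subgroup.mem_centralizer_singleton_iff]
      constructor
      · intro h
        have h1 := congrArg (Subtype.val) (h ⟨u, Subgroup.mem_zpowers u⟩)
        change ((MulAut.conjNormal (H := N) u a : N) : H) = a at h1
        rw [MulAut.conjNormal_apply] at h1
        exact (mul_inv_eq_iff_eq_mul.1 h1).symm
      · intro h g
        refine Subtype.ext ?_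
        show ((MulAut.conjNormal (H := N) g.1 a : N) : H) = a
        rw [MulAut.conjNormal_apply]
        obtain ⟨i, hi⟩ := g.2
        rw [mul_inv_eq_iff_eq_mul, ← hi]
        exact (Commute.zpow_left (show Commute u (a : H) from h.symm) i).eq
    have hmod := hP.card_modEq_card_fixedPoints N
    rw [hC] at hmod
    obtain ⟨j, hj⟩ := IsPGroup.to_subgroup (core_pGroup hN) C |>.exists_card_eq
    have hjk : j ≤ k := by
      have := Nat.le_of_dvd (Nat.card_pos) (Subgroup.card_subgroup_dvd_card C)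
      rw [hj, hk] at this
      exact (Nat.pow_le_pow_iff_right hN.pr.two_le).1 this
    rw [hk, hj] at hmod
    have hCtop : C = ⊤ := Subgroup.eq_top_of_card_eq _ (by rw [hj, hk, hkj j hjk hmod.symm])
    intro z hz
    have : (⟨z, hz⟩ : N) ∈ C := hCtop ▸ Subgroup.mem_top _
    exact (Subgroup.mem_centralizer_singleton_iff.1 (Subgroup.mem_subgroupOf.1 this)).symm
  obtain ⟨d, hd, hW, hmod⟩ := fix_dim D hc hu7 hu1
  refine hbad d hd hmod (hW ▸ core_modEq hN _ fun y hy v hv => ?_)
  rw [mem_fixed_zpowers] at hv ⊢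
  rw [← mul_smul, hcent y hy, mul_smul, hv]

end Cfsg.Agent.BaseTwo.Small3
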