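import Cfsg.Agent.BaseTwo.Normalise

/-!
The symplectic system of a chief factor and its local solution.
-/

set_option autoImplicit false
set_option maxHeartbeats 2000000

universe u

namespace Cfsg.Agent.BaseTwo.Setting

variable {K V : Type*} {G : Type u} [Field K] [AddCommGroup V] [Module K V] [Group G] [DistribMulAction G V]
  [Finite G] [Group.IsSolvable G] [Finite K] [Nontrivial V] (T : Setting K V G)

/-- A local solution of a chief factor. -/
def Local (D : Subgroup G) : Prop :=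
  ∃ Es : Set (Module.End K V), Es ⊆ T.algOf D ∧
    (∀ U : Submodule K V, (∀ d ∈ D, ∀ u ∈ U, d • u ∈ U) → U ≠ ⊥ → ∃ x ∈ U, x ≠ 0 ∧ ∀ e ∈ Es, e x = x) ∧
    ∀ x : V, x ≠ 0 → (∀ e ∈ Es, e x = x) →
      ∃ P ∈ T.algOf D, ∃ f ∈ T.algOf D, P x = x ∧ (∀ d ∈ D, ∃ k : K, P (d • x) = k • x) ∧
        ∀ g : G, g • x = x → ∀ s : K, g • f x - f x = s • x →
          s = 0 ∧ (T.σ g = RingEquiv.refl K → ∀ d ∈ D, g * d = d * g)

variable {T} {D : Subgroup G} (hD : T.Chief D)

include hD in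
/-- Normalised systems exist and are solved. -/
theorem Chief.local_of {r n : ℕ} [Fact r.Prime] (hn : n ≠ 0) (hr : ∀ d ∈ D, d ^ r ∈ T.B) (Allowed : K → Prop)
    (h1 : Allowed 1)
    (hnorm : ∀ d : T.C, d.1 ∈ D → ∃ k ε : K, k ≠ 0 ∧ Allowed ε ∧ (k • T.L d) ^ r = ε • 1)
    (hroot : ∀ c q ε ε' ε'' : K, c ≠ 0 → q ^ r = 1 → Allowed ε → Allowed ε' → Allowed ε'' →
      c ^ r * ε'' = q ^ (r * (r - 1) / 2) * (ε * ε') → c ^ n = 1)
    (hσA : ∀ g ε, Allowed ε → T.σ g ε = ε)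
    (solve : ∀ {Ω : Type u} [AddCommGroup Ω] [DistribMulAction G Ω] [Finite Ω] [Nontrivial Ω] (S : PS r n K V G Ω),
      (∀ v : Ω, r • v = 0) → (∀ v, ∃ ε, Allowed ε ∧ S.op v ^ r = ε • 1) →
      (∀ U : AddSubgroup Ω, (∀ g : G, ∀ u ∈ U, g • u ∈ U) → U = ⊥ ∨ U = ⊤) → S.Solvable) :
    T.Local D := by
  classical
  haveI := T.normal
  haveI := hD.normal
  let π := QuotientGroup.mk' T.B
  let Q := D.map π
  haveI hQn : Q.Normal := hD.normal.map π (QuotientGroup.mk'_surjective _)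
  letI : CommGroup Q :=
    { (inferInstance : Group Q) with
      mul_comm := fun a b => by
        obtain ⟨a', ha, ea⟩ := a.2
        obtain ⟨b', hb, eb⟩ := b.2
        refine Subtype.ext ?_
        show (a : G ⧸ T.B) * b = b * a
        rw [← ea, ← eb]
        exact Chief.quot_comm hD a' b' ha hb }
  let Ω := Additive Q
  let qv : Ω → G ⧸ T.B := fun v => ((Additive.toMul v : Q) : G ⧸ T.B)
  have qv_add : ∀ u v, qv (u + v) = qv u * qv v := fun u v => rfl
  have qv_zero : qv 0 = 1 := rfl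
  have qv_inj : Function.Injective qv := fun u v h => Additive.toMul.injective (Subtype.ext h)
  have qv_surj : ∀ d ∈ D, ∃ v, qv v = π d := fun d hd => ⟨Additive.ofMul ⟨π d, d, hd, rfl⟩, rfl⟩
  letI : DistribMulAction G Ω :=
    { smul := fun g v => Additive.ofMul ⟨π g * qv v * (π g)⁻¹, hQn.conj_mem _ (Additive.toMul v : Q).2 _⟩
      one_smul := fun v => qv_inj (show π 1 * qv v * (π 1)⁻¹ = qv v by rw [map_one, one_mul, inv_one, mul_one])
      mul_smul := fun g h v => qv_inj (show π (g * h) * qv v * (π (g * h))⁻¹ = π g * (π h * qv v * (π h)⁻¹) * (π g)⁻¹ by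
        rw [map_mul]; group)
      smul_zero := fun g => qv_inj (show π g * qv 0 * (π g)⁻¹ = qv 0 by rw [qv_zero, mul_one, mul_inv_cancel])
      smul_add := fun g u v => qv_inj (show π g * qv (u + v) * (π g)⁻¹ =
          π g * qv u * (π g)⁻¹ * (π g * qv v * (π g)⁻¹) by rw [qv_add]; group) }
  have qv_smul : ∀ (g : G) v, qv (g • v) = π g * qv v * (π g)⁻¹ := fun g v => rfl
  haveI : Finite Ω := Finite.of_injective qv qv_inj
  -- representatives
  have hrep : ∀ v, ∃ d : T.C, d.1 ∈ D ∧ π d.1 = qv v ∧ (v = 0 → d = 1) := fun v => by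
    by_cases h : v = 0
    · exact ⟨1, D.one_mem, by rw [h, qv_zero]; exact map_one π, fun _ => rfl⟩
    · obtain ⟨d, hd, ed⟩ := (Additive.toMul v : Q).2
      exact ⟨⟨d, hD.le hd⟩, hd, ed, fun e => absurd e h⟩
  choose m hmD hmq hm0 using hrep
  have hsc : ∀ v, ∃ k ε : K, k ≠ 0 ∧ Allowed ε ∧ (k • T.L (m v)) ^ r = ε • 1 ∧ (v = 0 → k = 1) := fun v => by
    by_cases hv : v = 0
    · exact ⟨1, 1, one_ne_zero, h1, by rw [hm0 v hv, T.L_one, one_smul, one_pow], fun _ => rfl⟩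
    · obtain ⟨k, ε, hk, hε, h⟩ := hnorm (m v) (hmD v)
      exact ⟨k, ε, hk, hε, h, fun e => absurd e hv⟩
  choose k ε hk hε hpow hk0 using hsc
  let O : Ω → Module.End K V := fun v => k v • T.L (m v)
  have hO0 : O 0 = 1 := by simp only [O, hm0 0 rfl, hk0 0 rfl, T.L_one, one_smul]
  have hL : ∀ (d : T.C), d.1 ∈ D → ∀ v, π d.1 = qv v → ∃ a : K, a ≠ 0 ∧ T.L d = a • O v := by
    intro d hd v e
    have hb : (d * (m v)⁻¹ : T.C).1 ∈ T.B := by
      rw [← QuotientGroup.eq_one_iff]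
      show π (d.1 * (m v).1⁻¹) = 1
      rw [map_mul, map_inv, e, hmq, mul_inv_cancel]
    obtain ⟨b, hb0, eb⟩ := T.L_scalar _ hb
    refine ⟨b * (k v)⁻¹, mul_ne_zero hb0 (inv_ne_zero (hk v)), ?_⟩
    rw [mul_smul, inv_smul_smul₀ (hk v), ← one_mul (T.L (m v)), ← smul_mul_assoc, ← eb, ← T.L_mul,
      inv_mul_cancel_right]
  have hmul : ∀ u v, ∃ c : K, c ≠ 0 ∧ O u * O v = c • O (u + v) := by
    intro u v
    obtain ⟨a, ha, ea⟩ := hL (m u * m v) (D.mul_mem (hmD u) (hmD v)) (u + v) (by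
      rw [qv_add, ← hmq, ← hmq]; exact map_mul π _ _)
    refine ⟨k u * k v * a, mul_ne_zero (mul_ne_zero (hk u) (hk v)) ha, ?_⟩
    simp only [O, smul_mul_smul_comm, ← T.L_mul, ea, smul_smul, mul_assoc]
  have hcomm : ∀ u v, ∃ q : K, q ^ r = 1 ∧ O u * O v = q • (O v * O u) := by
    intro u v
    obtain ⟨q, -, hqr, e⟩ := Chief.comm_scalar hD hr (a := m v) (b := m u) (hmD v) (hmD u)
    refine ⟨q, hqr, ?_⟩
    simp only [O, smul_mul_smul_comm, e, smul_smul]
    congr 1; ring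
  choose pair hpair epair using hcomm
  have hop_mul : ∀ u v, ∃ c : K, c ^ n = 1 ∧ ∀ z, O u (O v z) = c • O (u + v) z := by
    intro u v
    obtain ⟨c, hc, e⟩ := hmul u v
    refine ⟨c, hroot c (pair v u) (ε u) (ε v) (ε (u + v)) hc (hpair v u) (hε u) (hε v) (hε _) ?_,
      fun z => LinearMap.congr_fun e z⟩
    have h := pow_mul_comm_scalar (epair v u) r
    rw [e, smul_pow c, show O (u + v) ^ r = ε (u + v) • 1 from hpow _, show O u ^ r = ε u • 1 from hpow u,
      show O v ^ r = ε v • 1 from hpow v, smul_mul_smul_comm, mul_one, smul_smul, smul_smul] at h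
    exact smul_one_inj h
  have hop_comm : ∀ u v z, O u (O v z) = pair u v • O v (O u z) := fun u v z =>
    LinearMap.congr_fun (epair u v) z
  have hnondeg : ∀ v, (∀ w, pair v w = 1) → v = 0 := by
    intro v hv
    refine qv_inj ?_
    rw [qv_zero, ← hmq v]
    refine (QuotientGroup.eq_one_iff _).2 (Chief.center_le hD (hmD v) fun d hd => ?_)
    obtain ⟨w, hw⟩ := qv_surj d hd
    obtain ⟨a, ha, ea⟩ := hL ⟨d, hD.le hd⟩ hd w hw.symm
    have h := epair v w
    rw [hv w, one_smul] at h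
    have h2 : T.L (m v) * T.L ⟨d, hD.le hd⟩ = T.L ⟨d, hD.le hd⟩ * T.L (m v) := by
      have h3 : k v • T.L (m v) * O w = O w * (k v • T.L (m v)) := h
      rw [ea]
      generalize O w = X at h3 ⊢
      rw [smul_mul_assoc, mul_smul_comm] at h3
      rw [mul_smul_comm, smul_mul_assoc, smul_right_injective _ (hk v) h3]
    refine inv_mul_eq_one.1 (T.faithful _ fun z => ?_)
    rw [mul_smul, inv_smul_eq_iff, mul_smul, mul_smul]
    exact (LinearMap.congr_fun h2 z).symm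
  have hconj : ∀ (g : G) v, ∃ c : K, c ^ n = 1 ∧ ∀ z : V, g • O v z = c • O (g • v) (g • z) := by
    intro g v
    obtain ⟨a, ha, ea⟩ := hL ⟨g * (m v).1 * g⁻¹, hD.le (hD.normal.conj_mem _ (hmD v) g)⟩
      (hD.normal.conj_mem _ (hmD v) g) (g • v) (by rw [qv_smul, ← hmq]; simp)
    have h : ∀ z : V, g • O v z = (T.σ g (k v) * a) • O (g • v) (g • z) := fun z => by
      show g • (k v • ((m v).1 • z)) = _
      rw [T.semi, show g • (m v).1 • z = (g * (m v).1 * g⁻¹) • (g • z) by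
        rw [← mul_smul, ← mul_smul, inv_mul_cancel_right], mul_smul (T.σ g (k v)) a]
      congr 1
      exact LinearMap.congr_fun ea (g • z)
    have hne : T.σ g (k v) * a ≠ 0 :=
      mul_ne_zero (fun e => hk v ((T.σ g).injective (e.trans (map_zero _).symm))) ha
    refine ⟨_, hroot _ 1 (ε v) 1 (ε (g • v)) hne (one_pow r) (hε v) h1 (hε _) ?_, h⟩
    set c := T.σ g (k v) * a
    have hiter : ∀ (i : ℕ) (z : V), g • (O v ^ i) z = ((c • O (g • v)) ^ i) (g • z) := by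
      intro i
      induction i with
      | zero => intro z; rfl
      | succ i ih => intro z; rw [pow_succ', pow_succ', Module.End.mul_apply, h, ih]; rfl
    obtain ⟨z, hz⟩ := exists_ne (0 : V)
    have h2 := hiter r z
    rw [show O v ^ r = ε v • 1 from hpow v, smul_pow c, show O (g • v) ^ r = ε (g • v) • 1 from hpow _, LinearMap.smul_apply, LinearMap.smul_apply, LinearMap.smul_apply, T.semi,
      hσA g _ (hε v), Module.End.one_apply, Module.End.one_apply, smul_smul] at h2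
    rw [one_pow, one_mul, mul_one]
    exact (PS.smul_inj (fun e => hz ((smul_eq_zero_iff_eq g).1 e)) h2).symm
  let S : PS r n K V G Ω := ⟨O, pair, T.σ, hn, hO0, hop_mul, hpair, hop_comm, hnondeg, T.semi, hconj⟩
  have qv_nsmul : ∀ (i : ℕ) v, qv (i • v) = qv v ^ i := by
    intro i v
    induction i with
    | zero => rw [zero_smul, qv_zero, pow_zero]
    | succ i ih => rw [succ_nsmul, qv_add, ih, pow_succ]
  have hexp : ∀ v : Ω, r • v = 0 := fun v => qv_inj (by
    rw [qv_nsmul, ← hmq, ← map_pow, qv_zero]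
    exact (QuotientGroup.eq_one_iff _).2 (hr _ (hmD v)))
  have hirr : ∀ U : AddSubgroup Ω, (∀ g : G, ∀ u ∈ U, g • u ∈ U) → U = ⊥ ∨ U = ⊤ := by
    intro U hU
    let W : Subgroup G :=
      { carrier := {d | d ∈ D ∧ ∃ u ∈ U, qv u = π d}
        one_mem' := ⟨D.one_mem, 0, U.zero_mem, by rw [qv_zero, map_one]⟩
        mul_mem' := fun {a b} ⟨ha, u, hu, eu⟩ ⟨hb, w, hw, ew⟩ =>
          ⟨D.mul_mem ha hb, u + w, U.add_mem hu hw, by rw [qv_add, eu, ew, map_mul]⟩
        inv_mem' := fun {a} ⟨ha, u, hu, eu⟩ => ⟨D.inv_mem ha, -u, U.neg_mem hu, by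
          rw [map_inv, ← eu]
          exact eq_inv_of_mul_eq_one_left (by rw [← qv_add, neg_add_cancel, qv_zero])⟩ }
    have hWn : W.Normal := ⟨fun d ⟨hd, u, hu, eu⟩ g => ⟨hD.normal.conj_mem d hd g, g • u, hU g u hu, by
      rw [qv_smul, eu, map_mul, map_mul, map_inv]⟩⟩
    rcases hD.mini W hWn (fun b hb => ⟨hD.lt.le hb, 0, U.zero_mem, by
      rw [qv_zero]; exact ((QuotientGroup.eq_one_iff b).2 hb).symm⟩) (fun d hd => hd.1) with h | h
    · refine Or.inl ((AddSubgroup.eq_bot_iff_forall U).2 fun u hu => qv_inj ?_)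
      have : (m u).1 ∈ W := ⟨hmD u, u, hu, (hmq u).symm⟩
      rw [h] at this
      rw [qv_zero, ← hmq u]
      exact (QuotientGroup.eq_one_iff _).2 this
    · refine Or.inr ((AddSubgroup.eq_top_iff' U).2 fun v => ?_)
      obtain ⟨-, u, hu, eu⟩ : (m v).1 ∈ W := h.symm ▸ hmD v
      rwa [← qv_inj (eu.trans (hmq v))]
  haveI : Nontrivial Ω := by
    obtain ⟨d, hd, hdB⟩ := Set.exists_of_ssubset hD.lt
    obtain ⟨v, hv⟩ := qv_surj d hd
    exact ⟨v, 0, fun e => hdB ((QuotientGroup.eq_one_iff d).1 (hv.symm.trans (e ▸ qv_zero)))⟩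
  obtain ⟨Es, hEs, hU, hsolve⟩ := solve S hexp (fun v => ⟨ε v, hε v, hpow v⟩) hirr
  have halg : S.alg ≤ T.algOf D := by
    refine Submodule.span_le.2 ?_
    rintro _ ⟨v, rfl⟩
    exact Submodule.smul_mem _ _ (Submodule.subset_span ⟨m v, hmD v, rfl⟩)
  refine ⟨Es, fun e he => halg (hEs he), fun U hUd hne => hU U (fun v u hu => U.smul_mem _ (hUd _ (hmD v) u hu)) hne, ?_⟩
  intro x hx hfix
  obtain ⟨P, hP, f, hf, hPx, hPop, hg⟩ := hsolve x hx hfix
  refine ⟨P, halg hP, f, halg hf, hPx, fun d hd => ?_, fun g hgx s hs => ?_⟩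
  · obtain ⟨v, hv⟩ := qv_surj d hd
    obtain ⟨a, ha, ea⟩ := hL ⟨d, hD.le hd⟩ hd v hv.symm
    obtain ⟨c, hc⟩ := hPop v
    refine ⟨a * c, ?_⟩
    rw [show d • x = a • O v x from LinearMap.congr_fun ea x, map_smul, mul_smul]
    exact congrArg (a • ·) hc
  obtain ⟨hs0, hcent⟩ := hg g hgx s hs
  refine ⟨hs0, fun hσ d hd => ?_⟩
  obtain ⟨v, hv⟩ := qv_surj d hd
  obtain ⟨a, ha, ea⟩ := hL ⟨d, hD.le hd⟩ hd v hv.symm
  refine inv_mul_eq_one.1 (T.faithful _ fun z => ?_)
  rw [mul_smul, inv_smul_eq_iff, mul_smul, mul_smul, show d • z = a • O v z from LinearMap.congr_fun ea z,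
    T.semi, hσ, RingEquiv.refl_apply, show d • g • z = a • O v (g • z) from LinearMap.congr_fun ea (g • z)]
  exact congrArg (a • ·) (hcent hσ v z).symm

end Cfsg.Agent.BaseTwo.Setting
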