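import Cfsg.Agent.BaseTwo.Frames
import Cfsg.Agent.BaseTwo.Quaternion
import Cfsg.Agent.BaseTwo.SmallThree
import Cfsg.Agent.BaseTwo.PhaseSmall

/-!
Symplectic systems over the field with three elements in the small dimensions.
-/

set_option autoImplicit false
set_option maxHeartbeats 1000000

namespace Cfsg.Agent.BaseTwo

local instance : Fact (Nat.Prime 2) := ⟨Nat.prime_two⟩

variable {K V A Ω : Type*} [Field K] [AddCommGroup V] [Module K V] [Group A] [DistribMulAction A V]
  [AddCommGroup Ω] [DistribMulAction A Ω] [Nontrivial V] (S : PS 2 2 K V A Ω)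

/-- The image on the quotient space. -/
abbrev imgΩ (A Ω : Type*) [Group A] [MulAction A Ω] : Subgroup (Equiv.Perm Ω) := (MulAction.toPermHom A Ω).range

/-- The action of the image. -/
@[reducible] def imgAction : DistribMulAction (imgΩ A Ω) Ω where
  smul h v := h.1 v
  one_smul _ := rfl
  mul_smul _ _ _ := rfl
  smul_zero h := by
    obtain ⟨g, hg⟩ := h.2
    show h.1 0 = 0
    rw [← hg]; exact smul_zero g
  smul_add h u v := by
    obtain ⟨g, hg⟩ := h.2
    show h.1 (u + v) = h.1 u + h.1 v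
    rw [← hg]; exact smul_add g u v

open scoped Classical in
/-- The exponent of the sign of the square. -/
noncomputable def PS.sqBit (v : Ω) : ZMod 2 := if S.op v ^ 2 = 1 then 0 else 1

open scoped Classical in
/-- The exponent of the pairing. -/
noncomputable def PS.pairBit (u v : Ω) : ZMod 2 := if S.pair u v = 1 then 0 else 1

/-- The sign of a bit. -/
def bsgn (K : Type*) [Field K] (a : ZMod 2) : K := if a = 0 then 1 else -1

theorem bsgn_add (a b : ZMod 2) : bsgn K (a + b) = bsgn K a * bsgn K b := by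
  rcases (show a = 0 ∨ a = 1 by revert a; decide) with rfl | rfl <;>
    rcases (show b = 0 ∨ b = 1 by revert b; decide) with rfl | rfl <;>
    simp [bsgn, show (1 : ZMod 2) + 1 = 0 from rfl]

theorem bsgn_inj (hK : (-1 : K) ≠ 1) {a b : ZMod 2} (h : bsgn K a = bsgn K b) : a = b := by
  have h2 : ∀ a : ZMod 2, a = 0 ∨ a = 1 := by decide
  rcases h2 a with rfl | rfl <;> rcases h2 b with rfl | rfl
  · rfl
  · simp [bsgn] at h; exact absurd h.symm hK
  · simp [bsgn] at h; exact absurd h hK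
  · rfl

variable (hpow : ∀ v, S.op v ^ 2 = 1 ∨ S.op v ^ 2 = -1)

include hpow in
theorem PS.sq_eq (v : Ω) (z : V) : S.op v (S.op v z) = bsgn K (S.sqBit v) • z := by
  rw [← Module.End.mul_apply, ← pow_two, PS.sqBit]
  split_ifs with h
  · rw [h]; simp [bsgn]
  · rw [(hpow v).resolve_left h]; simp [bsgn]

theorem PS.pair_eq (u v : Ω) : S.pair u v = bsgn K (S.pairBit u v) := by
  rw [PS.pairBit]
  split_ifs with h
  · rw [h]; simp [bsgn]
  · rw [(sq_eq_one_iff.1 (S.pair_pow u v)).resolve_left h]; simp [bsgn]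

include hpow in
theorem PS.sqBit_polar (hK : (-1 : K) ≠ 1) (u v : Ω) :
    S.sqBit (u + v) = S.sqBit u + S.sqBit v + S.pairBit u v := by
  obtain ⟨z, hz⟩ := exists_ne (0 : V)
  obtain ⟨c, hc, e⟩ := S.op_mul u v
  have hcc : c * c = 1 := by rw [← pow_two, hc]
  have hR : S.op u (S.op v (S.op u (S.op v z))) = bsgn K (S.sqBit (u + v)) • z := by
    rw [e z, map_smul, map_smul, e, smul_smul, hcc, one_smul, S.sq_eq hpow]
  have hL : S.op u (S.op v (S.op u (S.op v z))) =
      (S.pair v u * (bsgn K (S.sqBit u) * bsgn K (S.sqBit v))) • z := by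
    rw [S.op_comm v u, map_smul, S.sq_eq hpow u, S.sq_eq hpow v, smul_smul, smul_smul]
    congr 1
    ring
  have h := PS.smul_inj hz (hR.symm.trans hL)
  have hsym : S.pair v u = S.pair u v := by
    have h1 := S.pair_swap two_ne_zero u v
    have h2 : S.pair u v * S.pair u v = 1 := by rw [← pow_two]; exact S.pair_pow u v
    exact mul_left_cancel₀ (S.pair_ne two_ne_zero u v) (h1.trans h2.symm)
  rw [hsym, S.pair_eq, ← bsgn_add, ← bsgn_add] at h
  rw [bsgn_inj hK h]
  ring

theorem PS.pairBit_add (hK : (-1 : K) ≠ 1) (u v w : Ω) :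
    S.pairBit (u + v) w = S.pairBit u w + S.pairBit v w := by
  refine bsgn_inj hK ?_
  rw [bsgn_add, ← S.pair_eq, ← S.pair_eq, ← S.pair_eq, S.pair_add_left two_ne_zero]

include hpow in
theorem PS.sqBit_inv (hK : (-1 : K) ≠ 1) (g : A) (v : Ω) : S.sqBit (g • v) = S.sqBit v := by
  obtain ⟨z, hz⟩ := exists_ne (0 : V)
  obtain ⟨c, hc, e⟩ := S.conj g v
  have hσ : ∀ k : K, k ^ 2 = 1 → S.σ g k = k := fun k hk => by
    rcases sq_eq_one_iff.1 hk with rfl | rfl <;> simp
  have hb : ∀ a, bsgn K a ^ 2 = 1 := fun a => by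
    rcases (show a = 0 ∨ a = 1 by revert a; decide) with rfl | rfl <;> simp [bsgn]
  have h : g • S.op v (S.op v z) = g • (bsgn K (S.sqBit v) • z) := by rw [S.sq_eq hpow]
  have hcc : c * c = 1 := by rw [← pow_two, hc]
  rw [e, e, S.semi, hσ _ (hb _), map_smul, smul_smul, hcc, one_smul, S.sq_eq hpow] at h
  exact bsgn_inj hK (PS.smul_inj (smul_ne_zero_iff_ne g |>.2 hz) h)

theorem img_solvable [Group.IsSolvable A] : Group.IsSolvable (imgΩ A Ω) :=
  solvable_of_surjective (MulAction.toPermHom A Ω).rangeRestrict_surjective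

theorem img_coprime [Finite A] (h3 : (Nat.card A).Coprime 3) : (Nat.card (imgΩ A Ω)).Coprime 3 :=
  Nat.Coprime.coprime_dvd_left (Subgroup.card_range_dvd _) h3

/-- The data of the image on the quotient space. -/
noncomputable def PS.smallData [Finite A] (hK : (-1 : K) ≠ 1) (hexp : ∀ v : Ω, 2 • v = 0)
    (hirr : ∀ U : AddSubgroup Ω, (∀ g : A, ∀ u ∈ U, g • u ∈ U) → U = ⊥ ∨ U = ⊤)
    (h3 : (Nat.card A).Coprime 3) :
    letI := imgAction (A := A) (Ω := Ω)
    Small3.Data (imgΩ A Ω) Ω :=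
  letI := imgAction (A := A) (Ω := Ω)
  { β := S.sqBit
    B := S.pairBit
    two := fun v => by rw [← two_nsmul]; exact hexp v
    polar := S.sqBit_polar hpow hK
    add_left := S.pairBit_add hK
    nondeg := fun v h => S.nondeg v fun w => by
      by_contra hne
      have := h w
      simp [PS.pairBit, hne] at this
    inv := fun h v => by
      obtain ⟨g, hg⟩ := h.2
      show S.sqBit (h.1 v) = _
      rw [← hg]; exact S.sqBit_inv hpow hK g v
    irred := fun U hU => hirr U fun g u hu => hU ⟨_, g, rfl⟩ u hu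
    faithful := fun h hh => Subtype.ext (Equiv.ext hh)
    cop := img_coprime h3 }

namespace Frame

variable {S} {m : ℕ} {Q : Type*} [AddCommGroup Q] (F : Frame S m Q)

theorem zero_on (M : (Fin m → ZMod 2) →+ Ω) (f : Ω → ZMod 2) (hf : ∀ u v, f (u + v) = f u + f v)
    (h : ∀ i, f (M (Pi.single i 1)) = 0) (a : Fin m → ZMod 2) : f (M a) = 0 := by
  let φ : (Fin m → ZMod 2) →+ ZMod 2 := (AddMonoidHom.mk' f hf).comp M
  have : AddSubgroup.closure (Set.range (sg 2 (m := m))) ≤ φ.ker :=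
    (AddSubgroup.closure_le _).2 (by rintro _ ⟨i, rfl⟩; exact h i)
  exact this (closure_sg (r := 2) ▸ AddSubgroup.mem_top a)

include hpow in
/-- The quadratic function in coordinates. -/
theorem sqBit_coord (hK : (-1 : K) ≠ 1) (a b : Fin m → ZMod 2) (h : Q) :
    S.sqBit (F.ι ((a, b), h)) = (∑ i, a i * b i) + S.sqBit (F.H h) := by
  have hsym : ∀ u v, S.pairBit u v = S.pairBit v u := fun u v => by
    refine bsgn_inj hK ?_
    rw [← S.pair_eq, ← S.pair_eq]
    have h1 := S.pair_swap two_ne_zero u v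
    have h2 : S.pair u v * S.pair u v = 1 := by rw [← pow_two]; exact S.pair_pow u v
    exact mul_left_cancel₀ (S.pair_ne two_ne_zero u v) (h2.trans h1.symm)
  have hr : ∀ u v w, S.pairBit u (v + w) = S.pairBit u v + S.pairBit u w := fun u v w => by
    rw [hsym, S.pairBit_add hK, hsym v, hsym w]
  have hpb : ∀ u v, S.pair u v = 1 → S.pairBit u v = 0 := fun u v e => by simp [PS.pairBit, e]
  have htot : ∀ (M : (Fin m → ZMod 2) →+ Ω),
      (∀ i j, S.pair (M (Pi.single i 1)) (M (Pi.single j 1)) = 1) → (∀ i, S.op (M (Pi.single i 1)) ^ 2 = 1) →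
      ∀ x, S.sqBit (M x) = 0 := by
    intro M hp hs
    have hB : ∀ x y, S.pairBit (M x) (M y) = 0 := fun x y =>
      zero_on M (fun u => S.pairBit u (M y)) (fun u v => S.pairBit_add hK u v _) (fun i =>
        zero_on M (fun w => S.pairBit (M (Pi.single i 1)) w) (hr _) (fun j => hpb _ _ (hp i j)) y) x
    let φ : (Fin m → ZMod 2) →+ ZMod 2 := AddMonoidHom.mk' (fun x => S.sqBit (M x)) fun x y => by
      rw [map_add, S.sqBit_polar hpow hK, hB, add_zero]
    intro x
    have : AddSubgroup.closure (Set.range (sg 2 (m := m))) ≤ φ.ker :=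
      (AddSubgroup.closure_le _).2 (by rintro _ ⟨i, rfl⟩; exact if_pos (hs i))
    exact this (closure_sg (r := 2) ▸ AddSubgroup.mem_top x)
  have hTL : S.pairBit (F.T a) (F.L b) = ∑ i, a i * b i := by
    have hs : ∀ i, S.pairBit (F.L (Pi.single i 1)) (F.T a) = a i := fun i => by
      refine bsgn_inj hK ?_
      rw [← S.pair_eq, F.pair_l, show F.ι.symm (F.T a) = ((a, 0), 0) from F.ι.symm_apply_apply _]
      show F.ω ^ (a i).val = _
      rw [two_root F.ω_pow F.ω_ne]
      rcases (show a i = 0 ∨ a i = 1 by generalize a i = c; revert c; decide) with e | e <;>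
        simp [e, bsgn, ZMod.val_one]
    let φ : (Fin m → ZMod 2) →+ ZMod 2 :=
      AddMonoidHom.mk' (fun x => S.pairBit (F.T a) (F.L x) + ∑ i, a i * x i) fun x y => by
        simp only [map_add, hr, Pi.add_apply, mul_add, Finset.sum_add_distrib]; abel
    have : AddSubgroup.closure (Set.range (sg 2 (m := m))) ≤ φ.ker := by
      refine (AddSubgroup.closure_le _).2 ?_
      rintro _ ⟨i, rfl⟩
      show S.pairBit (F.T a) (F.L (Pi.single i 1)) + ∑ j, a j * (Pi.single i 1 : Fin m → ZMod 2) j = 0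
      rw [hsym, hs, Finset.sum_eq_single i (fun j _ hj => by simp [hj]) (fun h => absurd (Finset.mem_univ i) h),
        Pi.single_eq_same, mul_one, CharTwo.add_self_eq_zero]
    have h0 := this (closure_sg (r := 2) ▸ AddSubgroup.mem_top b)
    have h2 : ∀ x y : ZMod 2, x + y = 0 → x = y := by decide
    exact h2 _ _ h0
  have hTH : S.pairBit (F.T a) (F.H h) = 0 :=
    zero_on F.T (fun u => S.pairBit u (F.H h)) (fun u v => S.pairBit_add hK u v _) (fun i => hpb _ _ (F.pair_tq i h)) a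
  have hLH : S.pairBit (F.L b) (F.H h) = 0 :=
    zero_on F.L (fun u => S.pairBit u (F.H h)) (fun u v => S.pairBit_add hK u v _) (fun i => hpb _ _ (F.pair_lq i h)) b
  rw [show F.ι ((a, b), h) = F.T a + F.L b + F.H h from by
      rw [← F.ι.apply_symm_apply (F.T a + F.L b + F.H h), F.unique],
    S.sqBit_polar hpow hK, S.sqBit_polar hpow hK, S.pairBit_add hK, hTL, hTH, hLH,
    htot F.T F.pair_tt F.t_pow, htot F.L F.pair_ll F.l_pow]
  ring

include hpow in
/-- Counting the nonzero singular vectors. -/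
theorem sing_count [Finite Ω] (hK : (-1 : K) ≠ 1) (βQ : Q → ZMod 2) (hQ : ∀ h, S.sqBit (F.H h) = βQ h) :
    Nat.card {v : Ω // v ≠ 0 ∧ S.sqBit v = 0} =
      Nat.card {p : ((Fin m → ZMod 2) × (Fin m → ZMod 2)) × Q //
        p ≠ 0 ∧ (∑ i, p.1.1 i * p.1.2 i) + βQ p.2 = 0} := by
  refine (Nat.card_congr (Equiv.subtypeEquiv F.ι.toEquiv fun p => ?_)).symm
  show _ ↔ F.ι p ≠ 0 ∧ _
  rw [Ne, Ne, EmbeddingLike.map_eq_zero_iff]
  show _ ↔ _ ∧ S.sqBit (F.ι ((p.1.1, p.1.2), p.2)) = 0
  rw [sqBit_coord hpow F hK, hQ]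

include F in
theorem card_eq [Finite Ω] : Nat.card Ω = 2 ^ (2 * m) * Nat.card Q := by
  haveI : Finite Q := Finite.of_injective (fun h => F.H h) fun a b e => by
    have := congrArg (fun v => (F.ι.symm v).2) e
    simpa [show ∀ h, F.ι.symm (F.H h) = ((0, 0), h) from fun h => F.ι.symm_apply_apply _] using this
  rw [← Nat.card_congr F.ι.toEquiv, Nat.card_prod, Nat.card_prod, Nat.card_fun, Nat.card_zmod, Nat.card_fin,
    ← pow_add, two_mul]

end Frame

/-- The quadratic function of a quaternion pair. -/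
def quatBit (h : ZMod 2 × ZMod 2) : ZMod 2 := if h = 0 then 0 else 1

theorem count_split_two : Fintype.card {p : ((Fin 2 → ZMod 2) × (Fin 2 → ZMod 2)) × PUnit //
    p ≠ 0 ∧ (∑ i, p.1.1 i * p.1.2 i) + 0 = 0} = 9 := by decide +kernel

theorem count_split_three : Fintype.card {p : ((Fin 3 → ZMod 2) × (Fin 3 → ZMod 2)) × PUnit //
    p ≠ 0 ∧ (∑ i, p.1.1 i * p.1.2 i) + 0 = 0} = 35 := by decide +kernel

theorem count_split_four : Fintype.card {p : ((Fin 4 → ZMod 2) × (Fin 4 → ZMod 2)) × PUnit //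
    p ≠ 0 ∧ (∑ i, p.1.1 i * p.1.2 i) + 0 = 0} = 135 := by decide +kernel

theorem count_quat_two : Fintype.card {p : ((Fin 2 → ZMod 2) × (Fin 2 → ZMod 2)) × (ZMod 2 × ZMod 2) //
    p ≠ 0 ∧ (∑ i, p.1.1 i * p.1.2 i) + quatBit p.2 = 0} = 27 := by decide +kernel

theorem count_quat_three : Fintype.card {p : ((Fin 3 → ZMod 2) × (Fin 3 → ZMod 2)) × (ZMod 2 × ZMod 2) //
    p ≠ 0 ∧ (∑ i, p.1.1 i * p.1.2 i) + quatBit p.2 = 0} = 119 := by decide +kernel

theorem count_quat_four : Fintype.card {p : ((Fin 4 → ZMod 2) × (Fin 4 → ZMod 2)) × (ZMod 2 × ZMod 2) //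
    p ≠ 0 ∧ (∑ i, p.1.1 i * p.1.2 i) + quatBit p.2 = 0} = 495 := by decide +kernel

namespace Frame

variable {S} {m : ℕ} {Q : Type*} [AddCommGroup Q] (F : Frame S m Q) [Finite A] [Group.IsSolvable A]

/-- An element trivial on the quotient space is trivial on the frame. -/
theorem proj_trivial {g g' : A} (h : ∀ v : Ω, g • v = g' • v) (a : Fin m → ZMod 2) : F.proj g a = F.proj g' a := by
  show (F.ι.symm (g • F.T a)).1.1 = (F.ι.symm (g' • F.T a)).1.1
  rw [h]

theorem toPerm_eq {g g' : A} (h : MulAction.toPermHom A Ω g = MulAction.toPermHom A Ω g') (v : Ω) :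
    g • v = g' • v := Equiv.ext_iff.1 h v

/-- A point with trivial stabiliser. -/
theorem exists_point [Finite Ω] (F3 : Frame S 3 Q) (h3 : (Nat.card A).Coprime 3)
    (hcyc : ∀ R : Subgroup (imgΩ A Ω), IsPGroup 2 R → IsCyclic R) {x : V} (hx : x ≠ 0) (hl : F3.LFix x)
    (hgen : ∀ (h : Q) (c : K), S.op (F3.H h) x = c • x → h = 0) :
    letI := F3.stabAction hx hl hgen
    ∃ z : Fin 3 → ZMod 2, z ≠ 0 ∧ ∀ g : MulAction.stabilizer A x, g • z = z → ∀ a : Fin 3 → ZMod 2, g • a = a := by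
  classical
  letI := F3.stabAction hx hl hgen
  have hG3 : (Nat.card (MulAction.stabilizer A x)).Coprime 3 :=
    Nat.Coprime.coprime_dvd_left (Subgroup.card_subgroup_dvd_card _) h3
  by_cases h7 : 7 ∣ Nat.card (img (MulAction.stabilizer A x) 3)
  · haveI : Fact (Nat.Prime 7) := ⟨by norm_num⟩
    obtain ⟨y, hy⟩ := exists_prime_orderOf_dvd_card' 7 h7
    obtain ⟨g, hg⟩ := y.2
    refine ⟨(Pi.single 0 1 : Fin 3 → ZMod 2), fun e => one_ne_zero (α := ZMod 2) (by simpa using congrFun e (0 : Fin 3)), fun k hk =>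
      gl3_semiregular (E := Fin 3 → ZMod 2) vec_add_self (by rw [Nat.card_fun, Nat.card_zmod, Nat.card_fin]; norm_num) hG3 ?_
        (v := (Pi.single 0 1 : Fin 3 → ZMod 2)) (fun e => one_ne_zero (α := ZMod 2) (by simpa using congrFun e 0)) k hk⟩
    refine ⟨g, ?_, fun a => ?_⟩
    · by_contra hno
      push_neg at hno
      rw [show y = 1 from Subtype.ext (by rw [← hg]; exact Equiv.ext hno), orderOf_one] at hy
      omega
    · have : y.1 ^ 7 = 1 := by
        have := pow_orderOf_eq_one y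
        rw [hy] at this
        exact congrArg Subtype.val this
      rw [← hg, ← map_pow] at this
      exact Equiv.ext_iff.1 this a
  have hI2 : IsPGroup 2 (img (MulAction.stabilizer A x) 3) := by
    refine (IsPGroup.iff_card).2 ⟨_, Nat.eq_prime_pow_of_unique_prime_dvd Nat.card_pos.ne' fun {q} hq hd => ?_⟩
    rcases img_primes (Or.inl rfl) hq hd with rfl | rfl | rfl | ⟨rfl, h⟩
    · rfl
    · have h1 : 3 ∣ Nat.card (MulAction.stabilizer A x) := hd.trans (Subgroup.card_range_dvd _)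
      exact absurd (Nat.Coprime.coprime_dvd_left h1 hG3) (by decide)
    · exact absurd hd h7
    · omega
  let π : MulAction.stabilizer A x →* imgΩ A Ω :=
    (MulAction.toPermHom A Ω).rangeRestrict.comp (MulAction.stabilizer A x).subtype
  obtain ⟨P⟩ := (inferInstance : Nonempty (Sylow 2 (MulAction.stabilizer A x)))
  let ψ := (MulAction.toPermHom (MulAction.stabilizer A x) (Fin 3 → ZMod 2)).rangeRestrict
  have hψ : Function.Surjective ψ := MonoidHom.rangeRestrict_surjective _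
  have hPtop : (P : Subgroup _).map ψ = ⊤ := by
    have hcard := IsPGroup.iff_card.1 hI2
    have h1 : (Sylow.mapSurjective hψ P).toSubgroup = ⊤ :=
      ((Sylow.mapSurjective hψ P).3 (hI2.to_subgroup ⊤) le_top).symm
    rwa [Sylow.coe_mapSurjective] at h1
  haveI := hcyc ((P : Subgroup _).map π) (P.2.map π)
  obtain ⟨⟨h, g0, hg0P, rfl⟩, hgen'⟩ := IsCyclic.exists_generator (α := (P : Subgroup _).map π)
  have hpow' : ∀ g : MulAction.stabilizer A x, ∃ k : ℕ, ψ g = ψ g0 ^ k := by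
    intro g
    obtain ⟨p, hp, hpg⟩ : ψ g ∈ (P : Subgroup _).map ψ := hPtop ▸ Subgroup.mem_top _
    obtain ⟨k, hk⟩ := mem_powers_iff_mem_zpowers.2 (hgen' ⟨π p, p, hp, rfl⟩)
    refine ⟨k, ?_⟩
    rw [← hpg, ← map_pow]
    refine Subtype.ext (Equiv.ext fun a => ?_)
    have hk' : π p = π (g0 ^ k) := by rw [map_pow]; exact (congrArg Subtype.val hk).symm
    show F3.proj p.1 a = F3.proj (g0 ^ k : MulAction.stabilizer A x).1 a
    exact proj_trivial F3 (toPerm_eq (congrArg Subtype.val hk')) a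
  obtain ⟨e, he⟩ := hI2 (ψ g0)
  by_cases hy1 : ψ g0 = 1
  · refine ⟨(Pi.single 0 1 : Fin 3 → ZMod 2), fun e => one_ne_zero (α := ZMod 2) (by simpa using congrFun e (0 : Fin 3)), fun g _ a => ?_⟩
    obtain ⟨k, hk⟩ := hpow' g
    rw [hy1, one_pow] at hk
    exact Equiv.ext_iff.1 (congrArg Subtype.val hk) a
  have hex : ∃ j, ψ g0 ^ 2 ^ j = 1 := ⟨e, he⟩
  obtain ⟨j, hj⟩ : ∃ j, Nat.find hex = j + 1 := ⟨Nat.find hex - 1, by
    rcases Nat.eq_zero_or_pos (Nat.find hex) with h0 | h0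
    · have := Nat.find_spec hex; rw [h0, pow_zero, pow_one] at this; exact absurd this hy1
    · omega⟩
  have hy' : ψ g0 ^ 2 ^ j ≠ 1 := Nat.find_min hex (by omega)
  obtain ⟨z, hz⟩ : ∃ z, (ψ g0 ^ 2 ^ j).1 z ≠ z := by
    by_contra h
    push_neg at h
    exact hy' (Subtype.ext (Equiv.ext h))
  refine ⟨z, fun e => hz ?_, fun g hgz a => ?_⟩
  · rw [e, ← map_pow]
    exact smul_zero (g0 ^ 2 ^ j)
  obtain ⟨k, hk⟩ := hpow' g
  have hfix : (ψ g0 ^ k).1 z = z := by rw [← hk]; exact hgz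
  suffices hk1 : ψ g0 ^ k = 1 by
    rw [hk1] at hk
    exact Equiv.ext_iff.1 (congrArg Subtype.val hk) a
  by_contra hne
  rcases Nat.eq_zero_or_pos k with rfl | hk0
  · exact hne (pow_zero _)
  obtain ⟨i, o, ho, rfl⟩ := Nat.exists_eq_two_pow_mul_odd hk0.ne'
  have hspec := Nat.find_spec hex
  rw [hj] at hspec
  have hij : i ≤ j := by
    by_contra h
    apply hne
    rw [show 2 ^ i = 2 ^ (j + 1) * 2 ^ (i - (j + 1)) by rw [← pow_add]; congr 1; omega, mul_assoc, pow_mul, hspec,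
      one_pow]
  apply hz
  have h2 : (ψ g0 ^ (2 ^ i * o)) ^ 2 ^ (j - i) = ψ g0 ^ 2 ^ j := by
    obtain ⟨o', rfl⟩ := ho
    rw [← pow_mul, show 2 ^ i * (2 * o' + 1) * 2 ^ (j - i) = 2 ^ (j + 1) * o' + 2 ^ j by
      rw [show 2 ^ (j + 1) = 2 * (2 ^ i * 2 ^ (j - i)) by
        rw [← pow_add, show i + (j - i) = j by omega, pow_succ]; ring]
      rw [show 2 ^ j = 2 ^ i * 2 ^ (j - i) by rw [← pow_add]; congr 1; omega]
      ring, pow_add, pow_mul, hspec, one_pow, one_mul]
  rw [← h2]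
  generalize ψ g0 ^ (2 ^ i * o) = y at hfix
  induction 2 ^ (j - i) with
  | zero => rw [pow_zero]; rfl
  | succ t ih => rw [pow_succ, Subgroup.coe_mul, Equiv.Perm.mul_apply, hfix, ih]

/-- No element of order seven on the frame. -/
theorem no_seven_frame (h7 : ¬ 7 ∣ Nat.card (imgΩ A Ω)) {x : V} (hx : x ≠ 0) (hl : F.LFix x)
    (hgen : ∀ (h : Q) (c : K), S.op (F.H h) x = c • x → h = 0) :
    letI := F.stabAction hx hl hgen
    ¬ 7 ∣ Nat.card (img (MulAction.stabilizer A x) m) := by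
  letI := F.stabAction hx hl hgen
  intro hd
  haveI : Fact (Nat.Prime 7) := ⟨by norm_num⟩
  obtain ⟨y, hy⟩ := exists_prime_orderOf_dvd_card' 7 hd
  obtain ⟨g, hg⟩ := y.2
  let h : imgΩ A Ω := (MulAction.toPermHom A Ω).rangeRestrict g.1
  refine h7 (dvd_trans ?_ (orderOf_dvd_natCard h))
  rw [← hy, orderOf_dvd_iff_pow_eq_one]
  refine Subtype.ext ?_
  have h1 : MulAction.toPermHom A Ω (g ^ orderOf h).1 = MulAction.toPermHom A Ω 1 := by
    rw [map_one, Subgroup.coe_pow, map_pow]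
    exact congrArg Subtype.val (pow_orderOf_eq_one h)
  rw [Subgroup.coe_pow, ← hg, ← map_pow]
  refine Equiv.ext fun a => ?_
  show F.proj (g ^ orderOf h : MulAction.stabilizer A x).1 a = a
  rw [F.proj_trivial (toPerm_eq h1), F.proj_one]

end Frame

end Cfsg.Agent.BaseTwo
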