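import Cfsg.Agent.BaseTwo.Reduce
import Cfsg.Agent.Coprime.Action

/-!
Coprime actions on groups have the fixed-point numbers of modules, so two points suffice.
-/

set_option autoImplicit false
set_option maxHeartbeats 1000000

universe u

namespace Cfsg.Agent.BaseTwo.Transfer

open SemidirectProduct Coprime

variable {A : Type u} [Group A]

/-- The number of fixed points. -/
noncomputable def cnt (B : Subgroup A) (X : Type*) [MulAction A X] : ℕ :=
  Nat.card {x : X // ∀ b ∈ B, b • x = x}

/-- Two points whose common stabiliser acts trivially. -/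
def HasPair (A X : Type*) [Group A] [MulAction A X] : Prop :=
  ∃ x y : X, ∀ a : A, a • x = x → a • y = y → ∀ z : X, a • z = z

theorem cnt_sum [Finite A] [Fintype (Subgroup A)] [DecidableLE (Subgroup A)] (Z : Type*) [Finite Z] [MulAction A Z]
    (C : Subgroup A) :
    cnt C Z = ∑ D ∈ Finset.univ.filter (C ≤ ·), Nat.card {z : Z // MulAction.stabilizer A z = D} := by
  classical
  haveI := Fintype.ofFinite Z
  simp only [cnt, Nat.card_eq_fintype_card, Fintype.card_subtype]
  rw [Finset.card_eq_sum_card_fiberwise (s := Finset.univ.filter fun z : Z => ∀ b ∈ C, b • z = z)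
    (f := fun z : Z => MulAction.stabilizer A z) (t := Finset.univ.filter (C ≤ ·))
    (fun z hz => Finset.mem_filter.2 ⟨Finset.mem_univ _, (Finset.mem_filter.1 hz).2⟩)]
  refine Finset.sum_congr rfl fun D hD => ?_
  rw [Finset.filter_filter]
  congr 1
  ext z
  simp only [Finset.mem_filter, Finset.mem_univ, true_and]
  exact ⟨fun h => h.2, fun h => ⟨fun b hb => (h ▸ (Finset.mem_filter.1 hD).2 hb : b ∈ MulAction.stabilizer A z), h⟩⟩

theorem exact_eq [Finite A] {X Y : Type*} [Finite X] [Finite Y] [MulAction A X] [MulAction A Y]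
    (h : ∀ B : Subgroup A, cnt B X = cnt B Y) (B : Subgroup A) :
    Nat.card {z : X // MulAction.stabilizer A z = B} = Nat.card {z : Y // MulAction.stabilizer A z = B} := by
  classical
  haveI := Fintype.ofFinite (Subgroup A)
  induction B using WellFoundedGT.induction with
  | _ B ih =>
  have hB : B ∈ Finset.univ.filter (B ≤ ·) := Finset.mem_filter.2 ⟨Finset.mem_univ B, le_rfl⟩
  have h1 := h B
  rw [cnt_sum X B, cnt_sum Y B, ← Finset.add_sum_erase _ _ hB, ← Finset.add_sum_erase _ _ hB,
    Finset.sum_congr rfl fun D hD => ih D (lt_of_le_of_ne (Finset.mem_filter.1 (Finset.mem_of_mem_erase hD)).2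
      (Ne.symm (Finset.ne_of_mem_erase hD)))] at h1
  exact Nat.add_right_cancel h1

theorem cnt_bot (X : Type*) [MulAction A X] : cnt (⊥ : Subgroup A) X = Nat.card X :=
  Nat.card_congr (Equiv.subtypeUnivEquiv fun x b hb => by rw [Subgroup.mem_bot.1 hb, one_smul])

theorem cnt_prod (B : Subgroup A) (X Y : Type*) [MulAction A X] [MulAction A Y] :
    cnt B (X × Y) = cnt B X * cnt B Y := by
  rw [cnt, cnt, cnt, ← Nat.card_prod]
  refine Nat.card_congr ?_
  exact
    { toFun := fun z => (⟨z.1.1, fun b hb => congrArg Prod.fst (z.2 b hb)⟩, ⟨z.1.2, fun b hb => congrArg Prod.snd (z.2 b hb)⟩)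
      invFun := fun z => ⟨(z.1.1, z.2.1), fun b hb => Prod.ext (z.1.2 b hb) (z.2.2 b hb)⟩
      left_inv := fun z => rfl
      right_inv := fun z => rfl }

/-- Equal fixed-point numbers transfer pairs. -/
theorem HasPair.transfer [Finite A] {X Y : Type*} [Finite X] [Finite Y] [MulAction A X] [MulAction A Y]
    (h : ∀ B : Subgroup A, cnt B X = cnt B Y) (hY : HasPair A Y) : HasPair A X := by
  obtain ⟨x, y, hxy⟩ := hY
  have h2 : ∀ B : Subgroup A, cnt B (X × X) = cnt B (Y × Y) := fun B => by rw [cnt_prod, cnt_prod, h]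
  have he := exact_eq h2 (MulAction.stabilizer A (x, y))
  obtain ⟨⟨⟨x', y'⟩, hz⟩⟩ : Nonempty {z : X × X // MulAction.stabilizer A z = MulAction.stabilizer A (x, y)} := by
    haveI : Nonempty {z : Y × Y // MulAction.stabilizer A z = MulAction.stabilizer A (x, y)} := ⟨⟨(x, y), rfl⟩⟩
    exact (Nat.card_pos_iff.1 (he ▸ Nat.card_pos)).1
  refine ⟨x', y', fun a hx hy z => ?_⟩
  have ha : a ∈ MulAction.stabilizer A (x, y) := hz ▸ (Prod.ext hx hy : a • (x', y') = (x', y'))
  have htriv : ∀ w : Y, a • w = w := hxy a (congrArg Prod.fst ha) (congrArg Prod.snd ha)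
  have hcy : cnt (Subgroup.zpowers a) Y = Nat.card Y := Nat.card_congr (Equiv.subtypeUnivEquiv fun w b hb =>
    (Subgroup.zpowers_le.2 (show a ∈ MulAction.stabilizer A w from htriv w)) hb)
  have hcx : cnt (Subgroup.zpowers a) X = Nat.card X := by
    rw [h, hcy, ← cnt_bot (A := A) Y, ← h, cnt_bot]
  have hsurj := ((Nat.bijective_iff_injective_and_card
    (fun w : {w : X // ∀ b ∈ Subgroup.zpowers a, b • w = w} => w.1)).2 ⟨Subtype.val_injective, hcx⟩).2
  obtain ⟨w, rfl⟩ := hsurj z
  exact w.2 a (Subgroup.mem_zpowers a)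

section Groups

variable {X : Type u} [Group X] [MulDistribMulAction A X]

/-- The action as automorphisms. -/
def act (B : Subgroup A) : B →* MulAut X := (MulDistribMulAction.toMulAut A X).comp B.subtype

theorem act_apply (B : Subgroup A) (b : B) (x : X) : act B b x = b.1 • x := rfl

theorem cnt_fixed (B : Subgroup A) : cnt B X = Nat.card (fixedSubgroup (act (X := X) B)) :=
  Nat.card_congr (Equiv.subtypeEquivRight fun x =>
    ⟨fun h b => h b.1 b.2, fun h b hb => h ⟨b, hb⟩⟩)

theorem cnt_sub (B : Subgroup A) (N : Subgroup X) [MulAction A N]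
    (hact : ∀ (a : A) (n : N), ((a • n : N) : X) = a • (n : X)) :
    cnt B N = Nat.card (N ⊓ fixedSubgroup (act (X := X) B) : Subgroup X) :=
  Nat.card_congr
    { toFun := fun n => ⟨n.1.1, n.1.2, fun b => by rw [act_apply, ← hact, n.2 b.1 b.2]⟩
      invFun := fun n => ⟨⟨n.1, n.2.1⟩, fun b hb => Subtype.ext (by rw [hact]; exact n.2.2 ⟨b, hb⟩)⟩
      left_inv := fun n => rfl
      right_inv := fun n => rfl }

variable [Finite A] [Finite X] [Group.IsSolvable A]

/-- The fixed points of a quotient. -/
theorem card_fixed_quot (B : Subgroup A) (hcop : (Nat.card A).Coprime (Nat.card X)) (N : Subgroup X) [N.Normal]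
    (hN : ∀ a : A, ∀ n ∈ N, a • n ∈ N) [MulAction A (X ⧸ N)]
    (hq : ∀ (a : A) (x : X), a • (QuotientGroup.mk x : X ⧸ N) = QuotientGroup.mk (a • x)) :
    cnt B X = Nat.card (N ⊓ fixedSubgroup (act (X := X) B) : Subgroup X) * cnt B (X ⧸ N) := by
  set φ := act (X := X) B
  let F := fixedSubgroup φ
  let f : F →* X ⧸ N := (QuotientGroup.mk' N).comp F.subtype
  have hsurj : ∀ q : X ⧸ N, (∀ b ∈ B, b • q = q) → q ∈ f.range := by
    intro q hqf
    obtain ⟨k, rfl⟩ := QuotientGroup.mk_surjective q
    haveI := finite_semidirect φ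
    have hsolvB : Group.IsSolvable (inA φ) :=
      Group.isSolvable_of_surjective (f := (inr : B →* X ⋊[φ] B).rangeRestrict) (MonoidHom.rangeRestrict_surjective _)
    obtain ⟨m, ⟨n, hn, rfl⟩, hm⟩ := exists_fixed_mem_leftCoset (A := inA φ) (N := N.map inl)
      ((inA_le_normalizer_map_iff φ).2 fun b n hn => hN b.1 n hn)
      (by
        rw [card_inA, Subgroup.card_map_of_injective inl_injective]
        exact (Nat.Coprime.coprime_dvd_left (Subgroup.card_subgroup_dvd_card B) hcop).coprime_dvd_right
          (Subgroup.card_subgroup_dvd_card N))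
      (Or.inl hsolvB) (k := inl k) (by
        rintro _ ⟨b, rfl⟩
        refine ⟨k⁻¹ * φ b k, ?_, by rw [map_mul, map_inv, ← inr_conj_inl]⟩
        exact (QuotientGroup.eq (s := N)).1 (((hq b.1 k).symm.trans (hqf b.1 b.2)).symm))
    rw [← map_mul, inl_mem_centralizer] at hm
    exact ⟨⟨k * n, hm⟩, QuotientGroup.eq.2 (by simpa [mul_assoc] using N.inv_mem hn)⟩
  have hrange : Nat.card f.range = cnt B (X ⧸ N) := by
    refine Nat.card_congr (Equiv.subtypeEquivRight fun q => ⟨?_, hsurj q⟩)
    rintro ⟨x, rfl⟩ b hb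
    exact (hq b x.1).trans (congrArg QuotientGroup.mk (x.2 ⟨b, hb⟩))
  have hker : Nat.card f.ker = Nat.card (N ⊓ F : Subgroup X) :=
    Nat.card_congr
      { toFun := fun x => ⟨x.1.1, (QuotientGroup.eq_one_iff _).1 x.2, x.1.2⟩
        invFun := fun x => ⟨⟨x.1, x.2.2⟩, (QuotientGroup.eq_one_iff _).2 x.2.1⟩
        left_inv := fun x => rfl
        right_inv := fun x => rfl }
  rw [cnt_fixed, ← hrange, ← hker, ← Nat.card_congr (QuotientGroup.quotientKerEquivRange f).toEquiv, mul_comm]
  exact Subgroup.card_eq_card_quotient_mul_card_subgroup f.ker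

/-- An invariant Sylow subgroup meets fixed points in a Sylow subgroup. -/
theorem card_fixed_sylow (B : Subgroup A) (hcop : (Nat.card A).Coprime (Nat.card X)) {p : ℕ} [Fact p.Prime]
    (P : Sylow p X) (hP : ∀ a : A, ∀ x ∈ (P : Subgroup X), a • x ∈ (P : Subgroup X)) :
    Nat.card ((P : Subgroup X) ⊓ fixedSubgroup (act (X := X) B) : Subgroup X) =
      p ^ (cnt B X).factorization p := by
  set φ := act (X := X) B
  let F := fixedSubgroup φ
  haveI := finite_semidirect φ
  have hsolvB := isSolvable_inA_or_inG φ (Or.inl (inferInstance : Group.IsSolvable B))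
  have hcB : (Nat.card (inA φ)).Coprime (Nat.card (inG φ)) :=
    coprime_inA_inG φ (Nat.Coprime.coprime_dvd_left (Subgroup.card_subgroup_dvd_card B) hcop)
  let e : X ≃* inG φ := MonoidHom.ofInjective inl_injective
  let P1 : Sylow p (inG φ) := P.mapSurjective (f := e.toMonoidHom) e.surjective
  have hP1 : (P1 : Subgroup (inG φ)).map (inG φ).subtype = (P : Subgroup X).map inl := by
    rw [show P1.toSubgroup = P.toSubgroup.map e.toMonoidHom from Sylow.coe_mapSurjective _ _, Subgroup.map_map]
    rfl
  obtain ⟨Q⟩ := (inferInstance : Nonempty (Sylow p F))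
  let U : Subgroup X := (Q : Subgroup F).map F.subtype
  have hU : U ≤ F := Subgroup.map_subtype_le _
  obtain ⟨P2, hUP2, hP2⟩ := exists_le_invariant_sylow (inA_le_normalizer_inG φ) hcB hsolvB (p := p)
    (U := U.map inl) (Subgroup.map_le_range inl U) ((Q.2.map _).map _)
    ((inA_le_normalizer_map_iff φ).2 fun b u hu => by rw [hU hu b]; exact hu)
  obtain ⟨c, hc, hcP⟩ := exists_centralizer_conj_sylow (inA_le_normalizer_inG φ) hcB hsolvB P2 P1 hP2
    (by rw [hP1]; exact (inA_le_normalizer_map_iff φ).2 fun b x hx => hP b.1 x hx)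
  obtain ⟨c', hc'⟩ := c.2
  rw [← hc', inl_mem_centralizer] at hc
  have hle : U.map (MulAut.conj c').toMonoidHom ≤ (P : Subgroup X) ⊓ F := by
    rintro _ ⟨u, hu, rfl⟩
    refine ⟨?_, F.mul_mem (F.mul_mem hc (hU hu)) (F.inv_mem hc)⟩
    obtain ⟨z, hz, ez⟩ := hUP2 (Subgroup.mem_map_of_mem inl hu)
    have h2 : c * z * c⁻¹ ∈ (P1 : Subgroup (inG φ)) := by
      rw [← hcP]
      exact ⟨z, hz, rfl⟩
    have h3 : (inl (c' * u * c'⁻¹) : X ⋊[φ] B) ∈ (P : Subgroup X).map inl := by
      rw [← hP1]
      refine ⟨_, h2, ?_⟩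
      change (c : X ⋊[φ] B) * (z : X ⋊[φ] B) * (c : X ⋊[φ] B)⁻¹ = _
      rw [map_mul, map_mul, map_inv, hc', show (z : X ⋊[φ] B) = inl u from ez]
    exact (Subgroup.mem_map_iff_mem inl_injective).1 h3
  have hlow : p ^ (cnt B X).factorization p ≤ Nat.card ((P : Subgroup X) ⊓ F : Subgroup X) := by
    rw [cnt_fixed, ← Q.card_eq_multiplicity, ← Subgroup.card_map_of_injective F.subtype_injective,
      ← Subgroup.card_map_of_injective (K := U) (f := (MulAut.conj c').toMonoidHom) (MulAut.conj c').injective]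
    exact Nat.card_le_card_of_injective _ (Subgroup.inclusion_injective hle)
  obtain ⟨k, hk⟩ := (P.2.to_le (inf_le_left (b := F))).exists_card_eq
  have hdvd : p ^ k ∣ cnt B X := by
    rw [cnt_fixed, ← hk]; exact Subgroup.card_dvd_of_le inf_le_right
  have hk2 : k ≤ (cnt B X).factorization p :=
    ((Fact.out : p.Prime).pow_dvd_iff_le_factorization (by rw [cnt_fixed]; exact Nat.card_pos.ne')).1 hdvd
  rw [hk] at hlow ⊢
  exact le_antisymm (Nat.pow_le_pow_right (Fact.out : p.Prime).pos hk2) hlow

end Groups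

variable [Finite A] [Group.IsSolvable A]

/-- An elementary abelian group. -/
theorem pair_elementary (p : ℕ) [Fact p.Prime] {X : Type u} [CommGroup X] [Finite X] [MulDistribMulAction A X]
    (hp : ∀ x : X, x ^ p = 1) (hcop : (Nat.card A).Coprime p) : HasPair A X := by
  letI : DistribMulAction A (Additive X) :=
    { smul := fun a x => Additive.ofMul (a • Additive.toMul x)
      one_smul := fun x => one_smul A (Additive.toMul x)
      mul_smul := fun a b x => mul_smul a b (Additive.toMul x)
      smul_zero := fun a => (smul_one a : a • (1 : X) = 1)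
      smul_add := fun a x y => smul_mul' a (Additive.toMul x) (Additive.toMul y) }
  obtain ⟨x, y, h⟩ := Reduce.exists_two p (Additive X) A (fun v => hp (Additive.toMul v)) hcop
  exact ⟨Additive.toMul x, Additive.toMul y, fun a hx hy z => h a hx hy (Additive.ofMul z)⟩

/-- A group of prime power order. -/
theorem pair_pGroup (p : ℕ) [Fact p.Prime] : ∀ (n : ℕ) (X : Type u) [Group X] [Finite X]
    [MulDistribMulAction A X], IsPGroup p X → (Nat.card A).Coprime (Nat.card X) → Nat.card X = n →
    HasPair A X := by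
  intro n
  induction n using Nat.strong_induction_on with
  | _ n ih =>
  intro X _ _ _ hX hcop hn
  rcases subsingleton_or_nontrivial X with hs | hnt
  · exact ⟨1, 1, fun a _ _ z => Subsingleton.elim _ _⟩
  let N : Subgroup X :=
    { carrier := {x | x ∈ Subgroup.center X ∧ x ^ p = 1}
      one_mem' := ⟨Subgroup.one_mem _, one_pow p⟩
      mul_mem' := fun {x y} hx hy => ⟨mul_mem hx.1 hy.1, by
        rw [(show Commute x y from (Subgroup.mem_center_iff.1 hx.1 y).symm).mul_pow, hx.2, hy.2, one_mul]⟩
      inv_mem' := fun {x} hx => ⟨inv_mem hx.1, by rw [inv_pow, hx.2, inv_one]⟩ }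
  haveI hNn : N.Normal := ⟨fun x hx g => by
    have e : g * x * g⁻¹ = x := by rw [Subgroup.mem_center_iff.1 hx.1 g, mul_inv_cancel_right]
    rw [e]; exact hx⟩
  have hNinv : ∀ a : A, ∀ x ∈ N, a • x ∈ N := fun a x hx => by
    refine ⟨Subgroup.mem_center_iff.2 fun y => ?_, by rw [← smul_pow', hx.2, smul_one]⟩
    rw [← smul_inv_smul a y, ← smul_mul', ← smul_mul', Subgroup.mem_center_iff.1 hx.1]
  letI : CommGroup N :=
    { (inferInstance : Group N) with
      mul_comm := fun x y => Subtype.ext (Subgroup.mem_center_iff.1 y.2.1 x.1) }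
  letI : MulDistribMulAction A N :=
    { smul := fun a x => ⟨a • x.1, hNinv a x.1 x.2⟩
      one_smul := fun x => Subtype.ext (one_smul A x.1)
      mul_smul := fun a b x => Subtype.ext (mul_smul a b x.1)
      smul_mul := fun a x y => Subtype.ext (smul_mul' a x.1 y.1)
      smul_one := fun a => Subtype.ext (smul_one a) }
  obtain ⟨z, hz1, hzN⟩ : ∃ z : X, z ≠ 1 ∧ z ∈ N := by
    haveI := hX.center_nontrivial
    have hd : p ∣ Nat.card (Subgroup.center X) := by
      obtain ⟨k, hk⟩ := (hX.to_subgroup (Subgroup.center X)).exists_card_eq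
      rw [hk]
      refine dvd_pow_self p fun e => ?_
      rw [e, pow_zero] at hk
      have := Finite.one_lt_card (α := Subgroup.center X)
      omega
    obtain ⟨z, hz⟩ := exists_prime_orderOf_dvd_card' p hd
    refine ⟨z.1, fun e => ?_, z.2, ?_⟩
    · rw [show z = 1 from Subtype.ext e, orderOf_one] at hz
      exact (Fact.out : p.Prime).one_lt.ne hz
    · have := congrArg Subtype.val (hz ▸ pow_orderOf_eq_one z : z ^ p = 1)
      rwa [Subgroup.coe_pow, Subgroup.coe_one] at this
  have hcopp : (Nat.card A).Coprime p := by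
    refine hcop.coprime_dvd_right ?_
    have : orderOf z = p := orderOf_eq_prime hzN.2 hz1
    exact this ▸ orderOf_dvd_natCard z
  have hN2 : HasPair A N := pair_elementary p (fun x => Subtype.ext (by rw [Subgroup.coe_pow]; exact x.2.2)) hcopp
  letI : MulDistribMulAction A (X ⧸ N) :=
    { smul := fun a => QuotientGroup.map N N (MulDistribMulAction.toMonoidHom X a) (fun x hx => hNinv a x hx)
      one_smul := fun q => by
        obtain ⟨x, rfl⟩ := QuotientGroup.mk_surjective q
        show QuotientGroup.mk ((1 : A) • x) = _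
        rw [one_smul]
      mul_smul := fun a b q => by
        obtain ⟨x, rfl⟩ := QuotientGroup.mk_surjective q
        show QuotientGroup.mk ((a * b) • x) = QuotientGroup.mk (a • b • x)
        rw [mul_smul]
      smul_mul := fun a => map_mul (QuotientGroup.map N N (MulDistribMulAction.toMonoidHom X a) fun x hx => hNinv a x hx)
      smul_one := fun a => map_one (QuotientGroup.map N N (MulDistribMulAction.toMonoidHom X a) fun x hx => hNinv a x hx) }
  have hlt : Nat.card (X ⧸ N) < n := by
    have h := Subgroup.card_eq_card_quotient_mul_card_subgroup N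
    have h1 : 1 < Nat.card N := by
      haveI : Nontrivial N := ⟨⟨⟨z, hzN⟩, 1, fun e => hz1 (Subtype.ext_iff.1 e)⟩⟩
      exact Finite.one_lt_card
    rw [← hn, h]
    exact lt_mul_of_one_lt_right Nat.card_pos h1
  have hQ : HasPair A (X ⧸ N) := ih _ hlt (X ⧸ N) (hX.to_quotient N)
    (hcop.coprime_dvd_right (Subgroup.card_quotient_dvd_card N)) rfl
  refine HasPair.transfer (Y := N × (X ⧸ N)) (fun B => ?_) ?_
  · rw [cnt_prod, card_fixed_quot B hcop N hNinv (fun a x => rfl), cnt_sub B N (fun a n => rfl)]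
  · obtain ⟨x1, y1, h1⟩ := hN2
    obtain ⟨x2, y2, h2⟩ := hQ
    exact ⟨(x1, x2), (y1, y2), fun a hx hy w => Prod.ext (h1 a (congrArg Prod.fst hx) (congrArg Prod.fst hy) w.1)
      (h2 a (congrArg Prod.snd hx) (congrArg Prod.snd hy) w.2)⟩

/-- A coprime action on a finite group. -/
theorem pair_group (X : Type u) [Group X] [Finite X] [MulDistribMulAction A X]
    (hcop : (Nat.card A).Coprime (Nat.card X)) : HasPair A X := by
  classical
  let ι := {p // p ∈ (Nat.card X).primeFactors}
  have hpr : ∀ i : ι, Fact i.1.Prime := fun i => ⟨Nat.prime_of_mem_primeFactors i.2⟩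
  have hP : ∀ i : ι, ∃ P : Sylow i.1 X, ∀ a : A, ∀ x ∈ (P : Subgroup X), a • x ∈ (P : Subgroup X) := fun i => by
    haveI := hpr i
    exact exists_invariant_sylow_act (MulDistribMulAction.toMulAut A X) hcop (Or.inl inferInstance) i.1
  choose P hP using hP
  letI : ∀ i, MulDistribMulAction A (P i : Subgroup X) := fun i =>
    { smul := fun a x => ⟨a • x.1, hP i a x.1 x.2⟩
      one_smul := fun x => Subtype.ext (one_smul A x.1)
      mul_smul := fun a b x => Subtype.ext (mul_smul a b x.1)
      smul_mul := fun a x y => Subtype.ext (smul_mul' a x.1 y.1)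
      smul_one := fun a => Subtype.ext (smul_one a) }
  have hpair : ∀ i, HasPair A (P i : Subgroup X) := fun i => by
    haveI := hpr i
    exact pair_pGroup i.1 _ _ (P i).2 (hcop.coprime_dvd_right (Subgroup.card_subgroup_dvd_card _)) rfl
  choose x y hxy using hpair
  refine HasPair.transfer (Y := (i : ι) → (P i : Subgroup X)) (fun B => ?_)
    ⟨x, y, fun a hx hy w => funext fun i => hxy i a (congrFun hx i) (congrFun hy i) (w i)⟩
  have hpi : cnt B ((i : ι) → (P i : Subgroup X)) = ∏ i : ι, cnt B (P i : Subgroup X) := by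
    simp only [cnt]
    rw [← Nat.card_pi]
    exact Nat.card_congr
      { toFun := fun z i => ⟨z.1 i, fun b hb => congrFun (z.2 b hb) i⟩
        invFun := fun z => ⟨fun i => (z i).1, fun b hb => funext fun i => (z i).2 b hb⟩
        left_inv := fun z => rfl
        right_inv := fun z => rfl }
  rw [hpi]
  have hterm : ∀ i : ι, cnt B (P i : Subgroup X) = i.1 ^ (cnt B X).factorization i.1 := fun i => by
    haveI := hpr i
    rw [cnt_sub B (P i : Subgroup X) (fun a n => rfl), card_fixed_sylow B hcop (P i) (hP i)]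
  rw [Finset.prod_congr rfl fun i _ => hterm i]
  show cnt B X = ∏ i ∈ Finset.univ, _
  rw [Finset.univ_eq_attach, Finset.prod_attach _ (fun p => p ^ (cnt B X).factorization p)]
  have hne : cnt B X ≠ 0 := by rw [cnt_fixed]; exact Nat.card_pos.ne'
  have hdvd : cnt B X ∣ Nat.card X := by rw [cnt_fixed]; exact Subgroup.card_subgroup_dvd_card _
  rw [← Finset.prod_subset (Nat.primeFactors_mono hdvd Nat.card_pos.ne') (fun p _ hp => by
    rw [Finsupp.notMem_support_iff.1 (Nat.support_factorization _ ▸ hp), pow_zero])]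
  exact (Nat.prod_factorization_pow_eq_self hne).symm

end Cfsg.Agent.BaseTwo.Transfer
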